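import Groth.Agent.AdjFormLib.Ext
import Groth.Agent.CohCmpLib.PullZero

/-!
# The determinant of a short exact sequence of locally free modules
-/

set_option autoImplicit false
set_option linter.style.haveILetI false
set_option linter.unusedSectionVars false
set_option maxHeartbeats 1000000
set_option backward.isDefEq.respectTransparency false
set_option backward.isDefEq.respectTransparency.types false
universe u

open CategoryTheory CategoryTheory.Limits AlgebraicGeometry TopologicalSpace Opposite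
open DetDegLib (FrameAt)
open DevissLib (gm St gm_map)
open OmegaSh (pullSect)

noncomputable section

namespace RegConLib

theorem combo_bijective {R A B C : Type*} [CommRing R] [AddCommGroup A] [Module R A] [AddCommGroup B] [Module R B]
    [AddCommGroup C] [Module R C] {a c : ℕ} (F : A →ₗ[R] B) (G : B →ₗ[R] C) (hF : Function.Injective F)
    (hGF : ∀ x, G (F x) = 0) (hex : ∀ b, G b = 0 → ∃ x, F x = b) (e : Fin a → A)
    (he : Function.Bijective fun v : Fin a → R => ∑ i, v i • e i) (w : Fin c → B)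
    (hw : Function.Bijective fun v : Fin c → R => ∑ i, v i • G (w i)) :
    Function.Bijective fun v : Fin (a + c) → R =>
      ∑ i, v i • Sum.elim (fun j => F (e j)) w (finSumFinEquiv.symm i) := by
  have hsum : ∀ v : Fin (a + c) → R, ∑ i, v i • Sum.elim (fun j => F (e j)) w (finSumFinEquiv.symm i) =
      F (∑ j, v (finSumFinEquiv (Sum.inl j)) • e j) + ∑ j, v (finSumFinEquiv (Sum.inr j)) • w j := fun v => by
    rw [← finSumFinEquiv.sum_comp, Fintype.sum_sum_type]
    simp only [Equiv.symm_apply_apply, Sum.elim_inl, Sum.elim_inr, map_sum, map_smul]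
  have hG : ∀ v : Fin (a + c) → R, G (∑ i, v i • Sum.elim (fun j => F (e j)) w (finSumFinEquiv.symm i)) =
      ∑ j, v (finSumFinEquiv (Sum.inr j)) • G (w j) := fun v => by
    rw [hsum, map_add, hGF, zero_add, map_sum]
    simp only [map_smul]
  constructor
  · intro v v' h
    have h1 : (fun j => v (finSumFinEquiv (Sum.inr j))) = fun j => v' (finSumFinEquiv (Sum.inr j)) :=
      hw.1 ((hG v).symm.trans ((congrArg G h).trans (hG v')))
    have h2 := (hsum v).symm.trans (Eq.trans h (hsum v'))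
    have h3 : ∀ j, v (finSumFinEquiv (Sum.inr j)) = v' (finSumFinEquiv (Sum.inr j)) := congrFun h1
    simp only [h3] at h2
    have h4 := he.1 (hF (add_right_cancel h2))
    funext i
    obtain ⟨i | i, rfl⟩ := finSumFinEquiv.surjective i
    · exact congrFun h4 i
    · exact h3 i
  · intro b
    obtain ⟨p, hp⟩ := hw.2 (G b)
    obtain ⟨x, hx⟩ := hex (b - ∑ j, p j • w j) (by
      rw [map_sub, map_sum]
      simp only [map_smul]
      exact sub_eq_zero.2 hp.symm)
    obtain ⟨q, rfl⟩ := he.2 x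
    refine ⟨fun i => Sum.elim q p (finSumFinEquiv.symm i), (hsum _).trans ?_⟩
    simp only [Equiv.symm_apply_apply, Sum.elim_inl, Sum.elim_inr]
    rw [hx, sub_add_cancel]

variable {X : Scheme.{u}}

theorem exists_frame_rank {M : X.Modules} {n : ℕ} (hM : FlatMod.IsFinLocFreeOfRank n M) (x : X) :
    ∃ (U : X.Opens) (e : Fin n → Γ(M, U)), x ∈ U ∧ ∀ (y : X) (hy : y ∈ U), FrameAt M e hy := by
  obtain ⟨U, n', w, hx, hw'⟩ := ProjFormLib.exists_frame (E := M) (fun y => by
    obtain ⟨O, hO, hiso⟩ := hM y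
    exact ⟨O, n, hO, hiso⟩) x
  have hn' : n' = n := by
    obtain ⟨E⟩ := CurvLib.nonempty_stalk_pi_of_locFree hM x
    have hm := ((LinearEquiv.ofBijective _ (hw' x hx)).trans E).finrank_eq
    rwa [Module.finrank_fin_fun, Module.finrank_fin_fun] at hm
  subst n'
  refine ⟨U, w, hx, fun y hy => ?_⟩
  refine (congrArg Function.Bijective (funext fun v => ?_)).mp (hw' y hy)
  exact Fintype.linearCombination_apply _ _ v

section Seq

variable (S : ShortComplex X.Modules) (hS : S.ShortExact) {a c : ℕ} (hA : FlatMod.IsFinLocFreeOfRank a S.X₁)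
  (hC : FlatMod.IsFinLocFreeOfRank c S.X₃)

include hS hA hC in
theorem exists_adapted (x : X) : ∃ (W : X.affineOpens) (e : Fin a → Γ(S.X₁, W.1)) (b : Fin (a + c) → Γ(S.X₂, W.1)),
    x ∈ W.1 ∧ (∀ (y : X) (hy : y ∈ W.1), FrameAt S.X₁ e hy) ∧ (∀ (y : X) (hy : y ∈ W.1), FrameAt S.X₂ b hy) ∧
      ∀ j, b (finSumFinEquiv (Sum.inl j)) = S.f.app W.1 (e j) := by
  haveI := hS.mono_f
  haveI := hS.epi_g
  obtain ⟨U, e₀, hxU, he₀⟩ := exists_frame_rank hA x
  obtain ⟨U', f₀, hxU', hf₀⟩ := exists_frame_rank hC x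
  have hsurj : Function.Surjective ((St x).map S.g).hom := (ModuleCat.epi_iff_surjective _).1 inferInstance
  choose t ht using fun j => hsurj (gm S.X₃ x hxU' (f₀ j))
  choose O hO s hs using fun j => DevissLib.exists_gm_eq S.X₂ x (t j)
  have h1 : ∀ j, gm S.X₃ x (hO j) (S.g.app (O j) (s j)) = gm S.X₃ x hxU' (f₀ j) := fun j => by
    rw [← ht j, ← hs j]
    exact (ProjFormLib.ger_map S.g x (hO j) (s j)).symm
  choose N hN k k' hk using fun j => TopCat.Presheaf.germ_eq S.X₃.presheaf x (hO j) hxU' _ _ (h1 j)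
  obtain ⟨W, hW, hxW, hle⟩ := exists_isAffineOpen_mem_and_subset (x := x)
    (U := U ⊓ U' ⊓ ⟨⋂ j, (N j : Set X), isOpen_iInter_of_finite fun j => (N j).2⟩)
    ⟨⟨hxU, hxU'⟩, Set.mem_iInter.2 hN⟩
  have hWU : W ≤ U := fun z hz => (hle hz).1.1
  have hWU' : W ≤ U' := fun z hz => (hle hz).1.2
  have hWN : ∀ j, W ≤ N j := fun j z hz => Set.mem_iInter.1 (hle hz).2 j
  have hWO : ∀ j, W ≤ O j := fun j => (hWN j).trans (leOfHom (k j))
  let e : Fin a → Γ(S.X₁, W) := fun j => S.X₁.presheaf.map (homOfLE hWU).op (e₀ j)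
  let w : Fin c → Γ(S.X₂, W) := fun j => S.X₂.presheaf.map (homOfLE (hWO j)).op (s j)
  let b : Fin (a + c) → Γ(S.X₂, W) := fun i => Sum.elim (fun j => S.f.app W (e j)) w (finSumFinEquiv.symm i)
  have hge : ∀ (y : X) (hy : y ∈ W), FrameAt S.X₁ e hy := fun y hy =>
    (DetDegLib.frameAt_res hWU e₀ hy).2 (he₀ y (hWU hy))
  refine ⟨⟨W, hW⟩, e, b, hxW, hge, fun y hy => ?_, fun j => by simp [b]⟩
  have hex := fun v => PnDualLib.stalk_exact_of_exact hS.exact y v
  have hz : ∀ v, ((St y).map S.g).hom (((St y).map S.f).hom v) = 0 := fun v => by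
    rw [← ConcreteCategory.comp_apply, ← Functor.map_comp, S.zero, Functor.map_zero]
    rfl
  have hgw : ∀ j, ((St y).map S.g).hom (gm S.X₂ y hy (w j)) = gm S.X₃ y (hWU' hy) (f₀ j) := fun j => by
    refine (ProjFormLib.ger_map S.g y hy (w j)).trans ?_
    refine (congrArg (gm S.X₃ y hy) (QCohLib.app_map S.g (homOfLE (hWO j)) (s j))).trans ?_
    refine (gm_map S.X₃ (hWO j) y hy _).trans ?_
    refine ((TopCat.Presheaf.germ_res_apply S.X₃.presheaf (k j) y (hWN j hy) _).symm.trans ?_)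
    refine (congrArg (S.X₃.presheaf.germ (N j) y (hWN j hy)) (hk j)).trans ?_
    exact TopCat.Presheaf.germ_res_apply S.X₃.presheaf (k' j) y (hWN j hy) _
  have hbij := combo_bijective ((St y).map S.f).hom ((St y).map S.g).hom
    ((ModuleCat.mono_iff_injective _).1 inferInstance) hz hex (fun j => gm S.X₁ y hy (e j)) (hge y hy)
    (fun j => gm S.X₂ y hy (w j))
    ((congrArg Function.Bijective (funext fun v => Finset.sum_congr rfl fun j _ =>
      congrArg (v j • ·) (hgw j))).mpr (hf₀ y (hWU' hy)))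
  refine (congrArg Function.Bijective (funext fun v => Finset.sum_congr rfl fun i _ => congrArg (v i • ·) ?_)).mpr hbij
  show gm S.X₂ y hy (Sum.elim (fun j => S.f.app W (e j)) w (finSumFinEquiv.symm i)) = _
  rcases finSumFinEquiv.symm i with j | j
  · exact (ProjFormLib.ger_map S.f y hy (e j)).symm
  · rfl

include hS hA hC in
theorem rank_mid : FlatMod.IsFinLocFreeOfRank (a + c) S.X₂ :=
  AdjFormLib.isFinLocFreeOfRank_of_frames fun x => by
    obtain ⟨W, e, b, hx, -, hb, -⟩ := exists_adapted S hS hA hC x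
    exact ⟨W.1, b, hx, hb⟩

include hS hA hC in
/-- **The determinant is multiplicative in short exact sequences.** -/
theorem nonempty_det_ses {LA LB LC : X.Modules} (hLA : ExtPow.IsExtPow a S.X₁ LA)
    (hLB : ExtPow.IsExtPow (a + c) S.X₂ LB) (hLC : ExtPow.IsExtPow c S.X₃ LC) :
    Nonempty (LB ≅ CohB1.tensorMod LC LA) := by
  haveI := hS.mono_f
  haveI := hS.epi_g
  haveI : Coh.IsQCoh S.X₁ := (CurvLib.isCoh_of_locFree hA).1
  haveI : Coh.IsQCoh S.X₂ := (CurvLib.isCoh_of_locFree (rank_mid S hS hA hC)).1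
  haveI : Coh.IsQCoh S.X₃ := (CurvLib.isCoh_of_locFree hC).1
  let η := (Scheme.Modules.pullbackId X).app S.X₂
  let φ : S.X₁ ⟶ (Scheme.Modules.pullback (𝟙 X)).obj S.X₂ := S.f ≫ η.inv
  let ψ : (Scheme.Modules.pullback (𝟙 X)).obj S.X₂ ⟶ S.X₃ := η.hom ≫ S.g
  have hw : φ ≫ ψ = 0 := by
    show (S.f ≫ η.inv) ≫ η.hom ≫ S.g = 0
    rw [Category.assoc, η.inv_hom_id_assoc, S.zero]
  have hex : ∀ (y : X) (b : (St y).obj ((Scheme.Modules.pullback (𝟙 X)).obj S.X₂)),
      ((St y).map ψ).hom b = 0 → ∃ a, ((St y).map φ).hom a = b := by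
    intro y b hb
    rw [Functor.map_comp] at hb
    obtain ⟨v, hv⟩ := PnDualLib.stalk_exact_of_exact hS.exact y (((St y).map η.hom).hom b) hb
    refine ⟨v, ?_⟩
    rw [Functor.map_comp]
    show ((St y).map η.inv).hom (((St y).map S.f).hom v) = b
    rw [hv, ← ConcreteCategory.comp_apply, ← Functor.map_comp, η.hom_inv_id, CategoryTheory.Functor.map_id]
    rfl
  have hsurj : ∀ y : X, Function.Surjective ((St y).map ψ).hom := fun y => by
    haveI : Epi ψ := inferInstanceAs (Epi (η.hom ≫ S.g))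
    exact (ModuleCat.epi_iff_surjective _).1 inferInstance
  obtain ⟨φA, hA'⟩ := hLA
  obtain ⟨φB, hB'⟩ := hLB
  obtain ⟨φC, hC'⟩ := hLC
  have h := AdjFormLib.nonempty_det_iso (i := 𝟙 X) (σ := finSumFinEquiv) (φ := φ) ψ hex hsurj hw φA φB φC hA' hB'
    hC' fun x => by
    obtain ⟨W, e, b, hx, he, hb, hbe⟩ := exists_adapted S hS hA hC x
    refine ⟨⟨W, e, b, he, hb, fun j => ?_⟩, hx⟩
    rw [hbe]
    show η.inv.app W.1 (S.f.app W.1 (e j)) = pullSect (𝟙 X) S.X₂ W.1 (S.f.app W.1 (e j))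
    generalize S.f.app W.1 (e j) = m
    have h0 := CohCmpLib.pullbackId_puSecLE S.X₂ (le_refl W.1) m
    have h1 : η.hom.app W.1 (pullSect (𝟙 X) S.X₂ W.1 m) = m := by
      refine ((congrArg (η.hom.app W.1) (CohCmpLib.puSecLE_refl (𝟙 X) S.X₂ le_rfl m).symm).trans h0).trans ?_
      exact congr($(S.X₂.presheaf.map_id (op W.1)) m)
    conv_lhs => rw [← h1]
    exact congr((Scheme.Modules.Hom.app $(η.hom_inv_id) W.1) (pullSect (𝟙 X) S.X₂ W.1 m))
  obtain ⟨e⟩ := h
  exact ⟨((Scheme.Modules.pullbackId X).app LB).symm ≪≫ e⟩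

end Seq

end RegConLib
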