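import Groth.Agent.RegConLib.Euler
import Groth.Agent.VertChiLib.Formula
import Groth.Agent.VertChiLib.Fibre
import Groth.Agent.ContractLib.Artin

/-!
# Arithmetic genus of vertical divisors and the canonical sheaf
-/

set_option autoImplicit false
set_option linter.style.haveILetI false
set_option linter.unusedSectionVars false
set_option maxHeartbeats 1000000
set_option backward.isDefEq.respectTransparency false
set_option backward.isDefEq.respectTransparency.types false
universe u

open CategoryTheory CategoryTheory.Limits AlgebraicGeometry TopologicalSpace Opposite IsLocalRing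
open VertChiLib (J χ cst)

noncomputable section

namespace RegConLib

variable {R : Type u} [CommRing R] [IsDomain R] [IsDiscreteValuationRing R] {X : Over (Spec (CommRingCat.of R))}
  {r : ℕ} {Γ : Fin r → ArSurf.VertComp R X}

theorem eulerCharLE_one (k : Type u) [Field k] (Y : Scheme.{u}) [Y.Over (Spec (CommRingCat.of k))] (M : Y.Modules) :
    FGA.eulerCharLE k Y M 1 = (Module.finrank k (Coh.HH Y M 0) : ℤ) - (Module.finrank k (Coh.HH Y M 1) : ℤ) := by
  rw [FGA.eulerCharLE, Finset.sum_range_succ, Finset.sum_range_succ, Finset.sum_range_zero]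
  ring

/-- Adjunction with `χ(O_Γ) = h⁰ - h¹`. -/
theorem inter_add_inter_cst (hX : ArSurf.IsArithSurface R X) (E : ArSurf.VertComp R X) (L : X.left.Modules)
    (hL : ClSub.IsInverseOf L (ClSub.idealMod E.ι.ker)) (ω : X.left.Modules) (hω : Canon.IsCanonical X.hom ω) :
    ArSurf.inter R X L E + ArSurf.inter R X ω E = -2 * cst E := by
  rw [inter_add_inter hX E L hL ω hω, eulerCharLE_one]
  rfl

set_option maxHeartbeats 2000000 in
/-- The genus formula for a vertical divisor. -/
theorem two_χ_vert (hX : ArSurf.IsArithSurface R X)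
    (hΓ : Function.Injective fun i => Set.range ((Γ i).ι.base : (Γ i).curve.left → X.left))
    (L : Fin r → X.left.Modules) (hL : ∀ j, ClSub.IsInverseOf (L j) (ClSub.idealMod (Γ j).ι.ker))
    (ω : X.left.Modules) (hω : Canon.IsCanonical X.hom ω) [IsProper X.hom] (a : Fin r → ℕ) :
    ∑ i, (a i : ℤ) * (∑ j, (a j : ℤ) * ArSurf.inter R X (L j) (Γ i) + ArSurf.inter R X ω (Γ i)) =
      -2 * χ R (ClSub.quotMod (J Γ a)) := by
  classical
  have hX' := hX
  obtain ⟨hreg, hint, hdim, hflat, -⟩ := hX'
  haveI := hint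
  haveI := hflat
  haveI : IsLocallyNoetherian X.left := LocallyOfFiniteType.isLocallyNoetherian X.hom
  have hC : ∀ i, BlowUp.IsEffCartierIdeal (Γ i).ι.ker := fun i =>
    VertIntLib.isEffCartier_ker hreg (Γ i) (VertIntLib.isFibGen_of_dim hdim.le (Γ i))
  have hsym : ∀ i j, ArSurf.inter R X (L j) (Γ i) = ArSurf.inter R X (L i) (Γ j) := fun i j => by
    rcases eq_or_ne i j with rfl | hij
    · rfl
    · exact VertIntLib.inter_symm (hC i) (hC j)
        (VertIntLib.genPt_not_mem (Γ i) hdim.le (Γ j) fun e => hij (hΓ e))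
        (VertIntLib.genPt_not_mem (Γ j) hdim.le (Γ i) fun e => hij (hΓ e).symm) (hL i) (hL j)
  induction h : ∑ i, a i generalizing a with
  | zero =>
    obtain rfl : a = 0 := funext fun i => by simpa using (Finset.sum_eq_zero_iff.1 h) i (Finset.mem_univ i)
    rw [VertChiLib.J_zero, VertChiLib.χ_one]
    simp
  | succ m ih =>
    obtain ⟨i, hi⟩ : ∃ i, a i ≠ 0 := by
      by_contra hne
      push Not at hne
      simp [hne] at h
    obtain ⟨b, rfl⟩ : ∃ b, a = b + Pi.single i 1 := ⟨a - Pi.single i 1, funext fun j => by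
      rcases eq_or_ne j i with rfl | hj
      · simp; omega
      · simp [hj]⟩
    simp only [Pi.add_apply, Finset.sum_add_distrib, Finset.sum_pi_single', Finset.mem_univ, if_true] at h
    have h1 := ih b (by omega)
    have hstep := (VertChiLib.step hC b i (VertChiLib.fin1_J hC b)).2
    have hd : VertIntLib.dId (Γ i) (J Γ b) = -∑ j, (b j : ℤ) * ArSurf.inter R X (L j) (Γ i) := by
      rw [VertChiLib.dId_J (Γ i) hC b, ← Finset.sum_neg_distrib]
      exact Finset.sum_congr rfl fun j _ => by rw [VertIntLib.inter_eq_neg (Γ i) (hC j) (hL j)]; ring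
    have h2 : χ R (ClSub.quotMod (J Γ (b + Pi.single i 1))) = χ R (ClSub.quotMod (J Γ b)) +
        (-(∑ j, (b j : ℤ) * ArSurf.inter R X (L j) (Γ i)) + cst (Γ i)) := by rw [hstep, hd, cst]
    have hadj := inter_add_inter_cst hX (Γ i) (L i) (hL i) ω hω
    have h3 : ∑ k, (b k : ℤ) * ArSurf.inter R X (L i) (Γ k) = ∑ j, (b j : ℤ) * ArSurf.inter R X (L j) (Γ i) :=
      Finset.sum_congr rfl fun k _ => by rw [hsym k i]
    have hc : ∀ j, (((b + Pi.single i 1 : Fin r → ℕ) j : ℕ) : ℤ) = (b j : ℤ) + if j = i then 1 else 0 := fun j => by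
      rcases eq_or_ne j i with rfl | hj <;> simp [*]
    rw [h2]
    simp only [hc, add_mul, mul_add, Finset.sum_add_distrib, ite_mul, one_mul, zero_mul, mul_ite, mul_one,
      mul_zero, Finset.sum_ite_eq', Finset.mem_univ, if_true, h3, Finset.mul_sum, Finset.sum_ite_irrel,
      Finset.sum_const_zero] at h1 h3 hadj ⊢
    linarith

/-- Euler characteristic of the closed fibre. -/
theorem χ_fibre [IsProper X.hom] [Flat X.hom] {C : Scheme.{u}} {f : C ⟶ Spec (CommRingCat.of (FractionRing R))}
    {g : C ⟶ X.left}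
    (hg : IsPullback g f X.hom (Spec.map (CommRingCat.ofHom (algebraMap R (FractionRing R)))))
    (hfin : VertChiLib.Fin1 R (ClSub.quotMod (Models.specialFibreIdeal R X))) :
    χ R (ClSub.quotMod (Models.specialFibreIdeal R X)) =
      @Curv2.euler (FractionRing R) _ C ⟨f⟩ (Coh.structureModule C) := by
  let v := Spec.map (CommRingCat.ofHom (residue R))
  haveI : IsClosedImmersion v := IsClosedImmersion.spec_of_surjective _ residue_surjective
  have hJ : Models.specialFibreIdeal R X = (pullback.fst X.hom v).ker := by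
    rw [Models.specialFibreIdeal, ← VertChiLib.comap_ker X.hom v, VertChiLib.ker_specMap, IsLocalRing.ker_residue]
  haveI : LocallyOfFinitePresentation X.hom := LocallyOfFinitePresentation.iff_locallyOfFiniteType.2 inferInstance
  have hinv : PicF.IsInvertible (Coh.structureModule X.left) := CurvLib.isInvertible_structureModule
  obtain ⟨-, hfp, hfl⟩ := CohCmpLib.rank_one_hyps X.hom ((CohCmpLib.invertible_iff_rank_one _).1 hinv)
  let Z := pullback X.hom v
  let ι : Z ⟶ X.left := pullback.fst X.hom v
  let q : Z ⟶ Spec (CommRingCat.of (ResidueField R)) := pullback.snd X.hom v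
  haveI : IsClosedImmersion ι := inferInstanceAs (IsClosedImmersion (pullback.fst X.hom v))
  letI : Z.Over (Spec (CommRingCat.of (ResidueField R))) := ⟨q⟩
  haveI : IsProper (Z ↘ Spec (CommRingCat.of (ResidueField R))) := inferInstanceAs (IsProper q)
  haveI : IsNoetherian Z := CurvLib.isNoetherian (ResidueField R) (X := Z)
  obtain ⟨e⟩ := SurfNumLib.quotMod_ker_iso ι
  have hN : Coh.IsCoh (Coh.structureModule Z) := DevissLib.isCoh_structureModule Z
  have hlen := fun j => (VertChiLib.length_iso (A := R) ((eqToIso (congrArg ClSub.quotMod hJ)) ≪≫ e) j).trans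
    (VertChiLib.len_push' ι q pullback.condition.symm (Coh.structureModule Z) hN j)
  have hv : ∀ j, 2 ≤ j → Subsingleton (Coh.HH Z (Coh.structureModule Z) j) := fun j hj => by
    have h := hlen j
    haveI := hfin.2 j hj
    rw [Module.length_eq_zero] at h
    haveI : Module.Finite (ResidueField R) (Coh.HH Z (Coh.structureModule Z) j) :=
      CurvLib.finite_HH (k := ResidueField R) hN j
    exact (Module.finrank_zero_iff (R := ResidueField R)).1 (by exact_mod_cast h.symm)
  have h1 : χ R (ClSub.quotMod (Models.specialFibreIdeal R X)) =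
      Curv2.euler (ResidueField R) Z (Coh.structureModule Z) := by
    simp only [VertChiLib.χ, VertChiLib.len, hlen, ENat.toNat_natCast, CurvLib.euler_eq_sub hv]
  have h2 := CohCmpLib.euler_bc hfp hfl (IsPullback.of_hasPullback X.hom v) (closedPoint (ResidueField R))
  have h3 := CohCmpLib.euler_bc hfp hfl hg (closedPoint (FractionRing R))
  letI : C.Over (Spec (CommRingCat.of (FractionRing R))) := ⟨f⟩
  refine h1.trans ((CurvLib.euler_congr (k := ResidueField R) (KFlatLib.pullUnitIso ι).symm).trans ?_)
  refine h2.trans (((CohCmpLib.isLocallyConstant_eulerChar hfp hfl).apply_eq_of_preconnectedSpace _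
    (Spec.map (CommRingCat.ofHom (algebraMap R (FractionRing R))) (closedPoint (FractionRing R)))).trans ?_)
  exact h3.symm.trans (CurvLib.euler_congr (KFlatLib.pullUnitIso g))

/-- `Σ dᵢ (K·Γᵢ) = -2χ(O_{X_K})`. -/
theorem sum_mult_inter_canonical (hX : ArSurf.IsArithSurface R X) (hΓ : Models.IsComponentList R X Γ)
    (ω : X.left.Modules) (hω : Canon.IsCanonical X.hom ω) :
    ∑ i, (Models.mult R X (Γ i) : ℤ) * ArSurf.inter R X ω (Γ i) =
      -2 * FGA.eulerCharLE (FractionRing R) ((Neron.genericFibre R).obj X).left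
        (Coh.structureModule ((Neron.genericFibre R).obj X).left) 1 := by
  haveI : IsProper X.hom := VertIntLib.isProper_of_isArithSurface hX
  have hX' := hX
  obtain ⟨hreg, hint, hdim, hflat, -⟩ := hX'
  haveI := hint
  haveI := hflat
  haveI : IsLocallyNoetherian X.left := LocallyOfFiniteType.isLocallyNoetherian X.hom
  have hC := VertChiLib.isEffCartier_list hreg hΓ
  let L : Fin r → X.left.Modules := fun i => MiscFlat6.dual (ClSub.idealMod (Γ i).ι.ker)
  have hinj : Function.Injective fun i => Set.range ((Γ i).ι.base : (Γ i).curve.left → X.left) := fun i j h =>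
    VertIntLib.genPt_injective hΓ (by
      simp only [VertIntLib.range_eq_closure] at h
      exact (inseparable_iff_closure_eq.2 h).eq)
  have hL' : ∀ i, ClSub.IsInverseOf (L i) (ClSub.idealMod (Γ i).ι.ker) := fun i =>
    ⟨HilbPolyLib.swapIso _ _ ≪≫ (MiscFlat6.nonempty_dualIso (IntMultLib.isInvertible_idealMod _ (hC i))).some⟩
  have h := two_χ_vert hX hinj L hL' ω hω fun i => Models.mult R X (Γ i)
  have hrow : ∀ i, ∑ j, (Models.mult R X (Γ j) : ℤ) * ArSurf.inter R X (L j) (Γ i) = 0 :=
    fun i => VertIntLib.list_row hreg hΓ hL' i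
  simp only [hrow, zero_add] at h
  rw [h]
  have hspec := VertIntLib.specialFibreIdeal_eq hreg hΓ
  have hpb := IsPullback.of_hasPullback X.hom (Neron.genPt R)
  have hd : topologicalKrullDim ↥(pullback X.hom (Neron.genPt R)) ≤ ((1 : ℕ) : WithBot ℕ∞) :=
    (ContractLib.dim_genericFibre hdim).le
  rw [show (fun i => Models.mult R X (Γ i)) = fun i => Models.mult R X (Γ i) from rfl]
  change -2 * χ R (ClSub.quotMod (J Γ fun i => Models.mult R X (Γ i))) = _
  have hfin := VertChiLib.fin1_J hC (fun i => Models.mult R X (Γ i))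
  rw [show J Γ (fun i => Models.mult R X (Γ i)) = Models.specialFibreIdeal R X from hspec.symm] at hfin ⊢
  rw [χ_fibre (f := pullback.snd X.hom (Neron.genPt R)) hpb hfin]
  letI : (pullback X.hom (Neron.genPt R)).Over (Spec (CommRingCat.of (FractionRing R))) :=
    ⟨pullback.snd X.hom (Neron.genPt R)⟩
  haveI : IsProper (pullback X.hom (Neron.genPt R) ↘ Spec (CommRingCat.of (FractionRing R))) :=
    inferInstanceAs (IsProper (pullback.snd X.hom (Neron.genPt R)))
  exact congrArg (-2 * ·) (HilbPolyLib.eulerCharLE_eq (k := FractionRing R) hd _).symm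

end RegConLib
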