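import Groth.Agent.ConormalSecLib.Basic
import Groth.Agent.CohCmpLib.PullZero

/-!
# The map of conormal sheaves over a fixed subscheme
-/

set_option autoImplicit false
set_option linter.style.haveILetI false
set_option linter.unusedSectionVars false
set_option maxHeartbeats 1000000
set_option backward.isDefEq.respectTransparency false
set_option backward.isDefEq.respectTransparency.types false
universe u

open CategoryTheory CategoryTheory.Limits AlgebraicGeometry TopologicalSpace Opposite
open OmegaSh (idealSect conormalSect pullSect)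
open ConormalSecLib (lift idealSect_lift app_idealSect idealSect_smul idealSect_map idealSect_injective)

noncomputable section

namespace RegConLib

variable {Z X Y : Scheme.{u}} (i : Z ⟶ X) (j : Z ⟶ Y) (p : X ⟶ Y) (hij : i ≫ p = j) [QuasiCompact i]

include hij in
theorem pre_eq (U : Y.Opens) : j ⁻¹ᵁ U = i ⁻¹ᵁ (p ⁻¹ᵁ U) := by
  rw [← hij, Scheme.Hom.comp_preimage]

include hij in
theorem app_app (U : Y.Opens) (x : Γ(Y, U)) :
    Z.presheaf.map (homOfLE (pre_eq i j p hij U).le).op (i.app (p ⁻¹ᵁ U) (p.app U x)) = j.app U x := by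
  subst hij
  exact congr($(Z.presheaf.map_id (op ((i ≫ p) ⁻¹ᵁ U))) ((i ≫ p).app U x))

include hij in
theorem app_p_idealSect (U : Y.Opens) (s : Γ(ClSub.idealMod j.ker, U)) :
    i.app (p ⁻¹ᵁ U) (p.app U (idealSect j.ker U s)) = 0 := by
  subst hij
  exact app_idealSect (i ≫ p) U s

/-- A section of the ideal downstairs as a class upstairs. -/
def mapSect (U : Y.Opens) (s : Γ(ClSub.idealMod j.ker, U)) : Γ(Omega.conormal i, j ⁻¹ᵁ U) :=
  (Omega.conormal i).presheaf.map (homOfLE (pre_eq i j p hij U).le).op
    (conormalSect i (p ⁻¹ᵁ U) (lift i _ _ (app_p_idealSect i j p hij U s)))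

theorem mapSect_add (U : Y.Opens) (s t : Γ(ClSub.idealMod j.ker, U)) :
    mapSect i j p hij U (s + t) = mapSect i j p hij U s + mapSect i j p hij U t := by
  unfold mapSect
  rw [← map_add, ← map_add]
  congr 2
  refine idealSect_injective i _ ?_
  refine (idealSect_lift i _ _ _).trans ?_
  rw [map_add (idealSect i.ker (p ⁻¹ᵁ U)), idealSect_lift, idealSect_lift, map_add, map_add]

theorem mapSect_smul (U : Y.Opens) (r : Γ(Y, U)) (s : Γ(ClSub.idealMod j.ker, U)) :
    mapSect i j p hij U (r • s) = j.app U r • mapSect i j p hij U s := by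
  unfold mapSect
  have h : lift i _ _ (app_p_idealSect i j p hij U (r • s)) = p.app U r • lift i _ _ (app_p_idealSect i j p hij U s) := by
    refine idealSect_injective i _ ?_
    refine (idealSect_lift i _ _ _).trans ?_
    rw [idealSect_smul, idealSect_smul, idealSect_lift, map_mul]
  rw [h]
  refine (congrArg _ (OmegaSh.pullSect_smul i _ (p ⁻¹ᵁ U) (p.app U r) _)).trans ?_
  refine ((Omega.conormal i).map_smul _ _ _).trans ?_
  rw [← app_app i j p hij U r]
  rfl

theorem rm {M : Z.Modules} {A B C : Z.Opens} (h₁ : B ≤ A) (h₂ : C ≤ B) (x : Γ(M, A)) :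
    M.presheaf.map (homOfLE h₂).op (M.presheaf.map (homOfLE h₁).op x) =
      M.presheaf.map (homOfLE (h₂.trans h₁)).op x :=
  congr($((M.presheaf.map_comp (homOfLE h₁).op (homOfLE h₂).op).symm) x)

theorem mapSect_res {U V : Y.Opens} (e : V ≤ U) (s : Γ(ClSub.idealMod j.ker, U)) :
    mapSect i j p hij V ((ClSub.idealMod j.ker).presheaf.map (homOfLE e).op s) =
      (Omega.conormal i).presheaf.map (homOfLE (j.preimage_mono e)).op (mapSect i j p hij U s) := by
  unfold mapSect
  have h : lift i _ _ (app_p_idealSect i j p hij V ((ClSub.idealMod j.ker).presheaf.map (homOfLE e).op s)) =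
      (ClSub.idealMod i.ker).presheaf.map (homOfLE (p.preimage_mono e)).op
        (lift i _ _ (app_p_idealSect i j p hij U s)) := by
    refine idealSect_injective i _ ?_
    refine (idealSect_lift i _ _ _).trans ?_
    rw [idealSect_map, idealSect_map, idealSect_lift]
    exact congr($(p.naturality (homOfLE e).op) (idealSect j.ker U s))
  rw [h]
  refine (congrArg _ (OmegaSh.pullSect_map i (ClSub.idealMod i.ker) (p.preimage_mono e) _)).trans ?_
  exact (rm (M := Omega.conormal i) (i.preimage_mono (p.preimage_mono e)) (pre_eq i j p hij V).le _).trans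
    (rm (M := Omega.conormal i) (pre_eq i j p hij U).le (j.preimage_mono e) _).symm

include hij in
theorem exists_conormalMap : ∃ ψ : (Scheme.Modules.pullback (𝟙 Z)).obj (Omega.conormal j) ⟶ Omega.conormal i,
    OmegaSh.IsConormalMap i j p (𝟙 Z) ψ := by
  let χ : ClSub.idealMod j.ker ⟶ (Scheme.Modules.pushforward j).obj (Omega.conormal i) :=
    ⟨PresheafOfModules.homMk (M₁ := (ClSub.idealMod j.ker).val)
      (M₂ := ((Scheme.Modules.pushforward j).obj (Omega.conormal i)).val)
      { app := fun W => AddCommGrpCat.ofHom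
          (AddMonoidHom.mk' (mapSect i j p hij W.unop) (mapSect_add i j p hij W.unop))
        naturality := fun W W' e => by
          ext s
          exact mapSect_res i j p hij e.unop.le s }
      (fun W r s => mapSect_smul i j p hij W.unop r s)⟩
  let ψ₀ : Omega.conormal j ⟶ Omega.conormal i :=
    ((Scheme.Modules.pullbackPushforwardAdjunction j).homEquiv _ _).symm χ
  have hψ₀ : ∀ (U : Y.Opens) (s : Γ(ClSub.idealMod j.ker, U)),
      ψ₀.app (j ⁻¹ᵁ U) (conormalSect j U s) = mapSect i j p hij U s := fun U s => by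
    have h := congr((($(((Scheme.Modules.pullbackPushforwardAdjunction j).homEquiv _ _).apply_symm_apply χ)).app U) s)
    rw [Adjunction.homEquiv_unit] at h
    exact h
  refine ⟨(Scheme.Modules.pullbackId Z).hom.app _ ≫ ψ₀, (Category.id_comp j).trans hij.symm, ?_⟩
  intro U' s' s hs V h₁ h₂
  have h0 : ((Scheme.Modules.pullbackId Z).hom.app (Omega.conormal j)).app (j ⁻¹ᵁ U')
      (pullSect (𝟙 Z) (Omega.conormal j) (j ⁻¹ᵁ U') (conormalSect j U' s')) = conormalSect j U' s' := by
    have h := CohCmpLib.pullbackId_puSecLE (Omega.conormal j) (le_refl (j ⁻¹ᵁ U')) (conormalSect j U' s')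
    refine ((congrArg _ (CohCmpLib.puSecLE_refl (𝟙 Z) (Omega.conormal j) le_rfl _).symm).trans h).trans ?_
    exact congr($((Omega.conormal j).presheaf.map_id (op (j ⁻¹ᵁ U'))) (conormalSect j U' s'))
  have hl : lift i _ _ (app_p_idealSect i j p hij U' s') = s := by
    refine idealSect_injective i _ ?_
    rw [idealSect_lift]
    exact hs.symm
  show (Omega.conormal i).presheaf.map (homOfLE h₁).op (ψ₀.app (j ⁻¹ᵁ U')
    (((Scheme.Modules.pullbackId Z).hom.app (Omega.conormal j)).app (j ⁻¹ᵁ U')
      (pullSect (𝟙 Z) (Omega.conormal j) (j ⁻¹ᵁ U') (conormalSect j U' s')))) = _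
  rw [h0, hψ₀]
  unfold mapSect
  rw [hl]
  exact rm (M := Omega.conormal i) _ h₁ _

end RegConLib
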