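import Groth.Agent.RegConLib.Frame
import Groth.Agent.RegConLib.DetSeq
import Groth.Agent.RegConLib.Map
import Groth.Agent.ExtPowLib.Pullback
import Groth.Agent.CubeConsLib.IsoCls
import Groth.Agent.SeesawLib.Pulled
import Groth.Agent.S9711
import Groth.Agent.S15539

/-!
# Comparison of two factorisations
-/

set_option autoImplicit false
set_option linter.style.haveILetI false
set_option linter.unusedSectionVars false
set_option maxHeartbeats 1000000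
set_option backward.isDefEq.respectTransparency false
set_option backward.isDefEq.respectTransparency.types false
universe u

open CategoryTheory CategoryTheory.Limits AlgebraicGeometry TopologicalSpace Opposite

noncomputable section

namespace RegConLib

theorem rank_congr {X : Scheme.{u}} {M N : X.Modules} {n : ℕ} (hM : FlatMod.IsFinLocFreeOfRank n M) (e : N ≅ M) :
    FlatMod.IsFinLocFreeOfRank n N := fun x => by
  obtain ⟨U, hx, ⟨φ⟩⟩ := hM x
  exact ⟨U, hx, ⟨(Scheme.Modules.restrictFunctor U.ι).mapIso e ≪≫ φ⟩⟩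

/-- The determinant of the conormal sheaf of a lift to a smooth scheme over the ambient one. -/
theorem side {X Z W : Scheme.{u}} [IsLocallyNoetherian X] (i : X ⟶ Z) [QuasiCompact i] {c : ℕ}
    (hi : RegImm.IsRegularImmersionOfCodim RegImm.Kind.regular c i) (p : W ⟶ Z) [QuasiSeparated p] (n : ℕ)
    [SmoothOfRelativeDimension n p] (h : X ⟶ W) [IsImmersion h] [QuasiCompact h] (hp : h ≫ p = i)
    {LC : X.Modules} (hLC : ExtPow.IsExtPow c (Omega.conormal i) LC)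
    {LW : W.Modules} (hLW : ExtPow.IsExtPow n (Omega.sheaf p) LW) :
    FlatMod.IsFinLocFreeOfRank (c + n) (Omega.conormal h) ∧
      ∀ LB : X.Modules, ExtPow.IsExtPow (c + n) (Omega.conormal h) LB →
        Nonempty (LB ≅ CohB1.tensorMod ((Scheme.Modules.pullback h).obj LW) LC) := by
  haveI := hi.1
  haveI : Smooth p := SmoothOfRelativeDimension.smooth n p
  have hd : OmegaSh.IsUniversal (OmegaSh.dOmega p) := OmegaAffLib.isUniversal_dOmega
  have hΩ := CohCmpLib.rank_omega p n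
  haveI : Coh.IsQCoh (Omega.sheaf p) := (CurvLib.isCoh_of_locFree hΩ).1
  obtain ⟨ψ, hψ⟩ := exists_conormalMap h i p hp
  obtain ⟨φ, hφ⟩ := ConormalSecLib.exists_conormalDiff h (OmegaSh.dOmega p)
  obtain ⟨w, hS⟩ := Groth.Agent.S9711.result p h i hp _ _ hd ψ hψ φ hφ
  let η := (Scheme.Modules.pullbackId X).app (Omega.conormal i)
  have hA : FlatMod.IsFinLocFreeOfRank c ((Scheme.Modules.pullback (𝟙 X)).obj (Omega.conormal i)) :=
    rank_congr (rank_conormal hi) η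
  have hC := SeesawLib.isFinLocFreeOfRank_pullback h hΩ
  refine ⟨rank_mid (ShortComplex.mk ψ φ w) hS hA hC, fun LB hLB => ?_⟩
  exact nonempty_det_ses (ShortComplex.mk ψ φ w) hS hA hC (ExtPowLib.isExtPow_of_iso_left η.symm hLC) hLB
    (ExtPowLib.isExtPow_pullback h hLW)

theorem rank_unique {X : Scheme.{u}} {M : X.Modules} {m n : ℕ} (hm : FlatMod.IsFinLocFreeOfRank m M)
    (hn : FlatMod.IsFinLocFreeOfRank n M) (x : X) : m = n := by
  obtain ⟨a⟩ := CurvLib.nonempty_stalk_pi_of_locFree hm x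
  obtain ⟨b⟩ := CurvLib.nonempty_stalk_pi_of_locFree hn x
  simpa using (a.symm.trans b).finrank_eq

/-- Two factorisations give the same canonical sheaf. -/
theorem canonical_pair {X Y Z₁ Z₂ : Scheme.{u}} [IsLocallyNoetherian X] (i₁ : X ⟶ Z₁) (g₁ : Z₁ ⟶ Y)
    (i₂ : X ⟶ Z₂) (g₂ : Z₂ ⟶ Y) [QuasiCompact i₁] [QuasiCompact i₂] [QuasiSeparated g₁] [QuasiSeparated g₂]
    (e : i₁ ≫ g₁ = i₂ ≫ g₂) {c₁ n₁ c₂ n₂ : ℕ}
    (hi₁ : RegImm.IsRegularImmersionOfCodim RegImm.Kind.regular c₁ i₁)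
    (hi₂ : RegImm.IsRegularImmersionOfCodim RegImm.Kind.regular c₂ i₂)
    [SmoothOfRelativeDimension n₁ g₁] [SmoothOfRelativeDimension n₂ g₂] [IsLocallyNoetherian Z₁] [IsLocallyNoetherian Z₂]
    {ω₁ ω₂ : X.Modules} (h₁ : Canon.IsCanonicalVia i₁ g₁ c₁ n₁ ω₁) (h₂ : Canon.IsCanonicalVia i₂ g₂ c₂ n₂ ω₂) :
    Nonempty (ω₁ ≅ ω₂) := by
  by_cases hne : Nonempty X
  swap
  · haveI : IsEmpty X := not_nonempty_iff.1 hne
    exact ⟨(AmpleThLib.exists_iso_gens (ι := PEmpty.{1}) (M := ω₁) (N := ω₂) (fun a => a.elim) (fun a => a.elim)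
      (fun a => a.elim) (fun y => isEmptyElim y) (fun a => a.elim) (fun a => a.elim) fun a => a.elim).choose⟩
  obtain ⟨x₀⟩ := hne
  haveI := hi₁.1
  haveI := hi₂.1
  obtain ⟨D₁, E₁, hD₁, hE₁, ⟨a₁⟩⟩ := h₁
  obtain ⟨D₂, E₂, hD₂, hE₂, ⟨a₂⟩⟩ := h₂
  let p₁ := pullback.fst g₁ g₂
  let p₂ := pullback.snd g₁ g₂
  haveI := smoothOfRelativeDimension_isStableUnderBaseChange (n := n₂)
  haveI := smoothOfRelativeDimension_isStableUnderBaseChange (n := n₁)
  haveI : SmoothOfRelativeDimension n₂ p₁ :=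
    MorphismProperty.pullback_fst (P := @SmoothOfRelativeDimension n₂) _ _ inferInstance
  haveI : SmoothOfRelativeDimension n₁ p₂ :=
    MorphismProperty.pullback_snd (P := @SmoothOfRelativeDimension n₁) _ _ inferInstance
  let h := pullback.lift i₁ i₂ e
  have e₁ : h ≫ p₁ = i₁ := pullback.lift_fst _ _ _
  have e₂ : h ≫ p₂ = i₂ := pullback.lift_snd _ _ _
  haveI : IsImmersion h := by
    haveI : IsImmersion (h ≫ p₁) := by rw [e₁]; infer_instance
    exact IsImmersion.of_comp h p₁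
  haveI : QuasiCompact h := by
    haveI : QuasiCompact (h ≫ p₁) := by rw [e₁]; infer_instance
    exact QuasiCompact.of_comp h p₁
  have sq := IsPullback.of_hasPullback g₁ g₂
  have hW₁ := Groth.Agent.S15539.result Z₂ Y (pullback g₁ g₂) Z₁ g₂ p₁ p₂ g₁ sq.flip n₂ E₂ hE₂
  have hW₂ := Groth.Agent.S15539.result Z₁ Y (pullback g₁ g₂) Z₂ g₁ p₂ p₁ g₂ sq n₁ E₁ hE₁
  obtain ⟨r₁, f₁⟩ := side i₁ hi₁ p₁ n₂ h e₁ hD₁ hW₁
  obtain ⟨r₂, f₂⟩ := side i₂ hi₂ p₂ n₁ h e₂ hD₂ hW₂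
  obtain ⟨B, hB⟩ := ExtTopLib.exists_isExtPow r₁
  obtain ⟨b₁⟩ := f₁ B hB
  rw [rank_unique r₁ r₂ x₀] at hB
  obtain ⟨b₂⟩ := f₂ B hB
  open CubeConsLib in
  have k₁ : cl B = cl ω₂ * cl D₂ * cl D₁ := by
    rw [cl_eq_iff.2 ⟨b₁⟩, cl_tensor, ← pull_cl, ← pull_cl, pull_comp, e₂, pull_cl, ← cl_eq_iff.2 ⟨a₂⟩, cl_tensor]
  open CubeConsLib in
  have k₂ : cl B = cl ω₁ * cl D₁ * cl D₂ := by
    rw [cl_eq_iff.2 ⟨b₂⟩, cl_tensor, ← pull_cl, ← pull_cl, pull_comp, e₁, pull_cl, ← cl_eq_iff.2 ⟨a₁⟩, cl_tensor]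
  obtain ⟨d₁, hd₁⟩ := CubeConsLib.exists_inverse (CohCmpLib.isInvertible_of_isExtPow (rank_conormal hi₁) hD₁)
  obtain ⟨d₂, hd₂⟩ := CubeConsLib.exists_inverse (CohCmpLib.isInvertible_of_isExtPow (rank_conormal hi₂) hD₂)
  refine CubeConsLib.cl_eq_iff.1 ?_
  have h3 := congrArg (· * (d₁ * d₂)) (k₂.symm.trans k₁)
  calc CubeConsLib.cl ω₁ = CubeConsLib.cl ω₁ * ((CubeConsLib.cl D₁ * d₁) * (CubeConsLib.cl D₂ * d₂)) := by
        rw [hd₁, hd₂, one_mul, mul_one]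
    _ = CubeConsLib.cl ω₂ * ((CubeConsLib.cl D₁ * d₁) * (CubeConsLib.cl D₂ * d₂)) := by
        convert h3 using 1 <;> ac_rfl
    _ = CubeConsLib.cl ω₂ := by rw [hd₁, hd₂, one_mul, mul_one]

end RegConLib
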