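import Groth.Agent.RegConLib.Surface
import Groth.Agent.RegConLib.Pair
import Groth.Agent.AdjFormLib.PnTop
import Groth.Agent.CubeLib.Glue

/-!
# Adjunction for a vertical curve on an arithmetic surface
-/

set_option autoImplicit false
set_option linter.style.haveILetI false
set_option linter.unusedSectionVars false
set_option maxHeartbeats 1000000
set_option backward.isDefEq.respectTransparency false
set_option backward.isDefEq.respectTransparency.types false
universe u

open CategoryTheory CategoryTheory.Limits AlgebraicGeometry TopologicalSpace Opposite IsLocalRing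
open CubeConsLib (cl cl_eq_iff cl_tensor pull pull_cl pull_comp cl_eq_one_iff exists_inverse)

noncomputable section

namespace RegConLib

theorem isExtPow_one {X : Scheme.{u}} (E : X.Modules) : ExtPow.IsExtPow 1 E E := by
  refine ⟨fun U => (exteriorPower.oneEquiv Γ(X, U.1) (E.val.obj (op U.1))).symm, fun U V h e => ?_⟩
  rw [LinearEquiv.symm_symm, LinearEquiv.symm_symm, exteriorPower.oneEquiv_ιMulti, exteriorPower.oneEquiv_ιMulti]

theorem dim_arith {n : ℕ} (hn : 1 ≤ n) {a b d : WithBot ℕ∞} {c : ℕ} (h1 : ((1 : ℕ) : WithBot ℕ∞) = d + a)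
    (h2 : (n : WithBot ℕ∞) = d + b) (h3 : b = a + (c : WithBot ℕ∞)) : c + 1 = n := by
  cases d with
  | bot => simp at h1
  | coe d =>
    cases a with
    | bot => simp at h1
    | coe a =>
      subst h3
      rw [← WithBot.coe_natCast, ← WithBot.coe_add, WithBot.coe_inj] at h1
      rw [← WithBot.coe_natCast, ← WithBot.coe_natCast c, ← WithBot.coe_add, ← WithBot.coe_add, WithBot.coe_inj,
        ← add_assoc, ← h1] at h2
      have h4 : n = 1 + c := by exact_mod_cast h2
      omega

variable {R : Type u} [CommRing R] [IsDomain R] [IsDiscreteValuationRing R] {X : Over (Spec (CommRingCat.of R))}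

set_option maxHeartbeats 2000000 in
/-- The conormal sheaf of the closed fibre is trivial on a curve in it. -/
theorem nonempty_conormal_fibre_trivial {n c : ℕ} {C : Scheme.{u}} [IsLocallyNoetherian (CohB1.ProjSpace n R)]
    [Smooth (CohB1.ProjSpace.toSpec n R)]
    (v : CohB1.ProjSpace n (ResidueField R) ⟶ CohB1.ProjSpace n R) [IsClosedImmersion v]
    (sq : IsPullback v (CohB1.ProjSpace.toSpec n (ResidueField R)) (CohB1.ProjSpace.toSpec n R)
      (Spec.map (CommRingCat.ofHom (residue R))))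
    (e : C ⟶ CohB1.ProjSpace n (ResidueField R)) [IsClosedImmersion e]
    (hpc : ∀ y : C, ∃ d : Pieces e v 1 c, v (e y) ∈ d.U.1) :
    Nonempty ((Scheme.Modules.pullback e).obj (Omega.conormal v) ≅ Coh.structureModule C) := by
  let k := ResidueField R
  let P := CohB1.ProjSpace n R
  let tau : Γ(P, ⊤) := (CohB1.ProjSpace.toSpec n R).app ⊤
    ((Scheme.ΓSpecIso (CommRingCat.of R)).inv (IsDiscreteValuationRing.exists_irreducible R).choose)
  have h0 : v.app ⊤ tau = 0 := by
    refine TopCat.Presheaf.section_ext (CohB1.ProjSpace n k).sheaf _ _ _ fun w hw => ?_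
    refine Eq.trans ?_ (map_zero _).symm
    refine (Scheme.Hom.germ_stalkMap_apply v ⊤ w trivial tau).symm.trans ?_
    exact RingHom.mem_ker.1 ((ker_stalk_fibre _ _ v sq w).symm ▸ Ideal.mem_span_singleton_self _)
  let σ : Γ(Omega.conormal v, (⊤ : (CohB1.ProjSpace n k).Opens)) :=
    OmegaSh.conormalSect v ⊤ (ConormalSecLib.lift v ⊤ tau h0)
  refine CubeLib.trivial_of_genOn_top
    (L := (Scheme.Modules.pullback e).obj (Omega.conormal v))
    (s := OmegaSh.pullSect e (Omega.conormal v) ⊤ σ) ?_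
  refine TwistLib.genOn_of_genAt fun y hy => TwistLib.GenAt.puSec e (M := Omega.conormal v) (U := ⊤) (m := σ) (x := y)
    (hx := show e y ∈ (⊤ : (CohB1.ProjSpace n k).Opens) from trivial) ?_
  obtain ⟨d, hd⟩ := hpc y
  have hle : (FLI.preA d.U v).1 ≤ (⊤ : (CohB1.ProjSpace n k).Opens) := le_top
  have hfr := d.hb.frame (e y) hd
  obtain ⟨r, hr⟩ : ∃ r : Γ(P, d.U.1), P.presheaf.map (homOfLE (le_top : d.U.1 ≤ ⊤)).op tau = r * d.g 0 := by
    have : P.presheaf.map (homOfLE (le_top : d.U.1 ≤ ⊤)).op tau ∈ v.ker.ideal d.U := by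
      rw [Scheme.Hom.ker_apply, RingHom.mem_ker]
      refine (congr($(v.naturality (homOfLE (le_top : d.U.1 ≤ ⊤)).op) tau)).trans ?_
      rw [CommRingCat.comp_apply, h0, map_zero]
    rw [d.hb.ideal_eq, Set.range_unique, Ideal.mem_span_singleton] at this
    obtain ⟨r, hr⟩ := this
    exact ⟨r, by rw [hr, mul_comm]; rfl⟩
  have hru : IsUnit (v.stalkMap (e y) (P.presheaf.germ d.U.1 (v (e y)) hd r)) := by
    by_contra hnu
    have hk := ker_stalk_fibre _ _ v sq (e y)
    have hg : P.presheaf.germ d.U.1 (v (e y)) hd (d.g 0) ∈ RingHom.ker (v.stalkMap (e y)).hom := by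
      rw [RingHom.mem_ker, Scheme.Hom.germ_stalkMap_apply, d.hb.app_eq_zero 0, map_zero]
    rw [hk, Ideal.mem_span_singleton] at hg
    obtain ⟨a, ha⟩ := hg
    have hgerm := congrArg (P.presheaf.germ d.U.1 (v (e y)) hd) hr
    rw [TopCat.Presheaf.germ_res_apply, map_mul, ha] at hgerm
    haveI : IsRegularLocalRing (P.presheaf.stalk (v (e y))) :=
      regular_stalk_over (CohB1.ProjSpace.toSpec n R) _
    haveI : IsDomain (P.presheaf.stalk (v (e y))) := CommAlgDim.isDomain_of_isRegularLocalRing _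
    let t := P.presheaf.germ ⊤ (v (e y)) trivial tau
    let rg := P.presheaf.germ d.U.1 (v (e y)) hd r
    have h1 : t * (1 - rg * a) = 0 := by
      linear_combination hgerm
    rcases mul_eq_zero.1 h1 with ht | ht
    · have := d.hb.wreg_germ hd
      have hg0 : P.presheaf.germ d.U.1 (v (e y)) hd (d.g 0) = 0 := by rw [ha]; exact (mul_eq_zero_of_left ht _)
      have h1' := this 0 1 (by
        rw [show FLI.gF hd d.g 0 = 0 from hg0, zero_mul]; exact zero_mem _)
      simp at h1'
    · exact hnu ((IsUnit.of_mul_eq_one a (sub_eq_zero.1 ht).symm).map (v.stalkMap (e y)).hom)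
  have hσ : (Omega.conormal v).presheaf.map (homOfLE hle).op σ = v.app d.U.1 r • d.hb.eU 0 := by
    refine (OmegaSh.pullSect_map v _ (le_top : d.U.1 ≤ ⊤) _).symm.trans ?_
    refine Eq.trans (congrArg (OmegaSh.pullSect v (ClSub.idealMod v.ker) d.U.1) ?_)
      (OmegaSh.pullSect_smul v (ClSub.idealMod v.ker) d.U.1 r (d.hb.lifts 0))
    refine ConormalSecLib.idealSect_injective v d.U.1 ?_
    rw [ConormalSecLib.idealSect_map, ConormalSecLib.idealSect_lift, ConormalSecLib.idealSect_smul,
      d.hb.idealSect_lifts]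
    exact hr
  have hgenr : AmpleLib.GenAt (Omega.conormal v) (d.hb.eU 0) (x := e y) hd := by
    refine (DetDegLib.frameAt_one_iff (M := Omega.conormal v) (d.hb.eU 0) (y := e y) hd).1 ?_
    have : (fun _ : Fin 1 => d.hb.eU 0) = d.hb.eU := funext fun j => by rw [Subsingleton.elim j 0]
    rw [this]
    exact hfr
  have hgm : (Omega.conormal v).presheaf.germ ⊤ (e y) trivial σ =
      (CohB1.ProjSpace n k).presheaf.germ (v ⁻¹ᵁ d.U.1) (e y) hd (v.app d.U.1 r) •
        (Omega.conormal v).presheaf.germ (v ⁻¹ᵁ d.U.1) (e y) hd (d.hb.eU 0) := by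
    rw [← TopCat.Presheaf.germ_res_apply (Omega.conormal v).presheaf (homOfLE hle) (e y) hd σ]
    exact (congrArg ((Omega.conormal v).presheaf.germ _ (e y) hd) hσ).trans
      (ProjFormLib.ger_smul (Omega.conormal v) (U := v ⁻¹ᵁ d.U.1) (e y) hd (v.app d.U.1 r) (d.hb.eU 0))
  rw [Scheme.Hom.germ_stalkMap_apply] at hru
  obtain ⟨w, hw⟩ := hru
  refine ⟨fun a a' h => ?_, fun m => ?_⟩
  · have h' := hgenr.1 (a₁ := a * w) (a₂ := a' * w) (by
      dsimp only
      rw [mul_smul, mul_smul, hw, ← hgm]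
      exact h)
    exact w.isUnit.mul_right_cancel h'
  · obtain ⟨a, ha⟩ := hgenr.2 m
    refine ⟨a * ↑w⁻¹, ?_⟩
    simp only [hgm, smul_smul]
    rw [← hw, mul_assoc, Units.inv_mul, mul_one]
    exact ha

/-- Everything needed about a vertical curve in a projective embedding. -/
structure Emb (E : ArSurf.VertComp R X) (L ω : X.left.Modules) where
  n : ℕ
  c : ℕ
  hcn : c + 1 = n
  e : E.curve.left ⟶ CohB1.ProjSpace n (ResidueField R)
  closed : IsClosedImmersion e
  hek : e ≫ CohB1.ProjSpace.toSpec n (ResidueField R) = E.curve.hom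
  hreg : RegImm.IsRegularImmersionOfCodim RegImm.Kind.regular c e
  DC : E.curve.left.Modules
  hDC : ExtPow.IsExtPow c (Omega.conormal e) DC
  DΩ : (CohB1.ProjSpace n (ResidueField R)).Modules
  hDΩ : ExtPow.IsExtPow n (Omega.sheaf (CohB1.ProjSpace.toSpec n (ResidueField R))) DΩ
  hdim : ∀ Z ∈ irreducibleComponents ↥E.curve.left, topologicalKrullDim ↥Z = ((n - c : ℕ) : WithBot ℕ∞)
  hgen : ∀ x : E.curve.left, ∃ U : (CohB1.ProjSpace n (ResidueField R)).affineOpens,
    e.base x ∈ (U : (CohB1.ProjSpace n (ResidueField R)).Opens) ∧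
      ∃ f : Fin c → Γ(CohB1.ProjSpace n (ResidueField R), (U : (CohB1.ProjSpace n (ResidueField R)).Opens)),
        e.ker.ideal U = Ideal.span (Set.range f)
  iso : Nonempty (CohB1.tensorMod ((Scheme.Modules.pullback E.ι).obj (CohB1.tensorMod L ω)) DC ≅
    (Scheme.Modules.pullback e).obj DΩ)

set_option maxHeartbeats 4000000 in
theorem nonempty_emb (hX : ArSurf.IsArithSurface R X) (E : ArSurf.VertComp R X) (L : X.left.Modules)
    (hL : ClSub.IsInverseOf L (ClSub.idealMod E.ι.ker)) (ω : X.left.Modules) (hω : Canon.IsCanonical X.hom ω) :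
    Nonempty (Emb E L ω) := by
  obtain ⟨hreg, hint, hd2, hflat, n, i₀, hi₀, hi₀q⟩ := hX
  haveI := hint
  haveI := hflat
  haveI := hi₀
  let k := ResidueField R
  obtain ⟨θ, hθ⟩ := LichtLib.exists_iso_over n R
  let P := CohB1.ProjSpace n R
  let i : X.left ⟶ P := i₀ ≫ θ.inv
  have hiq : i ≫ CohB1.ProjSpace.toSpec n R = X.hom := by
    rw [← hθ, Category.assoc, Iso.inv_hom_id_assoc, hi₀q]
  haveI : SmoothOfRelativeDimension n (CohB1.ProjSpace.toSpec n R) := OmegaPnLib.smoothRel_projSpace R n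
  haveI : Smooth (CohB1.ProjSpace.toSpec n R) := GenusZeroLib.smooth_toSpec n R
  haveI : SmoothOfRelativeDimension n (CohB1.ProjSpace.toSpec n k) := OmegaPnLib.smoothRel_projSpace k n
  haveI : Smooth (CohB1.ProjSpace.toSpec n k) := GenusZeroLib.smooth_toSpec n k
  haveI : IsLocallyNoetherian P := LocallyOfFiniteType.isLocallyNoetherian (CohB1.ProjSpace.toSpec n R)
  haveI : IsLocallyNoetherian (CohB1.ProjSpace n k) :=
    LocallyOfFiniteType.isLocallyNoetherian (CohB1.ProjSpace.toSpec n k)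
  haveI : LocallyOfFiniteType X.hom := hiq ▸ inferInstance
  haveI : IsLocallyNoetherian X.left := LocallyOfFiniteType.isLocallyNoetherian X.hom
  haveI : IrreducibleSpace X.left := inferInstance
  obtain ⟨c, hc⟩ := exists_codim i (Groth.Agent.S8855.result i
    (fun p => regular_stalk_over (CohB1.ProjSpace.toSpec n R) p) hreg)
  obtain ⟨v, sq⟩ := exists_bc n R k
  haveI : IsClosedImmersion (Spec.map (CommRingCat.ofHom (algebraMap R k))) :=
    IsClosedImmersion.spec_of_surjective _ residue_surjective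
  haveI : IsClosedImmersion v :=
    MorphismProperty.of_isPullback (P := @IsClosedImmersion) sq.flip inferInstance
  let b := E.ι ≫ i
  have hbq : b ≫ CohB1.ProjSpace.toSpec n R = E.curve.hom ≫ Spec.map (CommRingCat.ofHom (algebraMap R k)) := by
    rw [Category.assoc, hiq]
    exact E.w
  let e := sq.lift b E.curve.hom hbq
  have he : e ≫ v = b := sq.lift_fst _ _ _
  have hek : e ≫ CohB1.ProjSpace.toSpec n k = E.curve.hom := sq.lift_snd _ _ _
  haveI : IsClosedImmersion e := by
    haveI : IsClosedImmersion (e ≫ v) := he ▸ inferInstance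
    exact IsClosedImmersion.of_comp e v
  have hE : BlowUp.IsEffCartierIdeal E.ι.ker :=
    VertIntLib.isEffCartier_ker hreg E (VertIntLib.isFibGen_of_dim hd2.le E)
  have hkey := exists_two_pieces E hE i hiq hc v sq e he
  haveI : IrreducibleSpace E.curve.left := inferInstance
  haveI : IsIntegral (CohB1.ProjSpace n k) := GenusZeroLib.isIntegral_projSpace k n
  have hcomp : ∀ Z ∈ irreducibleComponents ↥E.curve.left, topologicalKrullDim ↥Z = ((1 : ℕ) : WithBot ℕ∞) :=
    fun Z hZ => by
    rw [irreducibleComponents_eq_singleton (X := ↥E.curve.left)] at hZ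
    rw [Set.mem_singleton_iff.1 hZ, IsHomeomorph.topologicalKrullDim_eq _
      (Homeomorph.Set.univ ↥E.curve.left).isHomeomorph]
    exact_mod_cast E.dim_eq
  have hn1 : 1 ≤ n := by
    have h := e.isClosedEmbedding.isInducing.topologicalKrullDim_le
    rw [E.dim_eq, GenusZeroLib.dim_projSpace] at h
    exact_mod_cast h
  obtain ⟨y₀⟩ : Nonempty E.curve.left := inferInstance
  have hcn : c + 1 = n := by
    let q := CohB1.ProjSpace.toSpec n k
    have h1 := FibDimLib.localDim_eq_closure_add_stalk (e ≫ q) y₀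
    rw [FibDimLib.IsPureDim.localDim_eq (e ≫ q) hcomp y₀] at h1
    have h2 := FibDimLib.localDim_eq_closure_add_stalk q (e y₀)
    rw [FibDimLib.localDim_of_irreducible q (e y₀), GenusZeroLib.dim_projSpace] at h2
    have hcl : topologicalKrullDim (closure ({e y₀} : Set (CohB1.ProjSpace n k))) =
        topologicalKrullDim (closure ({y₀} : Set E.curve.left)) := by
      have ee : (e.base) '' closure ({y₀} : Set E.curve.left) = closure ({e y₀} : Set (CohB1.ProjSpace n k)) := by
        rw [← e.isClosedEmbedding.closure_image_eq, Set.image_singleton]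
      exact IsHomeomorph.topologicalKrullDim_eq _ ((e.isClosedEmbedding.isEmbedding.homeomorphImage
        (closure ({y₀} : Set E.curve.left))).trans (Homeomorph.setCongr ee)).isHomeomorph |>.symm
    rw [hcl] at h2
    exact dim_arith hn1 h1 h2 (hkey y₀).2.2
  have hgen : ∀ x : E.curve.left, ∃ U : (CohB1.ProjSpace n k).affineOpens,
      e.base x ∈ (U : (CohB1.ProjSpace n k).Opens) ∧
      ∃ f : Fin c → Γ(CohB1.ProjSpace n k, (U : (CohB1.ProjSpace n k).Opens)), e.ker.ideal U = Ideal.span (Set.range f) := by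
    intro x
    obtain ⟨d, hd⟩ := (hkey x).2.1
    exact ⟨FLI.preA d.U v, hd, _, d.ha.ideal_eq⟩
  have hdim : ∀ Z ∈ irreducibleComponents ↥E.curve.left, topologicalKrullDim ↥Z = ((n - c : ℕ) : WithBot ℕ∞) := by
    rw [show n - c = 1 by omega]
    exact hcomp
  have hreg_e : RegImm.IsRegularImmersionOfCodim RegImm.Kind.regular c e :=
    FLI.regularOfCodim_lci k n c (by omega) e hdim hgen
  haveI : IsLocallyNoetherian E.curve.left := by
    haveI : LocallyOfFiniteType E.curve.hom := hek ▸ inferInstance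
    exact LocallyOfFiniteType.isLocallyNoetherian E.curve.hom
  haveI : Coh.IsQCoh (Omega.sheaf (CohB1.ProjSpace.toSpec n R)) :=
    (CurvLib.isCoh_of_locFree (CohCmpLib.rank_omega (CohB1.ProjSpace.toSpec n R) n)).1
  -- exterior powers
  obtain ⟨DP, hDP⟩ := ExtTopLib.exists_isExtPow (CohCmpLib.rank_omega (CohB1.ProjSpace.toSpec n R) n)
  have hDk := Groth.Agent.S15539.result P (Spec (CommRingCat.of R)) (CohB1.ProjSpace n k) (Spec (CommRingCat.of k))
    (CohB1.ProjSpace.toSpec n R) (CohB1.ProjSpace.toSpec n k) v (Spec.map (CommRingCat.ofHom (algebraMap R k))) sq n DP hDP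
  obtain ⟨DX, hDX⟩ := AdjFormLib.exists_det hc
  obtain ⟨De, hDe⟩ := AdjFormLib.exists_det hreg_e
  have hrankb : FlatMod.IsFinLocFreeOfRank (c + 1) (Omega.conormal (E.ι ≫ i)) :=
    AdjFormLib.isFinLocFreeOfRank_of_frames fun y => by
      obtain ⟨d, hd⟩ := (hkey y).1
      exact ⟨_, d.hab.eU, hd, fun z hz => d.hab.frame z hz⟩
  obtain ⟨Db, hDb⟩ := ExtTopLib.exists_isExtPow hrankb
  obtain ⟨k₁⟩ := nonempty_det_comp hDb (isExtPow_one (Omega.conormal E.ι)) hDX (fun y => (hkey y).1)
  have hDb' : ExtPow.IsExtPow (1 + c) (Omega.conormal (e ≫ v)) Db := by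
    rw [he, Nat.add_comm]
    exact hDb
  obtain ⟨k₂⟩ := nonempty_det_comp hDb' hDe (isExtPow_one (Omega.conormal v)) (fun y => (hkey y).2.1)
  have hv1 : pull e (cl (Omega.conormal v)) = 1 := by
    rw [pull_cl, cl_eq_one_iff]
    exact nonempty_conormal_fibre_trivial v sq e fun y => (hkey y).2.1
  -- the canonical sheaf of the surface through the embedding
  obtain ⟨Z, i', g', c', n', hfac, hi', hg', hqc, hqs, hvia⟩ := hω
  haveI := hqc
  haveI := hqs
  haveI := hg'
  haveI : Smooth g' := SmoothOfRelativeDimension.smooth n' g'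
  haveI : IsLocallyNoetherian Z := LocallyOfFiniteType.isLocallyNoetherian g'
  have hDXi := CohCmpLib.isInvertible_of_isExtPow (rank_conormal hc) hDX
  obtain ⟨eD⟩ := MiscFlat6.nonempty_dualIso hDXi
  let ω₁ := CohB1.tensorMod ((Scheme.Modules.pullback i).obj DP) (MiscFlat6.dual DX)
  have hω₁ : Canon.IsCanonicalVia i (CohB1.ProjSpace.toSpec n R) c n ω₁ := ⟨DX, DP, hDX, hDP, by
    rw [← cl_eq_iff, cl_tensor, cl_tensor, mul_assoc, mul_comm (cl (MiscFlat6.dual DX)), ← cl_tensor DX,
      cl_eq_one_iff.2 ⟨eD⟩, mul_one]⟩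
  obtain ⟨κ⟩ := canonical_pair i' g' i (CohB1.ProjSpace.toSpec n R) (hfac.trans hiq.symm) hi' hc hvia hω₁
  have hωD : cl ω * cl DX = pull i (cl DP) := by
    rw [cl_eq_iff.2 ⟨κ⟩, pull_cl]
    obtain ⟨_, _, _, _, _⟩ := hω₁
    rw [cl_tensor, mul_assoc, mul_comm (cl (MiscFlat6.dual DX)), ← cl_tensor DX, cl_eq_one_iff.2 ⟨eD⟩, mul_one]
  refine ⟨⟨n, c, hcn, e, inferInstance, hek, hreg_e, De, hDe, (Scheme.Modules.pullback v).obj DP, hDk, hdim, hgen, ?_⟩⟩
  rw [← cl_eq_iff, cl_tensor, ← pull_cl, ← pull_cl, ← pull_cl, pull_comp, he]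
  have hLI : pull E.ι (cl L) * cl (Omega.conormal E.ι) = 1 := by
    rw [Omega.conormal, ← pull_cl, ← map_mul, ← cl_tensor, cl_eq_one_iff.2 hL, map_one]
  have hkk : pull E.ι (cl DX) * cl (Omega.conormal E.ι) = cl De := by
    have h1 := (cl_eq_iff.2 ⟨k₁⟩).symm.trans (cl_eq_iff.2 ⟨k₂⟩)
    rw [cl_tensor, cl_tensor, ← pull_cl, ← pull_cl, hv1, one_mul] at h1
    rw [← h1, mul_comm]
  rw [← hkk, cl_tensor, map_mul, ← pull_comp E.ι i, ← hωD, map_mul]
  calc pull E.ι (cl L) * pull E.ι (cl ω) * (pull E.ι (cl DX) * cl (Omega.conormal E.ι))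
      = (pull E.ι (cl L) * cl (Omega.conormal E.ι)) * (pull E.ι (cl ω) * pull E.ι (cl DX)) := by ac_rfl
    _ = pull E.ι (cl ω) * pull E.ι (cl DX) := by rw [hLI, one_mul]

end RegConLib
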