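import Groth.Agent.VertChiLib.Exc
import Groth.Agent.VertIntLib.Degree
import Groth.Agent.GenusZeroLib.Degrees

/-!
# Projective lines over finite extensions as vertical curves
-/

set_option autoImplicit false
set_option linter.style.haveILetI false
set_option linter.unusedSectionVars false
set_option maxHeartbeats 1000000
set_option backward.isDefEq.respectTransparency false
set_option backward.isDefEq.respectTransparency.types false
universe u

open CategoryTheory CategoryTheory.Limits AlgebraicGeometry TopologicalSpace Opposite IsLocalRing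
open KFlatLib (pb)

noncomputable section

namespace RegConLib

variable {F : Type u} [Field F] {Y : Scheme.{u}} [Y.Over (Spec (CommRingCat.of F))]
  [IsProper (Y ↘ Spec (CommRingCat.of F))] [IsIntegral Y] (hd : topologicalKrullDim Y = 1)

include hd in
/-- A curve without `H¹(O)` and with a bundle of degree `h⁰(O)` is a projective line over its constants,
compatibly with the ground field. -/
theorem exists_line (h1 : Subsingleton (Coh.HH Y (Coh.structureModule Y) 1)) {N : Y.Modules}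
    (hN : PicF.IsInvertible N) (hdeg : Curv2.deg F Y N 1 = (VertChiLib.w F Y : ℤ)) :
    ∃ (K : Type u) (_ : Field K) (_ : Algebra F K), FiniteDimensional F K ∧
      ∃ e : Y ≅ CohB1.ProjSpace 1 K,
        e.hom ≫ (CohB1.ProjSpace 1 K ↘ Spec (CommRingCat.of K)) ≫ Spec.map (CommRingCat.ofHom (algebraMap F K)) =
          (Y ↘ Spec (CommRingCat.of F)) ∧ Module.finrank F K = VertChiLib.w F Y := by
  have hd' : topologicalKrullDim Y ≤ ((1 : ℕ) : WithBot ℕ∞) := hd.le
  let ρ : F →+* Γ(Y, ⊤) := Coh.toGlobal (Y ↘ Spec (CommRingCat.of F))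
  letI : Algebra F Γ(Y, ⊤) := ρ.toAlgebra
  let eO : Coh.HH Y (Coh.structureModule Y) 0 ≃ₗ[F] Γ(Y, ⊤) :=
    { (show Coh.HH Y (Coh.structureModule Y) 0 ≃+ Γ(Y, ⊤) from DegPullLib.e0 (Coh.structureModule Y)) with
      map_smul' := fun r x => DegPullLib.e0_smul (Coh.structureModule Y) _ x }
  haveI : Module.Finite F (Coh.HH Y (Coh.structureModule Y) 0) :=
    CurvLib.finite_HH (k := F) (DevissLib.isCoh_structureModule _) 0
  haveI : Module.Finite F Γ(Y, ⊤) := Module.Finite.equiv eO
  haveI : IsArtinianRing Γ(Y, ⊤) := isArtinian_of_tower F inferInstance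
  letI : Field Γ(Y, ⊤) := (IsArtinianRing.isField_of_isDomain _).toField
  let q : Y ⟶ Spec (CommRingCat.of Γ(Y, ⊤)) := Y.toSpecΓ
  have hq : q ≫ Spec.map (CommRingCat.ofHom ρ) = Y ↘ Spec (CommRingCat.of F) := by
    refine ext_of_isAffine ?_
    rw [Scheme.Hom.comp_appTop]
    apply (cancel_epi (Scheme.ΓSpecIso (CommRingCat.of F)).inv).1
    rw [← Scheme.ΓSpecIso_inv_naturality_assoc]
    show _ ≫ _ ≫ Y.toSpecΓ.appTop = _
    rw [Scheme.toSpecΓ_appTop]
    ext r
    show (Scheme.ΓSpecIso Γ(Y, ⊤)).hom.hom ((Scheme.ΓSpecIso Γ(Y, ⊤)).inv.hom (ρ r)) = _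
    rw [← CommRingCat.comp_apply, Iso.inv_hom_id]
    rfl
  haveI : IsProper (q ≫ Spec.map (CommRingCat.ofHom ρ)) := by rw [hq]; infer_instance
  haveI : IsProper q := IsProper.of_comp q (Spec.map (CommRingCat.ofHom ρ))
  have hqid : ∀ r : Γ(Y, ⊤), (show Γ(Y, ⊤) from Coh.toGlobal q r) = r := fun r => by
    show ((Scheme.ΓSpecIso (CommRingCat.of Γ(Y, ⊤))).inv ≫ Y.toSpecΓ.appTop).hom r = r
    rw [Scheme.toSpecΓ_appTop]
    show ((Scheme.ΓSpecIso Γ(Y, ⊤)).inv ≫ (Scheme.ΓSpecIso Γ(Y, ⊤)).hom).hom r = r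
    rw [Iso.inv_hom_id]
    rfl
  letI : Y.Over (Spec (CommRingCat.of Γ(Y, ⊤))) := ⟨q⟩
  haveI : IsProper (Y ↘ Spec (CommRingCat.of Γ(Y, ⊤))) := inferInstanceAs (IsProper q)
  have hw1 : VertChiLib.w Γ(Y, ⊤) Y = 1 := by
    letI : Module Γ(Y, ⊤) (Coh.HH Y (Coh.structureModule Y) 0) := Coh.moduleOver Γ(Y, ⊤) Y (Coh.structureModule Y) 0
    let e : Coh.HH Y (Coh.structureModule Y) 0 ≃ₗ[Γ(Y, ⊤)] Γ(Y, ⊤) :=
      { (show Coh.HH Y (Coh.structureModule Y) 0 ≃+ Γ(Y, ⊤) from DegPullLib.e0 (Coh.structureModule Y)) with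
        map_smul' := fun r x => by
          refine (DegPullLib.e0_smul (Coh.structureModule Y) _ x).trans ?_
          show (show Γ(Y, ⊤) from Coh.toGlobal q r) * (show Γ(Y, ⊤) from DegPullLib.e0 (Coh.structureModule Y) x) =
            r * (show Γ(Y, ⊤) from DegPullLib.e0 (Coh.structureModule Y) x)
          rw [hqid] }
    unfold VertChiLib.w
    exact e.finrank_eq.trans (Module.finrank_self _)
  have hdegK : Curv2.deg Γ(Y, ⊤) Y N 1 = 1 := by
    have hpos : (0 : ℤ) < (VertChiLib.w F Y : ℤ) := Int.natCast_pos.2 VertChiLib.w_pos_and_dvd.1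
    rw [Curv2.deg, Nat.cast_one, one_mul, VertChiLib.euler_eq_w_mul hd', VertChiLib.euler_eq_w_mul hd', hw1,
      Nat.cast_one, one_mul, one_mul]
    rw [Curv2.deg, Nat.cast_one, one_mul, VertChiLib.euler_eq_w_mul hd', VertChiLib.euler_eq_w_mul hd', ← mul_sub] at hdeg
    exact mul_left_cancel₀ hpos.ne' (hdeg.trans (mul_one _).symm)
  obtain ⟨e, he⟩ := GenusZeroLib.exists_iso_of_deg_one Γ(Y, ⊤) hd h1 hN hdegK
  refine ⟨Γ(Y, ⊤), inferInstance, ρ.toAlgebra, inferInstance, e, ?_, eO.finrank_eq.symm⟩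
  rw [← Category.assoc]
  exact (congrArg (· ≫ Spec.map (CommRingCat.ofHom ρ)) he).trans hq

omit [Y.Over (Spec (CommRingCat.of F))] [IsProper (Y ↘ Spec (CommRingCat.of F))] [IsIntegral Y] in
theorem finrank_h0_restrict {K : Type u} [Field K] [Algebra F K] (P : Scheme.{u}) [P.Over (Spec (CommRingCat.of K))]
    [P.Over (Spec (CommRingCat.of F))]
    (hq : (P ↘ Spec (CommRingCat.of K)) ≫ Spec.map (CommRingCat.ofHom (algebraMap F K)) = P ↘ Spec (CommRingCat.of F))
    (M : P.Modules) :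
    Module.finrank F (Coh.HH P M 0) = Module.finrank F K * Module.finrank K (Coh.HH P M 0) := by
  haveI : IsScalarTower F K (Coh.HH P M 0) := IsScalarTower.of_algebraMap_smul fun r x => by
    show Coh.toGlobal (P ↘ Spec (CommRingCat.of K)) (algebraMap F K r) • x =
      Coh.toGlobal (P ↘ Spec (CommRingCat.of F)) r • x
    rw [← hq]
    exact congrArg (· • x) (NodalLib.toGlobal_comp_specMap' (P ↘ Spec (CommRingCat.of K))
      (CommRingCat.ofHom (algebraMap F K)) r).symm
  exact (Module.finrank_mul_finrank F K (Coh.HH P M 0)).symm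

include hd in
theorem w_of_iso {P : Scheme.{u}} [P.Over (Spec (CommRingCat.of F))] [IsProper (P ↘ Spec (CommRingCat.of F))]
    [IsIntegral P] (hP : topologicalKrullDim P = 1) (e : Y ≅ P)
    (he : e.hom ≫ (P ↘ Spec (CommRingCat.of F)) = Y ↘ Spec (CommRingCat.of F))
    (h1 : Subsingleton (Coh.HH Y (Coh.structureModule Y) 1)) (h1' : Subsingleton (Coh.HH P (Coh.structureModule P) 1)) :
    VertChiLib.w F Y = VertChiLib.w F P := by
  haveI := h1
  haveI := h1'
  haveI : Coh.IsQCoh (Coh.structureModule P) := QCohLib.isQCoh_unit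
  obtain ⟨-, hOO⟩ := VertChiLib.euler_iso (F := F) e he (Coh.structureModule P)
  rw [CurvLib.euler_curve (k := F) hd, CurvLib.euler_curve (k := F) hP,
    Module.finrank_zero_of_subsingleton (R := F) (M := Coh.HH Y (Coh.structureModule Y) 1),
    Module.finrank_zero_of_subsingleton (R := F) (M := Coh.HH P (Coh.structureModule P) 1)] at hOO
  simpa [VertChiLib.w] using hOO

include hd in
/-- Invariants of a projective line over a finite extension of the ground field. -/
theorem of_line {K : Type u} [Field K] [Algebra F K] (e : Y ≅ CohB1.ProjSpace 1 K)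
    (he : e.hom ≫ (CohB1.ProjSpace 1 K ↘ Spec (CommRingCat.of K)) ≫ Spec.map (CommRingCat.ofHom (algebraMap F K)) =
      (Y ↘ Spec (CommRingCat.of F))) :
    Module.finrank F (Coh.HH Y (Coh.structureModule Y) 1) = 0 ∧ Module.finrank F K = VertChiLib.w F Y := by
  haveI := VertChiLib.subsingleton_h1_of_line e.symm
  refine ⟨Module.finrank_zero_of_subsingleton, ?_⟩
  letI : (CohB1.ProjSpace 1 K).Over (Spec (CommRingCat.of F)) :=
    ⟨(CohB1.ProjSpace 1 K ↘ Spec (CommRingCat.of K)) ≫ Spec.map (CommRingCat.ofHom (algebraMap F K))⟩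
  haveI : IsProper (CohB1.ProjSpace 1 K ↘ Spec (CommRingCat.of F)) := by
    rw [show (CohB1.ProjSpace 1 K ↘ Spec (CommRingCat.of F)) = e.inv ≫ (Y ↘ Spec (CommRingCat.of F)) by
      rw [← he, e.inv_hom_id_assoc]; rfl]
    infer_instance
  rw [w_of_iso hd (VBP1Lib.dim_line K) e he (VertChiLib.subsingleton_h1_of_line e.symm) (VBP1Lib.h1_structure K),
    VertChiLib.w, finrank_h0_restrict (K := K) (CohB1.ProjSpace 1 K) rfl,
    show Module.finrank K (Coh.HH (CohB1.ProjSpace 1 K) (Coh.structureModule (CohB1.ProjSpace 1 K)) 0) = 1 from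
      VBP1Lib.h0_structure K, mul_one]

end RegConLib
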