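import Groth.Agent.RegConLib.Local
import Groth.Agent.RegConLib.ExcLine
import Groth.Agent.BlanchardLib.Desc

/-!
# Contraction of a projective line with negative self-intersection
-/

set_option autoImplicit false
set_option linter.style.haveILetI false
set_option linter.unusedSectionVars false
set_option maxHeartbeats 1000000
set_option backward.isDefEq.respectTransparency false
set_option backward.isDefEq.respectTransparency.types false
universe u

open CategoryTheory CategoryTheory.Limits AlgebraicGeometry TopologicalSpace Opposite IsLocalRing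
open KFlatLib (pb)

noncomputable section

namespace RegConLib

/-- A normal noetherian local domain with a two dimensional cotangent space is at least two dimensional. -/
theorem isRegularLocalRing_of_normal {A : Type u} [CommRing A] [IsDomain A] [IsLocalRing A] [IsNoetherianRing A]
    [IsIntegrallyClosed A] (h : Module.finrank (ResidueField A) (CotangentSpace A) = 2) : IsRegularLocalRing A := by
  refine IsRegularLocalRing.of_spanFinrank_maximalIdeal_le _ ?_
  rw [spanFinrank_maximalIdeal_eq_finrank_cotangentSpace, h]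
  by_contra hlt
  have hx : ∀ x : WithBot ℕ∞, ¬ ((2 : ℕ) : WithBot ℕ∞) ≤ x → x ≤ ((1 : ℕ) : WithBot ℕ∞) := fun x hx => by
    induction x using WithBot.recBotCoe with
    | bot => exact bot_le
    | coe c =>
      rw [← WithBot.coe_natCast, WithBot.coe_le_coe] at hx ⊢
      induction c using ENat.recTopCoe with
      | top => exact absurd le_top hx
      | coe c =>
        rw [Nat.cast_le] at hx ⊢
        omega
  have h1 := hx _ hlt
  haveI : Ring.KrullDimLE 1 A := Ring.krullDimLE_iff.2 h1
  haveI : IsPrincipalIdealRing A :=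
    ((tfae_of_isNoetherianRing_of_isLocalRing_of_isDomain A).out 0 3 :
        IsPrincipalIdealRing A ↔ IsIntegrallyClosed A ∧ ∀ P : Ideal A, P ≠ ⊥ → P.IsPrime → P = maximalIdeal A).2
      ⟨inferInstance, fun P hP hp => IsLocalRing.eq_maximalIdeal
        (Ring.krullDimLE_one_iff_of_noZeroDivisors.1 inferInstance P hP hp)⟩
  have := finrank_cotangentSpace_le_one_iff.2 (IsPrincipalIdealRing.principal (maximalIdeal A))
  omega

variable {R : Type u} [CommRing R] [IsDomain R] [IsDiscreteValuationRing R] {X : Over (Spec (CommRingCat.of R))}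

/-- The contraction of a projective line over `k'` with self-intersection `-d [k' : k]`. -/
theorem exists_contraction_line (hX : ArSurf.IsArithSurface R X) (E : ArSurf.VertComp R X)
    {k' : Type u} [Field k'] [Algebra (ResidueField R) k']
    (e : E.curve.left ≅ CohB1.ProjSpace 1 k')
    (he : e.hom ≫ (CohB1.ProjSpace 1 k' ↘ Spec (CommRingCat.of k')) ≫
      Spec.map (CommRingCat.ofHom (algebraMap (ResidueField R) k')) = E.curve.hom)
    (L : X.left.Modules) (hL : ClSub.IsInverseOf L (ClSub.idealMod E.ι.ker)) (d : ℕ) (hd : 1 ≤ d)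
    (hself : ArSurf.inter R X L E = -((d : ℤ) * (Module.finrank (ResidueField R) k' : ℤ))) :
    ∃ (Y : Over (Spec (CommRingCat.of R))) (f : X ⟶ Y) (y : Y.left) (hy : IsClosed ({y} : Set Y.left)),
      IsIntegral Y.left ∧ (∀ q : Y.left, IsIntegrallyClosed (Y.left.presheaf.stalk q)) ∧
      topologicalKrullDim Y.left = 2 ∧ Flat Y.hom ∧ Neron.IsProjectiveOver R Y ∧
      Set.range ((E.ι ≫ f.left).base : E.curve.left → Y.left) = {y} ∧
      (f.left ⁻¹ᵁ (⟨{y}ᶜ, hy.isOpen_compl⟩ : Y.left.Opens) : Set X.left) = (Set.range E.ι.base)ᶜ ∧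
      IsIso (f.left ∣_ (⟨{y}ᶜ, hy.isOpen_compl⟩ : Y.left.Opens)) ∧
      Module.finrank (ResidueField (Y.left.presheaf.stalk y)) (CotangentSpace (Y.left.presheaf.stalk y)) = d + 1 := by
  haveI : IsProper X.hom := VertIntLib.isProper_of_isArithSurface hX
  haveI := VertIntLib.isProper_curve E
  have hX' := hX
  obtain ⟨hreg, hint, hdim, hflat, -⟩ := hX'
  haveI := hint
  haveI : Nonempty E.curve.left := inferInstance
  obtain ⟨-, hw⟩ := of_line (F := ResidueField R) E.dim_eq e he
  have hh1 : Subsingleton (Coh.HH E.curve.left (Coh.structureModule E.curve.left) 1) :=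
    VertChiLib.subsingleton_h1_of_line e.symm
  have hwpos : (0 : ℤ) < (VertChiLib.w (ResidueField R) E.curve.left : ℤ) := by
    exact_mod_cast (VertChiLib.w_pos_and_dvd (k := ResidueField R) (Y := E.curve.left)).1
  rw [hw] at hself
  have hneg : ArSurf.inter R X L E < 0 := by
    rw [hself, neg_lt_zero]
    exact mul_pos (by exact_mod_cast hd) hwpos
  -- the contraction
  obtain ⟨Y, f, hYi, hYn, hYd, hYf, hYp, hpt, hsat, hiso⟩ := ContractLib.exists_contraction hX
    (fun _ : Fin 1 => E) (fun i j _ => Subsingleton.elim i j) (fun _ => L) (fun _ => hL)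
    (fun a ha => by
      simp only [← Finset.univ_product_univ, Finset.sum_product, Finset.univ_unique, Finset.sum_singleton]
      have h : a default ≠ 0 := fun h => ha (funext fun i => by rw [Subsingleton.elim i default]; exact h)
      exact mul_neg_of_pos_of_neg (mul_self_pos.2 h) hneg)
    (fun a _ N hN hN0 => pic_trivial hX E L hL hneg hh1 a N hN hN0)
  haveI := hYi
  haveI : IsProper Y.hom := by
    obtain ⟨n, i, hi, w⟩ := hYp
    haveI := hi
    haveI := ChowLib.isProper_toBase n (Spec (CommRingCat.of R))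
    rw [← w]; infer_instance
  haveI : IsLocallyNoetherian Y.left := LocallyOfFiniteType.isLocallyNoetherian Y.hom
  haveI : Y.left.IsSeparated := Scheme.IsSeparated.mk (by
    rw [terminal.hom_ext (terminal.from Y.left) (Y.hom ≫ terminal.from _)]
    infer_instance)
  haveI : IsProper f.left := by
    haveI : IsProper (f.left ≫ Y.hom) := by rw [Over.w f]; infer_instance
    exact IsProper.of_comp f.left Y.hom
  obtain ⟨y, hy'⟩ := hpt 0
  have hy : IsClosed ({y} : Set Y.left) := by rw [← hy']; exact (E.ι ≫ f.left).isClosedMap.isClosed_range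
  have hU : (⋃ _ : Fin 1, Set.range (E.ι.base : E.curve.left → X.left)) = Set.range E.ι.base := Set.iUnion_const _
  have him : f.left.base '' (⋃ _ : Fin 1, Set.range (E.ι.base : E.curve.left → X.left)) = {y} := by
    rw [hU, ← Set.range_comp]
    exact hy'
  have hsat' : f.left.base ⁻¹' {y} = Set.range E.ι.base := by
    rw [him, hU] at hsat
    exact hsat
  haveI hisoO : IsIso (f.left ∣_ (⟨{y}ᶜ, hy.isOpen_compl⟩ : Y.left.Opens)) :=
    hiso _ (by rw [him]; exact Set.compl_inter_self _)
  have hpre : (f.left ⁻¹ᵁ (⟨{y}ᶜ, hy.isOpen_compl⟩ : Y.left.Opens) : Set X.left) = (Set.range E.ι.base)ᶜ :=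
    congrArg (fun S : Set X.left => Sᶜ) hsat'
  have hVne : Nonempty (⟨{y}ᶜ, hy.isOpen_compl⟩ : Y.left.Opens) := by
    by_contra hne
    have hall : ∀ x, x ∈ Set.range E.ι.base := fun x => by
      rw [← hsat']
      by_contra hx
      exact hne ⟨⟨f.left x, hx⟩⟩
    let hh : E.curve.left ≃ₜ X.left :=
      E.ι.isClosedEmbedding.isEmbedding.toHomeomorphOfSurjective fun x => hall x
    have := IsHomeomorph.topologicalKrullDim_eq _ hh.isHomeomorph
    rw [E.dim_eq, hdim] at this
    norm_num at this
  have hbij := BlanchardLib.bijective_app_of_birational (fun q => ⟨inferInstance, hYn q⟩) f.left _ hVne hisoO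
  obtain ⟨W, H, b, hW, hb, hHi, hHA, hWiso⟩ := exists_nhd hX E L hL hneg hh1
  have hC : BlowUp.IsEffCartierIdeal E.ι.ker :=
    VertIntLib.isEffCartier_ker hreg E (VertIntLib.isFibGen_of_dim hdim.le E)
  have hdeg : Curv2.deg (ResidueField R) E.curve.left (pb E.ι (ClSub.idealMod E.ι.ker)) 1 =
      (d : ℤ) * (VertChiLib.w (ResidueField R) E.curve.left : ℤ) := by
    have h := VertIntLib.inter_eq_neg E hC hL
    show VertIntLib.dId E E.ι.ker = _
    linarith
  exact ⟨Y, f, y, hy, hYi, hYn, hYd, hYf, hYp, hy', hpre, hisoO,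
    finrank_cotangent f.left hbij hy E.ι hsat' (ResidueField R) E.dim_eq hh1
      (IntMultLib.isInvertible_idealMod _ hC) hd hdeg W hW hHi hHA hb hWiso⟩

/-- When the cotangent space at the contracted point is a plane, the contraction is regular. -/
theorem regular_of_contraction {X Y : Scheme.{u}} [IsLocallyNoetherian Y] [IsIntegral Y]
    (hreg : ∀ x : X, IsRegularLocalRing (X.presheaf.stalk x)) (hnor : ∀ q : Y, IsIntegrallyClosed (Y.presheaf.stalk q))
    (f : X ⟶ Y) {y : Y} (hy : IsClosed ({y} : Set Y)) [IsIso (f ∣_ (⟨{y}ᶜ, hy.isOpen_compl⟩ : Y.Opens))]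
    (h2 : Module.finrank (ResidueField (Y.presheaf.stalk y)) (CotangentSpace (Y.presheaf.stalk y)) = 2) (q : Y) :
    IsRegularLocalRing (Y.presheaf.stalk q) := by
  rcases eq_or_ne q y with rfl | hq
  · haveI := hnor q
    exact isRegularLocalRing_of_normal h2
  · let O : Y.Opens := ⟨{y}ᶜ, hy.isOpen_compl⟩
    obtain ⟨x, hx⟩ := (f ∣_ O).homeomorph.surjective ⟨q, hq⟩
    have hxq : f x.1 = q := (morphismRestrict_base_coe f O x).symm.trans (congrArg Subtype.val hx)
    haveI : IsIso (f.stalkMap x.1) :=
      (MorphismProperty.arrow_mk_iso_iff (MorphismProperty.isomorphisms _) (morphismRestrictStalkMap f O x)).1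
        (inferInstanceAs (IsIso ((f ∣_ O).stalkMap x)))
    haveI := hreg x.1
    subst hxq
    exact IsRegularLocalRing.of_ringEquiv (asIso (f.stalkMap x.1)).commRingCatIsoToRingEquiv.symm

end RegConLib
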