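import Groth.Agent.RegConLib.CurveFacts
import Groth.Agent.FibVanLib.Affine
import Groth.Agent.SerreVanLib.Main
import Groth.Agent.NefH1Lib.Embed
import Groth.Agent.HdgLefLib.Geom
import Groth.Agent.EvGGLib.Main
import Groth.Agent.LichtLib.BijOn
import Groth.Agent.S1611

/-!
# The local algebra of a contraction of a curve with ample conormal sheaf
-/

set_option autoImplicit false
set_option linter.style.haveILetI false
set_option linter.unusedSectionVars false
set_option maxHeartbeats 1000000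
set_option backward.isDefEq.respectTransparency false
set_option backward.isDefEq.respectTransparency.types false
universe u

open CategoryTheory CategoryTheory.Limits AlgebraicGeometry TopologicalSpace Opposite
open AmpleLib (GenAt GenOn res shT)
open TwistLib (genSet)
open KFlatLib (pb)
open HilbPolyLib (assocIso congrLeft congrRight swapIso unitLeft)

noncomputable section

namespace RegConLib

variable {U C : Scheme.{u}} (j : C ⟶ U) [IsClosedImmersion j]

/-- The restriction map of an invertible module to a divisor, with its sequence. -/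
theorem exists_restrict {P : U.Modules} (hP : PicF.IsInvertible P) :
    ∃ (T : ShortComplex U.Modules), T.ShortExact ∧ Nonempty (T.X₃ ≅ (Coh.push j).obj (pb j P)) ∧
      ∃ (e₁ : T.X₁ ≅ CohB1.tensorMod P (ClSub.idealMod j.ker)) (e₂ : T.X₂ ≅ P),
        ∀ (a : Γ(P, ⊤)) (b : Γ(ClSub.idealMod j.ker, ⊤)),
          e₂.hom.app ⊤ (T.f.app ⊤ (e₁.inv.app ⊤ (shT a b))) =
            (show Γ(U, ⊤) from (ClSub.idealModι j.ker).app ⊤ b) • a := by
  obtain ⟨μ, hμ, hμ'⟩ := SerreVanLib.exists_unit_iso P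
  haveI := hμ
  obtain ⟨eq⟩ := VBHyp.quotMod_iso j j.ker rfl
  have hF := AmpleDevLib.isFinLocFree_of_isInvertible hP
  haveI := ProjFormLib.isIso_projApp j hF (Coh.structureModule C)
  let pr := asIso (ProjFormLib.projApp j P (Coh.structureModule C))
  refine ⟨(CurvLib.idealSeq j.ker).map (ProjFormLib.tF P),
    ProjFormLib.shortExact_tens hF (CurvLib.idealSeq_shortExact _),
    ⟨congrRight P eq ≪≫ pr ≪≫ (Scheme.Modules.pushforward j).mapIso (swapIso _ _ ≪≫ unitLeft _)⟩,
    Iso.refl _, @asIso _ _ _ _ μ hμ, fun a b => ?_⟩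
  exact (congrArg (μ.app ⊤) (KFlatLib.tensorBi_map₂_shTm P (ClSub.idealModι j.ker) a b)).trans (hμ' ⊤ a _)

/-- Functions vanishing on the curve are the sections of its ideal. -/
theorem exists_ideal_section {a : Γ(U, ⊤)} (ha : j.appTop a = 0) :
    ∃ b : Γ(ClSub.idealMod j.ker, ⊤), (show Γ(U, ⊤) from (ClSub.idealModι j.ker).app ⊤ b) = a := by
  have hk : j.ker.subschemeι.ker = j.ker := j.ker.ker_subschemeι
  let l := IsClosedImmersion.lift j j.ker.subschemeι hk.ge
  haveI : IsIso l := IsClosedImmersion.isIso_lift j j.ker.subschemeι hk.symm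
  have hl : l ≫ j = j.ker.subschemeι := IsClosedImmersion.lift_fac _ _ _
  have h0 : (ClSub.toSubscheme j.ker).app ⊤ (show Γ(Coh.structureModule U, ⊤) from a) = 0 := by
    show j.ker.subschemeι.appTop a = 0
    rw [← hl, Scheme.Hom.comp_appTop, CommRingCat.comp_apply, ha, map_zero]
  have hS := CurvLib.idealSeq_shortExact j.ker
  obtain ⟨x, hx⟩ := AtlasCoh.hExact₂ (QCohLib.toAbF_shortExact hS) 0
    ((DegPullLib.e0 (Coh.structureModule U)).symm a) (by
      refine (DegPullLib.e0 _).injective ((NefH1Lib.e0_map (ClSub.toSubscheme j.ker) _).trans ?_)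
      rw [AddEquiv.apply_symm_apply, map_zero]
      exact h0)
  refine ⟨DegPullLib.e0 _ x, ?_⟩
  refine (NefH1Lib.e0_map (ClSub.idealModι j.ker) x).symm.trans ?_
  exact (congrArg (DegPullLib.e0 (Coh.structureModule U)) hx).trans (AddEquiv.apply_symm_apply _ _)

theorem idealSection_vanish (b : Γ(ClSub.idealMod j.ker, ⊤)) :
    j.appTop (show Γ(U, ⊤) from (ClSub.idealModι j.ker).app ⊤ b) = 0 := by
  have hk : j.ker.subschemeι.ker = j.ker := j.ker.ker_subschemeι
  let l := IsClosedImmersion.lift j.ker.subschemeι j hk.le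
  have hl : l ≫ j.ker.subschemeι = j := IsClosedImmersion.lift_fac _ _ _
  have e : ∀ a : Γ(U, ⊤), j.appTop a = l.appTop (j.ker.subschemeι.appTop a) := fun a =>
    (congrArg (fun g : C ⟶ U => g.appTop a) hl).symm
  refine ((e _).trans (congrArg _ ?_)).trans (map_zero l.appTop.hom)
  exact congrArg (fun q : ClSub.idealMod j.ker ⟶ ClSub.quotMod j.ker => q.app ⊤ b) (kernel.condition (ClSub.toSubscheme j.ker))

/-- A function vanishing on the curve and invertible at `x` gives a generator of the ideal at `x`. -/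
theorem genAt_of_basicOpen (hM : PicF.IsInvertible (ClSub.idealMod j.ker)) {x : U} (hx : x ∉ Set.range j)
    {a : Γ(U, ⊤)} (b : Γ(ClSub.idealMod j.ker, ⊤))
    (hb : (show Γ(U, ⊤) from (ClSub.idealModι j.ker).app ⊤ b) = a) (hxa : x ∈ U.basicOpen a) :
    x ∈ genSet hM b := by
  let O : U.Opens := ⟨(j.ker.support : Set U)ᶜ, j.ker.support.isClosed.isOpen_compl⟩
  let W : U.Opens := O ⊓ U.basicOpen a
  have hxW : x ∈ W := ⟨fun h => hx (by
    rwa [Scheme.Hom.support_ker, j.isClosedEmbedding.isClosed_range.closure_eq] at h), hxa⟩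
  have hW : Disjoint (W : Set U) (j.ker.support : Set U) := Set.disjoint_left.2 fun z hz hz' => hz.1 hz'
  suffices h : GenOn (ClSub.idealMod j.ker) (res _ (le_top : W ≤ ⊤) b) from
    (AmpleLib.genAt_res _ _ hxW).1 (h.genAt hxW)
  intro V hV
  have hbij := (LichtLib.bijOn_idealModι j.ker hW) V hV
  have hu : IsUnit (U.presheaf.map (homOfLE (le_top : V ≤ ⊤)).op a) := by
    have h1 := (RingedSpace.isUnit_res_basicOpen U.toRingedSpace a).map
      (U.presheaf.map (homOfLE (hV.trans inf_le_right : V ≤ U.basicOpen a)).op).hom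
    have e := (U.presheaf.map_comp (homOfLE (le_top : U.basicOpen a ≤ ⊤)).op
      (homOfLE (hV.trans inf_le_right : V ≤ U.basicOpen a)).op)
    rw [← op_comp, homOfLE_comp] at e
    rw [e]
    exact h1
  have he : (fun r : Γ(U, V) => (ClSub.idealModι j.ker).app V (r • res _ hV (res _ (le_top : W ≤ ⊤) b))) =
      fun r : Γ(U, V) => r * U.presheaf.map (homOfLE (le_top : V ≤ ⊤)).op a := funext fun r => by
    rw [QCohLib.app_smul, AmpleLib.res_res]
    exact congrArg (r * ·) ((QCohLib.app_map (ClSub.idealModι j.ker) (homOfLE (le_top : V ≤ ⊤)) b).trans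
      (congrArg (U.presheaf.map (homOfLE (le_top : V ≤ ⊤)).op) hb))
  have h3 : Function.Bijective (⇑((ClSub.idealModι j.ker).app V) ∘
      fun r : Γ(U, V) => r • res _ hV (res _ (le_top : W ≤ ⊤) b)) := by
    refine (congrArg Function.Bijective he).mpr ?_
    exact hu.unit.mulRight.bijective
  exact (Function.Bijective.of_comp_iff' hbij _).1 h3

section Main

variable {A : Type u} [CommRing A] [IsNoetherianRing A] (q : U ⟶ Spec (CommRingCat.of A)) [IsProper q]
  (hfib : ∀ s : ↥(Spec (CommRingCat.of A)), topologicalKrullDim ↥(q.fiber s) ≤ ((1 : ℕ) : WithBot ℕ∞))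
  (F : Type u) [Field F] [C.Over (Spec (CommRingCat.of F))] [IsProper (C ↘ Spec (CommRingCat.of F))] [IsIntegral C]
  (hd : topologicalKrullDim C = 1) (h1 : Subsingleton (Coh.HH C (Coh.structureModule C) 1))
  (hM : PicF.IsInvertible (ClSub.idealMod j.ker)) (hA : CohB1.IsAmple (ClSub.idealMod j.ker))
  (hpos : 0 < Curv2.deg F C (pb j (ClSub.idealMod j.ker)) 1)

include q F hd h1 hM hA hpos in
/-- The powers of the ideal of the curve have no `H¹`. -/
theorem h1_ideal_pow (m : ℕ) : Subsingleton (Coh.HH U (CohB1.tensorPow (ClSub.idealMod j.ker) m) 1) := by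
  let M := ClSub.idealMod j.ker
  haveI : IsLocallyNoetherian U := LocallyOfFiniteType.isLocallyNoetherian q
  obtain ⟨n₀, hn₀⟩ := SerreVanLib.exists_vanishing q hM hA (Coh.structureModule U) (DevissLib.isCoh_structureModule _)
  suffices h : ∀ k m, n₀ ≤ m + k → Subsingleton (Coh.HH U (CohB1.tensorPow M m) 1) from h n₀ m (Nat.le_add_left _ _)
  intro k
  induction k with
  | zero => exact fun m hm => SerreVanLib.subsingleton_HH_of_iso (unitLeft _).symm 1 (hn₀ m hm 1 one_pos)
  | succ k ih =>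
    intro m hm
    have hP : PicF.IsInvertible (CohB1.tensorPow M m) := AmpleThLib.tensorPow_isInvertible hM m
    obtain ⟨T, hT, ⟨e₃⟩, e₁, e₂, -⟩ := exists_restrict j hP
    obtain ⟨φ, -⟩ := AmpleDevLib.exists_pullPowIso j hM m
    have hq : Coh.IsQCoh (pb j (CohB1.tensorPow M m)) :=
      (CurvLib.isCoh_of_isInvertible (AmpleDevLib.isInvertible_pb j hP)).1
    have h3 : Subsingleton (Coh.HH U T.X₃ 1) := by
      refine SerreVanLib.subsingleton_HH_of_iso e₃ 1 ?_
      haveI := hq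
      obtain ⟨E⟩ := QCohLib.nonempty_HH_push j (pb j (CohB1.tensorPow M m)) 1
      haveI := SerreVanLib.subsingleton_HH_of_iso φ 1
        (h1_pow_of_deg_pos F hd h1 (AmpleDevLib.isInvertible_pb j hM) hpos m)
      exact E.symm.toEquiv.subsingleton
    refine NefH1Lib.h1_iso e₂ (LichtLib.subsingleton_middle hT ?_ h3)
    exact NefH1Lib.h1_iso e₁.symm (ih (m + 1) (by omega))

include q F hd h1 hM hA hpos in
/-- Functions restrict surjectively to the curve. -/
theorem appTop_surjective : Function.Surjective j.appTop.hom := by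
  intro c
  have hk : j.ker.subschemeι.ker = j.ker := j.ker.ker_subschemeι
  let l := IsClosedImmersion.lift j.ker.subschemeι j hk.le
  haveI : IsIso l := IsClosedImmersion.isIso_lift j.ker.subschemeι j hk
  have hl : l ≫ j.ker.subschemeι = j := IsClosedImmersion.lift_fac _ _ _
  obtain ⟨c', hc'⟩ := ((ConcreteCategory.isIso_iff_bijective l.appTop).1 inferInstance).2 c
  have hi : Subsingleton (Coh.HH U (ClSub.idealMod j.ker) 1) :=
    NefH1Lib.h1_iso (unitLeft _) (h1_ideal_pow j q F hd h1 hM hA hpos 1)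
  obtain ⟨z, hz⟩ := LichtLib.surjective_g (CurvLib.idealSeq_shortExact j.ker) hi
    ((DegPullLib.e0 (ClSub.quotMod j.ker)).symm c')
  refine ⟨DegPullLib.e0 (Coh.structureModule U) z, ?_⟩
  have h := (NefH1Lib.e0_map (ClSub.toSubscheme j.ker) z).symm.trans
    ((congrArg (DegPullLib.e0 _) hz).trans (AddEquiv.apply_symm_apply _ _))
  rw [← hl, Scheme.Hom.comp_appTop, CommRingCat.comp_apply, ← hc']
  exact congrArg _ h

include q hfib F hd h1 hM hA hpos in
/-- The cotangent space of the contraction. -/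
theorem exists_cotangent_map (hsep : ∀ x : U, x ∉ Set.range j → ∃ a : Γ(U, ⊤), j.appTop a = 0 ∧ x ∈ U.basicOpen a) :
    ∃ ψ : RingHom.ker j.appTop.hom →+ Γ(pb j (CohB1.tensorPow (ClSub.idealMod j.ker) 1), ⊤),
      Function.Surjective ψ ∧ (∀ x, ψ x = 0 ↔ (x : Γ(U, ⊤)) ∈ RingHom.ker j.appTop.hom ^ 2) ∧
      ∀ (a : Γ(U, ⊤)) x, ψ (a • x) = j.appTop.hom a • ψ x := by
  let M := ClSub.idealMod j.ker
  let P := CohB1.tensorPow M 1
  have hP : PicF.IsInvertible P := AmpleThLib.tensorPow_isInvertible hM 1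
  haveI : IsLocallyNoetherian U := LocallyOfFiniteType.isLocallyNoetherian q
  haveI : CompactSpace U := QuasiCompact.compactSpace_of_compactSpace q
  haveI : U.IsSeparated := ⟨by rw [← terminal.comp_from q]; infer_instance⟩
  have hN : PicF.IsInvertible (pb j M) := AmpleDevLib.isInvertible_pb j hM
  -- restriction of sections of the ideal
  obtain ⟨T, hT, ⟨e₃⟩, e₁, e₂, hmul⟩ := exists_restrict j hP
  let φ : P ⟶ (Coh.push j).obj (pb j P) := e₂.inv ≫ T.g ≫ e₃.hom
  let θ : P ⟶ Coh.structureModule U := (unitLeft M).hom ≫ ClSub.idealModι j.ker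
  let v : Γ(P, ⊤) →+ Γ(U, ⊤) := (θ.app ⊤).hom
  have hvs : ∀ (a : Γ(U, ⊤)) (u : Γ(P, ⊤)), v (a • u) = a * v u := fun a u => QCohLib.app_smul θ ⊤ a u
  have hvinj : Function.Injective v :=
    (IntMultLib.idealModι_app_injective j.ker ⊤).comp
      ((ConcreteCategory.isIso_iff_bijective ((unitLeft M).hom.app ⊤)).1 inferInstance).1
  have hvker : ∀ u, v u ∈ RingHom.ker j.appTop.hom := fun u => idealSection_vanish j ((unitLeft M).hom.app ⊤ u)
  have hvsurj : ∀ a ∈ RingHom.ker j.appTop.hom, ∃ u, v u = a := fun a ha => by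
    obtain ⟨b, hb⟩ := exists_ideal_section j (RingHom.mem_ker.1 ha)
    obtain ⟨u, hu⟩ := ((ConcreteCategory.isIso_iff_bijective ((unitLeft M).hom.app ⊤)).1 inferInstance).2 b
    exact ⟨u, (congrArg ((ClSub.idealModι j.ker).app ⊤) hu).trans hb⟩
  have hPsurj : ∀ τ : Γ(pb j P, ⊤), ∃ u, φ.app ⊤ u = τ := by
    refine (EvGGLib.step q hT e₁ e₂ e₃).2 fun a b _ => ?_
    have : Subsingleton (Coh.HH U (CohB1.tensorMod P M) 1) := h1_ideal_pow j q F hd h1 hM hA hpos 2
    exact Subsingleton.elim a b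
  -- global generation
  have hgg : Curv2.IsGloballyGenerated M := by
    refine MiscFlat6.isGloballyGenerated_of_genSections hM fun x => ?_
    by_cases hx : x ∈ Set.range j
    · obtain ⟨z, rfl⟩ := hx
      obtain ⟨τ, hτ⟩ := Groth.Agent.S1611.exists_genAt_of_gg hN (NefH1Lib.gg_of_deg_pos F hd h1 hN hpos) z
      obtain ⟨u, hu⟩ := hPsurj (((Scheme.Modules.pullback j).map (unitLeft M).inv).app ⊤ τ)
      refine ⟨(unitLeft M).hom.app ⊤ u, EvGGLib.mem_genSet_of_image j hM hN
        ((unitLeft M).inv ≫ φ ≫ (Coh.push j).map ((Scheme.Modules.pullback j).map (unitLeft M).hom)) _ z ?_⟩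
      refine (congrArg (fun t => z ∈ genSet hN t) ?_).mpr hτ
      show ((Scheme.Modules.pullback j).map (unitLeft M).hom).app ⊤
        (φ.app ⊤ ((unitLeft M).inv.app ⊤ ((unitLeft M).hom.app ⊤ u))) = τ
      rw [show (unitLeft M).inv.app ⊤ ((unitLeft M).hom.app ⊤ u) = u from
        congrArg (fun ψ : P ⟶ P => ψ.app ⊤ u) (unitLeft M).hom_inv_id, hu]
      exact congrArg (fun ψ : pb j M ⟶ pb j M => ψ.app ⊤ τ)
        (((Scheme.Modules.pullback j).mapIso (unitLeft M).symm).hom_inv_id)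
    · obtain ⟨a, ha, hxa⟩ := hsep x hx
      obtain ⟨b, hb⟩ := exists_ideal_section j ha
      exact ⟨b, genAt_of_basicOpen j hM hx b hb hxa⟩
  have hvan : ∀ N : U.Modules, Coh.IsQCoh N → Subsingleton (Coh.HH U N 2) := fun N hN =>
    haveI := hN
    FibVanLib.subsingleton_HH_affine q 1 hfib N 2 one_lt_two
  have hO : Subsingleton (Coh.HH U (Coh.structureModule U) 1) := h1_ideal_pow j q F hd h1 hM hA hpos 0
  obtain ⟨n, w, hw⟩ := NefH1Lib.exists_span q (CurvLib.isCoh_of_isInvertible hM)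
  have hspan : ∀ σ : Γ(M, ⊤), ∃ c : Fin (n + 1) → Γ(U, ⊤), σ = ∑ l, c l • w l := fun σ =>
    (hw σ).elim fun c hc => ⟨_, hc⟩
  -- the kernel of the restriction
  have hker : ∀ u : Γ(P, ⊤), φ.app ⊤ u = 0 → v u ∈ RingHom.ker j.appTop.hom ^ 2 := fun u hu => by
    have h0 : T.g.app ⊤ (e₂.inv.app ⊤ u) = 0 := by
      have h : e₃.hom.app ⊤ (T.g.app ⊤ (e₂.inv.app ⊤ u)) = 0 := hu
      refine ((ConcreteCategory.isIso_iff_bijective (e₃.hom.app ⊤)).1 inferInstance).1 (h.trans (map_zero _).symm)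
    obtain ⟨x, hx⟩ := AtlasCoh.hExact₂ (QCohLib.toAbF_shortExact hT) 0
      ((DegPullLib.e0 T.X₂).symm (e₂.inv.app ⊤ u)) (by
        refine (DegPullLib.e0 _).injective ((NefH1Lib.e0_map T.g _).trans ?_)
        rw [AddEquiv.apply_symm_apply, map_zero]
        exact h0)
    obtain ⟨s, hs⟩ := NefH1Lib.mul_surjective hvan hO hM hgg w hspan 1 (e₁.hom.app ⊤ (DegPullLib.e0 T.X₁ x))
    let f₂ : CohB1.tensorMod P M ⟶ P := e₁.inv ≫ T.f ≫ e₂.hom
    have hf₂ : f₂.app ⊤ (e₁.hom.app ⊤ (DegPullLib.e0 T.X₁ x)) = u := by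
      show e₂.hom.app ⊤ (T.f.app ⊤ (e₁.inv.app ⊤ (e₁.hom.app ⊤ (DegPullLib.e0 T.X₁ x)))) = u
      rw [show e₁.inv.app ⊤ (e₁.hom.app ⊤ (DegPullLib.e0 T.X₁ x)) = DegPullLib.e0 T.X₁ x from
        congrArg (fun ψ : T.X₁ ⟶ T.X₁ => ψ.app ⊤ (DegPullLib.e0 T.X₁ x)) e₁.hom_inv_id]
      refine (congrArg (e₂.hom.app ⊤) (((NefH1Lib.e0_map T.f x).symm).trans
        ((congrArg (DegPullLib.e0 _) hx).trans (AddEquiv.apply_symm_apply _ _)))).trans ?_
      exact congrArg (fun ψ : P ⟶ P => ψ.app ⊤ u) e₂.inv_hom_id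
    rw [hs, map_sum] at hf₂
    rw [← hf₂, map_sum, pow_two]
    refine Ideal.sum_mem _ fun l _ => ?_
    rw [show f₂.app ⊤ (shT (s l) (w l)) = _ from hmul (s l) (w l), hvs]
    exact Ideal.mul_mem_mul (idealSection_vanish j (w l)) (hvker _)
  choose s hs using hvsurj
  let ψ : RingHom.ker j.appTop.hom →+ Γ(pb j P, ⊤) :=
    { toFun := fun x => φ.app ⊤ (s x.1 x.2)
      map_zero' := by
        show φ.app ⊤ _ = 0
        exact (congrArg (φ.app ⊤) (hvinj ((hs _ _).trans (map_zero v).symm))).trans (map_zero _)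
      map_add' := fun x y => by
        rw [show s (x + y).1 (x + y).2 = s x.1 x.2 + s y.1 y.2 from hvinj (by rw [map_add, hs, hs, hs]; rfl)]
        exact map_add _ _ _ }
  have hψs : ∀ (a : Γ(U, ⊤)) x, ψ (a • x) = j.appTop.hom a • ψ x := fun a x => by
    show φ.app ⊤ (s (a • x).1 (a • x).2) = _
    rw [show s (a • x).1 (a • x).2 = a • s x.1 x.2 from hvinj (by rw [hvs, hs, hs]; rfl)]
    exact QCohLib.app_smul φ ⊤ a (s x.1 x.2)
  refine ⟨ψ, fun τ => ?_, fun x => ⟨fun h => (hs x.1 x.2) ▸ hker _ h, fun h => ?_⟩, hψs⟩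
  · obtain ⟨u, rfl⟩ := hPsurj τ
    exact ⟨⟨v u, hvker u⟩, congrArg (φ.app ⊤) (hvinj (hs (v u) (hvker u)))⟩
  · rw [pow_two, Submodule.mul_comm] at h
    suffices h' : ∀ y : Γ(U, ⊤), y ∈ RingHom.ker j.appTop.hom * RingHom.ker j.appTop.hom →
        ∃ hy : y ∈ RingHom.ker j.appTop.hom, ψ ⟨y, hy⟩ = 0 from (h' _ h).2
    intro y hy
    induction hy using Submodule.mul_induction_on' with
    | mem_mul_mem a ha b hb =>
      refine ⟨Ideal.mul_mem_left _ a hb, ?_⟩
      rw [show (⟨a * b, _⟩ : RingHom.ker j.appTop.hom) = a • ⟨b, hb⟩ from rfl, hψs, RingHom.mem_ker.1 ha]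
      exact zero_smul Γ(C, ⊤) _
    | add a _ b _ iha ihb =>
      obtain ⟨ha', ha⟩ := iha
      obtain ⟨hb', hb⟩ := ihb
      refine ⟨add_mem ha' hb', ?_⟩
      rw [show (⟨a + b, _⟩ : RingHom.ker j.appTop.hom) = ⟨a, ha'⟩ + ⟨b, hb'⟩ from rfl, map_add, ha, hb, add_zero]

end Main

end RegConLib
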