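import Groth.Agent.FLILib.Conormal
import Groth.Agent.RegImmKindLib.Mor
import Groth.Agent.ConormalInjLib.Main
import Groth.Agent.AdjFormLib.Ext

/-!
# The conormal sheaf of a regular immersion which need not be closed
-/

set_option autoImplicit false
set_option linter.style.haveILetI false
set_option linter.unusedSectionVars false
set_option maxHeartbeats 1000000
set_option backward.isDefEq.respectTransparency false
set_option backward.isDefEq.respectTransparency.types false
universe u

open CategoryTheory CategoryTheory.Limits AlgebraicGeometry TopologicalSpace Opposite TensorProduct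
open ProjFormLib (ger res ger_res ger_map ger_smul exists_ger section_ext)
open CohCmpLib (stk)
open FLI (WReg gF pG pG_smul pG_ger sMap sMap_injective smul_oneS_injective algS tS tS_bijective mem_of_one_tmul_eq_zero oneS)

noncomputable section

namespace RegConLib

variable {P X : Scheme.{u}} {ι : X ⟶ P} [IsImmersion ι] [QuasiCompact ι] {c : ℕ}

theorem σI'_injective (y : P) : Function.Injective (sMap (ClSub.idealModι ι.ker) y) := by
  haveI : Mono (ClSub.idealModι ι.ker) :=
    inferInstanceAs (Mono (kernel.ι (ClSub.toSubscheme ι.ker)))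
  exact sMap_injective _ y

theorem σI'_ger {W : P.Opens} {y : P} (hy : y ∈ W) (s : Γ(ClSub.idealMod ι.ker, W)) :
    sMap (ClSub.idealModι ι.ker) y (ger (ClSub.idealMod ι.ker) y hy s) =
      P.presheaf.germ W y hy (OmegaSh.idealSect ι.ker W s) • oneS y := by
  rw [← FLI.ger_smul_one]
  exact ger_map _ y hy s

theorem pG_surjective (M : P.Modules) (z : X) : Function.Surjective (pG ι M z) := by
  letI := algS ι z
  intro b
  obtain ⟨t, rfl⟩ := (tS_bijective ι M z).2 b
  have hs : Function.Surjective fun a : stk M (ι z) => ((1 : X.presheaf.stalk z) ⊗ₜ[P.presheaf.stalk (ι z)] a) := by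
    refine fun t => ?_
    induction t using TensorProduct.induction_on with
    | zero => exact ⟨0, TensorProduct.tmul_zero _ _⟩
    | tmul r a =>
      obtain ⟨r, rfl⟩ := ι.stalkMap_surjective z r
      refine ⟨r • a, ?_⟩
      show _ ⊗ₜ[P.presheaf.stalk (ι z)] (r • a) = _
      rw [← TensorProduct.smul_tmul, Algebra.smul_def, mul_one]
      rfl
    | add a b ha hb =>
      obtain ⟨a', rfl⟩ := ha
      obtain ⟨b', rfl⟩ := hb
      exact ⟨a' + b', TensorProduct.tmul_add _ _ _⟩
  obtain ⟨a, rfl⟩ := hs t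
  exact ⟨a, rfl⟩

theorem pG_eq_zero_iff (M : P.Modules) (z : X) (a : stk M (ι z)) :
    pG ι M z a = 0 ↔
      a ∈ RingHom.ker (ι.stalkMap z).hom • (⊤ : Submodule (P.presheaf.stalk (ι z)) (stk M (ι z))) := by
  letI := algS ι z
  constructor
  · intro h
    have h1 : (1 : X.presheaf.stalk z) ⊗ₜ[P.presheaf.stalk (ι z)] a = 0 :=
      (tS_bijective ι M z).1 (h.trans (map_zero _).symm)
    exact mem_of_one_tmul_eq_zero (ι.stalkMap_surjective z) h1
  · intro h
    refine Submodule.smul_induction_on h (fun r hr n _ => ?_) (fun x y hx hy => by rw [map_add, hx, hy, add_zero])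
    rw [pG_smul, show ι.stalkMap z r = 0 from hr, zero_smul]

variable (ι) in
/-- An affine open over which the immersion is closed, with a regular family generating the ideal. -/
structure Chart (U : P.affineOpens) (g : Fin c → Γ(P, U.1)) : Prop where
  affine : IsAffineOpen (ι ⁻¹ᵁ U.1)
  surj : Function.Surjective (ι.app U.1)
  ker_eq : RingHom.ker (ι.app U.1).hom = Ideal.span (Set.range g)
  wreg : WReg g

theorem exists_chart (hι : RegImm.IsRegularImmersionOfCodim RegImm.Kind.regular c ι) (z : X) :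
    ∃ (U : P.affineOpens) (g : Fin c → Γ(P, U.1)), ι z ∈ U.1 ∧ Chart ι U g := by
  obtain ⟨U, hz, hcl, rs, hl, hrs, hker⟩ := hι.2 z
  obtain ⟨hV, hs⟩ := (KRLib.isClosedImmersion_restrict_iff ι U.2).1 hcl
  refine ⟨U, fun i => rs.get (i.cast hl.symm), hz, hV, hs, ?_, FLI.wReg_of_isWeaklyRegular rs hrs.toIsWeaklyRegular hl⟩
  rw [hker, Ideal.ofList]
  congr 1
  ext x
  simp only [Set.mem_range, List.mem_iff_getElem, List.get_eq_getElem, Set.mem_ofPred_eq, Fin.val_cast]
  constructor
  · rintro ⟨j, hj, rfl⟩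
    exact ⟨⟨j, hl ▸ hj⟩, rfl⟩
  · rintro ⟨i, rfl⟩
    exact ⟨i, hl.symm ▸ i.2, rfl⟩

variable {U : P.affineOpens} {g : Fin c → Γ(P, U.1)}

theorem Chart.app_eq_zero (h : Chart ι U g) (j : Fin c) : ι.app U.1 (g j) = 0 := by
  have hj : g j ∈ RingHom.ker (ι.app U.1).hom := h.ker_eq ▸ Ideal.subset_span ⟨j, rfl⟩
  exact hj

/-- The classes of the family in the conormal sheaf. -/
def Chart.cls (h : Chart ι U g) (j : Fin c) : Γ(Omega.conormal ι, ι ⁻¹ᵁ U.1) :=
  OmegaSh.conormalSect ι U.1 (ConormalSecLib.lift ι U.1 (g j) (h.app_eq_zero j))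

theorem Chart.ker_stalkMap (h : Chart ι U g) {z : X} (hz : ι z ∈ U.1) :
    RingHom.ker (ι.stalkMap z).hom = Ideal.span (Set.range (gF hz g)) := by
  refine (RegImmKindLib.ker_stalkMap ι U.2 h.affine h.surj z hz).1.trans ?_
  rw [h.ker_eq, Ideal.map_span, ← Set.range_comp]
  rfl

theorem Chart.wreg_germ (h : Chart ι U g) {y : P} (hy : y ∈ U.1) : WReg (gF hy g) := by
  letI := P.presheaf.algebra_section_stalk (⟨y, hy⟩ : U.1)
  haveI := U.2.isLocalization_stalk ⟨y, hy⟩
  exact FLI.WReg.localization h.wreg (U.2.primeIdealOf ⟨y, hy⟩).asIdeal.primeCompl (B := P.presheaf.stalk y)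

theorem Chart.exists_σI (h : Chart ι U g) {z : X} (hz : ι z ∈ U.1) (m : stk (ClSub.idealMod ι.ker) (ι z)) :
    ∃ r ∈ Ideal.span (Set.range (gF hz g)), sMap (ClSub.idealModι ι.ker) (ι z) m = r • oneS (ι z) := by
  obtain ⟨W, hW, s, rfl⟩ := exists_ger _ _ m
  refine ⟨P.presheaf.germ W (ι z) hW (OmegaSh.idealSect ι.ker W s), ?_, σI'_ger hW s⟩
  rw [← h.ker_stalkMap hz, RingHom.mem_ker]
  show (ι.stalkMap z) _ = 0
  rw [Scheme.Hom.germ_stalkMap_apply]
  exact (congrArg _ (ConormalSecLib.app_idealSect ι W s)).trans (map_zero _)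

/-- The classes form a frame. -/
theorem Chart.frame (h : Chart ι U g) (z : X) (hz : ι z ∈ U.1) :
    DetDegLib.FrameAt (Omega.conormal ι) h.cls (x := z) hz := by
  let A := P.presheaf.stalk (ι z)
  let K := Ideal.span (Set.range (gF hz g))
  let M := ClSub.idealMod ι.ker
  let ℓ : Fin c → stk M (ι z) := fun j => ger M (ι z) hz (ConormalSecLib.lift ι U.1 (g j) (h.app_eq_zero j))
  have hl : ∀ j, sMap (ClSub.idealModι ι.ker) (ι z) (ℓ j) = gF hz g j • oneS (ι z) := fun j => by
    rw [σI'_ger, ConormalSecLib.idealSect_lift]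
  have hσ : ∀ r : Fin c → A, sMap (ClSub.idealModι ι.ker) (ι z) (∑ j, r j • ℓ j) = (∑ j, r j * gF hz g j) • oneS (ι z) := by
    intro r
    rw [map_sum, Finset.sum_smul]
    exact Finset.sum_congr rfl fun j _ => by rw [map_smul, hl, smul_smul]
  have hcomb : ∀ r : Fin c → A, pG ι M z (∑ j, r j • ℓ j) =
      ∑ j, ι.stalkMap z (r j) • ger (Omega.conormal ι) z (U := ι ⁻¹ᵁ U.1) hz (h.cls j) := by
    intro r
    rw [map_sum]
    exact Finset.sum_congr rfl fun j _ => by
      rw [pG_smul]
      exact congrArg (_ • ·) (pG_ger ι M hz _)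
  constructor
  · intro a b hab
    rw [← sub_eq_zero]
    have h0 : ∑ j, (a - b) j • ger (Omega.conormal ι) z (U := ι ⁻¹ᵁ U.1) hz (h.cls j) = 0 := by
      simp only [Pi.sub_apply, sub_smul, Finset.sum_sub_distrib]
      exact sub_eq_zero.2 hab
    generalize a - b = d at h0 ⊢
    choose r hr using fun j => ι.stalkMap_surjective z (d j)
    have h1 : pG ι M z (∑ j, r j • ℓ j) = 0 := by
      rw [hcomb]
      simp only [hr]
      exact h0
    rw [pG_eq_zero_iff, h.ker_stalkMap hz] at h1
    have h2 : ∀ x ∈ K • (⊤ : Submodule A (stk M (ι z))), ∃ k ∈ K * K, sMap (ClSub.idealModι ι.ker) (ι z) x = k • oneS (ι z) := by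
      intro x hx
      refine Submodule.smul_induction_on hx (fun k hk m _ => ?_) ?_
      · obtain ⟨k', hk', e⟩ := h.exists_σI hz m
        exact ⟨k * k', Ideal.mul_mem_mul hk hk', by rw [map_smul, e, smul_smul]⟩
      · rintro x y ⟨k, hk, e⟩ ⟨k', hk', e'⟩
        exact ⟨k + k', add_mem hk hk', by rw [map_add, e, e', add_smul]⟩
    obtain ⟨k, hk, e⟩ := h2 _ h1
    have h3 : ∑ j, r j * gF hz g j = k := sub_eq_zero.1 (smul_oneS_injective _ _ (by
      rw [sub_smul, ← hσ, e, sub_self]))
    funext j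
    show d j = 0
    rw [← hr j]
    have h4 := (h.wreg_germ hz).mem_of_sum_mem_sq r (h3 ▸ hk) j
    rw [← h.ker_stalkMap hz] at h4
    exact h4
  · intro x
    obtain ⟨m, rfl⟩ := pG_surjective (ι := ι) M z x
    obtain ⟨k, hk, e⟩ := h.exists_σI hz m
    obtain ⟨r, rfl⟩ := (Ideal.mem_span_range_iff_exists_fun).1 hk
    refine ⟨fun j => ι.stalkMap z (r j), ?_⟩
    have h5 : ∑ j, r j • ℓ j = m := σI'_injective (ι z) (by rw [hσ, e])
    rw [← h5, hcomb]
    rfl

/-- The conormal sheaf of a regular immersion is locally free of rank the codimension. -/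
theorem rank_conormal (hι : RegImm.IsRegularImmersionOfCodim RegImm.Kind.regular c ι) :
    FlatMod.IsFinLocFreeOfRank c (Omega.conormal ι) :=
  AdjFormLib.isFinLocFreeOfRank_of_frames fun z => by
    obtain ⟨U, g, hz, h⟩ := exists_chart hι z
    exact ⟨_, h.cls, hz, fun y hy => h.frame y hy⟩

end RegConLib
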