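import Groth.Agent.RegConLib.Comp
import Groth.Agent.RTrivLib.Curve
import Groth.Agent.RegImmKindLib.Mor
import Groth.Agent.CILib.MinGen

/-!
# Compatible charts from germs
-/

set_option autoImplicit false
set_option linter.style.haveILetI false
set_option linter.unusedSectionVars false
set_option maxHeartbeats 1000000
set_option backward.isDefEq.respectTransparency false
set_option backward.isDefEq.respectTransparency.types false
universe u

open CategoryTheory CategoryTheory.Limits AlgebraicGeometry TopologicalSpace Opposite RingTheory.Sequence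
open FLI (IsChart preA resFam WReg gF)

noncomputable section

namespace RegConLib

theorem regular_stalk_over {R : Type u} [CommRing R] [IsRegularRing R] {Y : Scheme.{u}}
    (g : Y ⟶ Spec (CommRingCat.of R)) [Smooth g] (y : Y) : IsRegularLocalRing (Y.presheaf.stalk y) := by
  obtain ⟨U, hU, hy, -⟩ := exists_isAffineOpen_mem_and_subset (x := y) (U := ⊤) trivial
  have hs := g.smooth_appLE (isAffineOpen_top _) hU (le_of_le_of_eq le_top (by simp))
  algebraize [(g.appLE ⊤ U (le_of_le_of_eq le_top (by simp))).hom]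
  haveI : IsRegularRing Γ(Spec (CommRingCat.of R), ⊤) :=
    IsRegularRing.of_ringEquiv (Scheme.ΓSpecIso (CommRingCat.of R)).symm.commRingCatIsoToRingEquiv
  haveI := CohenLib.isRegularRing_of_smooth Γ(Spec (CommRingCat.of R), ⊤) Γ(Y, U)
  let p := (hU.primeIdealOf ⟨y, hy⟩).asIdeal
  letI := Y.presheaf.algebra_section_stalk (⟨y, hy⟩ : U)
  haveI : IsLocalization.AtPrime (Y.presheaf.stalk y) p := hU.isLocalization_stalk ⟨y, hy⟩
  exact IsRegularLocalRing.of_ringEquiv
    (IsLocalization.algEquiv p.primeCompl (Localization.AtPrime p) (Y.presheaf.stalk y)).toRingEquiv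

theorem exists_sections {C : Scheme.{u}} (p : C) : ∀ {n : ℕ} (e : Fin n → C.presheaf.stalk p),
    ∃ (U : C.affineOpens) (hp : p ∈ U.1) (s : Fin n → Γ(C, U.1)), ∀ j, C.presheaf.germ U.1 p hp (s j) = e j := by
  intro n e
  choose O hO r hr using fun j => C.presheaf.exists_germ_eq (x := p) (e j)
  obtain ⟨U, hU, hpU, hle⟩ := exists_isAffineOpen_mem_and_subset (x := p)
    (U := ⟨⋂ j, (O j : Set C), isOpen_iInter_of_finite fun j => (O j).2⟩) (Set.mem_iInter.2 hO)
  have hUO : ∀ j, U ≤ O j := fun j z hz => Set.mem_iInter.1 (hle hz) j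
  exact ⟨⟨U, hU⟩, hpU, fun j => C.presheaf.map (homOfLE (hUO j)).op (r j), fun j =>
    (TopCat.Presheaf.germ_res_apply C.presheaf (homOfLE (hUO j)) p hpU (r j)).trans (hr j)⟩

/-- A family of sections whose germs are a regular sequence generating the stalk of the ideal is, near the point, a
chart. -/
theorem exists_chart_of_germs {Z C : Scheme.{u}} (ι : Z ⟶ C) [IsClosedImmersion ι] [IsLocallyNoetherian C] {c : ℕ}
    (U : C.affineOpens) (s : Fin c → Γ(C, U.1)) (z : Z) (hz : ι z ∈ U.1)
    (hker : RingHom.ker (ι.stalkMap z).hom = Ideal.span (Set.range (gF hz s)))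
    (hreg : IsRegular (C.presheaf.stalk (ι z)) (List.ofFn (gF hz s))) :
    ∃ f : Γ(C, U.1), ι z ∈ C.basicOpen f ∧ ∀ f', f ∣ f' →
      IsChart ι ⟨C.basicOpen f', U.2.basicOpen f'⟩ (resFam (C.basicOpen_le f') s) := by
  let A := Γ(C, U.1)
  haveI : IsNoetherianRing A := IsLocallyNoetherian.component_noetherian U
  letI := C.presheaf.algebra_section_stalk (⟨ι z, hz⟩ : U.1)
  let p := (U.2.primeIdealOf ⟨ι z, hz⟩).asIdeal
  let L := C.presheaf.stalk (ι z)
  haveI : IsLocalization.AtPrime L p := U.2.isLocalization_stalk ⟨ι z, hz⟩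
  let I := ι.ker.ideal U
  let J := Ideal.span (Set.range s)
  have hI : I.map (algebraMap A L) = J.map (algebraMap A L) := by
    rw [Ideal.map_span, ← Set.range_comp]
    refine Eq.trans ?_ hker
    rw [(RegImmKindLib.ker_stalkMap ι U.2 (U.2.preimage ι) (ι.app_surjective U.1 U.2) z hz).1]
    exact congrArg (Ideal.map (algebraMap A L)) (Scheme.Hom.ker_apply ι U)
  have back : ∀ {K K' : Ideal A} {x : A}, algebraMap A L x ∈ K.map (algebraMap A L) →
      K.map (algebraMap A L) = K'.map (algebraMap A L) → ∃ t, t ∉ p ∧ t * x ∈ K' := fun hx e =>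
    (IsLocalization.algebraMap_mem_map_algebraMap_iff p.primeCompl L _ _).1 (e ▸ hx)
  obtain ⟨g₁, hg₁, hg₁'⟩ := RegImmKindLib.exists_notMem_mul_mem p J I fun x hx =>
    back (Ideal.mem_map_of_mem _ hx) hI
  obtain ⟨g₂, hg₂, hg₂'⟩ := RegImmKindLib.exists_notMem_mul_mem p I J fun x hx =>
    back (Ideal.mem_map_of_mem _ hx) hI.symm
  have hw : WReg (gF hz s) := by
    have h := FLI.wReg_of_isWeaklyRegular _ hreg.toIsWeaklyRegular (List.length_ofFn)
    convert h using 1
    funext i
    simp
  have hcol : ∀ i : Fin c, ∃ g, g ∉ p ∧ ∀ m ∈ (Submodule.comap (LinearMap.mulLeft A (s i))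
      (Ideal.span (s '' {j | j < i})) : Ideal A), g * m ∈ Ideal.span (s '' {j | j < i}) := fun i => by
    refine RegImmKindLib.exists_notMem_mul_mem p _ _ fun m hm => ?_
    have h1 : gF hz s i * algebraMap A L m ∈ Ideal.span (gF hz s '' {j | j < i}) := by
      have := Ideal.mem_map_of_mem (algebraMap A L) (show s i * m ∈ Ideal.span (s '' {j | j < i}) from hm)
      rw [map_mul, Ideal.map_span, Set.image_image] at this
      exact this
    have h2 := hw i _ h1
    refine (IsLocalization.algebraMap_mem_map_algebraMap_iff p.primeCompl L _ _).1 ?_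
    rw [Ideal.map_span, Set.image_image]
    exact h2
  choose gi hgi hgi' using hcol
  refine ⟨g₁ * g₂ * ∏ i, gi i, ?_, fun f' hf' => ?_⟩
  · rw [show (ι z) = U.2.fromSpec (U.2.primeIdealOf ⟨ι z, hz⟩) from (U.2.fromSpec_primeIdealOf ⟨ι z, hz⟩).symm]
    show U.2.primeIdealOf ⟨ι z, hz⟩ ∈ U.2.fromSpec ⁻¹ᵁ C.basicOpen _
    rw [U.2.fromSpec_preimage_basicOpen]
    exact mul_mem (s := p.primeCompl) (mul_mem (s := p.primeCompl) hg₁ hg₂)
      (prod_mem (S := p.primeCompl) fun i _ => hgi i)
  let V : C.affineOpens := ⟨C.basicOpen f', U.2.basicOpen f'⟩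
  letI : Algebra A Γ(C, V.1) := (C.presheaf.map (homOfLE (C.basicOpen_le f')).op).hom.toAlgebra
  haveI : IsLocalization.Away f' Γ(C, V.1) := U.2.isLocalization_basicOpen f'
  have hu : ∀ g : A, g ∣ f' → IsUnit (algebraMap A Γ(C, V.1) g) := fun g hg =>
    isUnit_of_dvd_unit (map_dvd _ hg) (IsLocalization.Away.algebraMap_isUnit f')
  have hu₁ := hu g₁ ((dvd_mul_of_dvd_left (dvd_mul_right _ _) _).trans hf')
  have hu₂ := hu g₂ ((dvd_mul_of_dvd_left (dvd_mul_left _ _) _).trans hf')
  have hui := fun i : Fin c => hu (gi i) ((dvd_mul_of_dvd_right (Finset.dvd_prod_of_mem _ (Finset.mem_univ i)) _).trans hf')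
  refine ⟨?_, fun i a ha => ?_⟩
  · refine ((ι.ker.map_ideal_basicOpen U f').symm).trans ?_
    have e : I.map (algebraMap A Γ(C, V.1)) = J.map (algebraMap A Γ(C, V.1)) := by
      refine le_antisymm (Ideal.map_le_iff_le_comap.2 fun x hx => ?_) (Ideal.map_le_iff_le_comap.2 fun x hx => ?_)
      · rw [Ideal.mem_comap, ← Ideal.unit_mul_mem_iff_mem _ hu₁, ← map_mul]
        exact Ideal.mem_map_of_mem _ (hg₁' x hx)
      · rw [Ideal.mem_comap, ← Ideal.unit_mul_mem_iff_mem _ hu₂, ← map_mul]
        exact Ideal.mem_map_of_mem _ (hg₂' x hx)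
    refine e.trans ?_
    rw [Ideal.map_span, ← Set.range_comp]
    rfl
  · obtain ⟨⟨m, t⟩, hmt⟩ := IsLocalization.surj (Submonoid.powers f') a
    have ht := IsLocalization.map_units (S := Γ(C, V.1)) t
    have hspan : Ideal.span ((fun j => resFam (C.basicOpen_le f') s j) '' {j | j < i}) =
        (Ideal.span (s '' {j | j < i})).map (algebraMap A Γ(C, V.1)) := by
      rw [Ideal.map_span, Set.image_image]
      rfl
    rw [hspan] at ha ⊢
    have h1 : algebraMap A Γ(C, V.1) (s i * m) ∈ (Ideal.span (s '' {j | j < i})).map (algebraMap A Γ(C, V.1)) := by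
      rw [map_mul, show algebraMap A Γ(C, V.1) m = a * algebraMap A Γ(C, V.1) t from hmt.symm, ← mul_assoc]
      exact Ideal.mul_mem_right _ _ ha
    obtain ⟨t', ht', h2⟩ := (IsLocalization.algebraMap_mem_map_algebraMap_iff (Submonoid.powers f') _ _ _).1 h1
    have h3 : gi i * (t' * m) ∈ Ideal.span (s '' {j | j < i}) := hgi' i _ (by
      show s i * (t' * m) ∈ Ideal.span (s '' {j | j < i})
      rw [mul_left_comm]; exact h2)
    have h4 := Ideal.mem_map_of_mem (algebraMap A Γ(C, V.1)) h3
    rw [map_mul, map_mul, Ideal.unit_mul_mem_iff_mem _ (hui i),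
      Ideal.unit_mul_mem_iff_mem _ (IsLocalization.map_units (S := Γ(C, V.1)) ⟨t', ht'⟩),
      show algebraMap A Γ(C, V.1) m = a * algebraMap A Γ(C, V.1) t from hmt.symm] at h4
    exact (Ideal.mul_unit_mem_iff_mem _ ht).1 h4

/-- Compatible charts from germs. -/
theorem exists_pieces_of_germs {A B C : Scheme.{u}} (a : A ⟶ B) (b : B ⟶ C) [IsClosedImmersion a] [IsClosedImmersion b]
    [IsLocallyNoetherian C] {c₁ c₂ : ℕ} (y : A) (U : C.affineOpens) (hy : b (a y) ∈ U.1)
    (g : Fin c₁ → Γ(C, U.1)) (h : Fin c₂ → Γ(C, U.1))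
    (hkb : RingHom.ker (b.stalkMap (a y)).hom = Ideal.span (Set.range (gF hy g)))
    (hrb : IsRegular (C.presheaf.stalk (b (a y))) (List.ofFn (gF hy g)))
    (hkab : RingHom.ker ((a ≫ b).stalkMap y).hom =
      Ideal.span (Set.range (gF hy fun j => Sum.elim g h (finSumFinEquiv.symm j))))
    (hrab : IsRegular (C.presheaf.stalk (b (a y)))
      (List.ofFn (gF hy fun j => Sum.elim g h (finSumFinEquiv.symm j)))) :
    ∃ d : Pieces a b c₁ c₂, b (a y) ∈ d.U.1 := by
  let G : Fin (c₁ + c₂) → Γ(C, U.1) := fun j => Sum.elim g h (finSumFinEquiv.symm j)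
  obtain ⟨f₁, hy₁, hf₁⟩ := exists_chart_of_germs b U g (a y) hy hkb hrb
  obtain ⟨f₂, hy₂, hf₂⟩ := exists_chart_of_germs (a ≫ b) U G y hy hkab hrab
  let f := f₁ * f₂
  let W : C.affineOpens := ⟨C.basicOpen f, U.2.basicOpen f⟩
  have hle : W.1 ≤ U.1 := C.basicOpen_le f
  have hb := hf₁ f (dvd_mul_right _ _)
  have hab : IsChart (a ≫ b) W (fun j => Sum.elim (resFam hle g) (resFam hle h) (finSumFinEquiv.symm j)) := by
    have h2 := hf₂ f (dvd_mul_left _ _)
    convert h2 using 2
    rename_i j
    show _ = C.presheaf.map _ (G j)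
    simp only [G]
    rcases finSumFinEquiv.symm j with k | k <;> rfl
  refine ⟨⟨W, resFam hle g, resFam hle h, hb, hab, ?_, fun i x hx => ?_⟩, ?_⟩
  · -- the ideal of the first immersion inside the second
    rw [Scheme.Hom.ker_apply]
    have hs := b.app_surjective W.1 W.2
    refine le_antisymm (fun x hx => ?_) (Ideal.span_le.2 ?_)
    · obtain ⟨x, rfl⟩ := hs x
      have h1 : x ∈ (a ≫ b).ker.ideal W := by
        rw [Scheme.Hom.ker_apply]
        exact hx
      rw [hab.ideal_eq] at h1
      obtain ⟨q, rfl⟩ := (Ideal.mem_span_range_iff_exists_fun).1 h1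
      rw [map_sum]
      refine sum_mem fun j _ => ?_
      rw [map_mul]
      refine Ideal.mul_mem_left _ _ ?_
      rcases finSumFinEquiv.symm j with k | k
      · show b.app W.1 (resFam hle g k) ∈ _
        rw [hb.app_eq_zero k]
        exact zero_mem _
      · exact Ideal.subset_span ⟨k, rfl⟩
    · rintro _ ⟨k, rfl⟩
      have h1 : resFam hle h k ∈ (a ≫ b).ker.ideal W :=
        hab.ideal_eq ▸ Ideal.subset_span ⟨finSumFinEquiv (Sum.inr k), by simp⟩
      rw [Scheme.Hom.ker_apply] at h1
      exact h1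
  · -- regularity modulo the first family
    obtain ⟨x, rfl⟩ := b.app_surjective W.1 W.2 x
    let G' : Fin (c₁ + c₂) → Γ(C, W.1) := fun j => Sum.elim (resFam hle g) (resFam hle h) (finSumFinEquiv.symm j)
    let i' : Fin (c₁ + c₂) := finSumFinEquiv (Sum.inr i)
    have hlt : ∀ (k : Fin c₁), finSumFinEquiv (Sum.inl k) < i' := fun k => by
      rw [Fin.lt_def]
      simp [i']
      omega
    have hker : RingHom.ker (b.app W.1).hom ≤ Ideal.span (G' '' {j | j < i'}) := by
      rw [← Scheme.Hom.ker_apply, hb.ideal_eq, Ideal.span_le]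
      rintro _ ⟨k, rfl⟩
      exact Ideal.subset_span ⟨_, hlt k, by simp [G']; rfl⟩
    let S : Set Γ(C, W.1) := resFam hle h '' {j | j < i}
    have hS : Ideal.span ((fun j => b.app W.1 (resFam hle h j)) '' {j | j < i}) = (Ideal.span S).map (b.app W.1).hom := by
      rw [Ideal.map_span, Set.image_image]
    have hSle : Ideal.span S ≤ Ideal.span (G' '' {j | j < i'}) := Ideal.span_mono <| by
      rintro _ ⟨k, hk, rfl⟩
      refine ⟨finSumFinEquiv (Sum.inr k), ?_, by simp [G']⟩
      show finSumFinEquiv (Sum.inr k) < i'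
      rw [Fin.lt_def]
      simpa [i'] using hk
    rw [hS, ← map_mul] at hx
    obtain ⟨w, hw, hwx⟩ := (Ideal.mem_map_iff_of_surjective (b.app W.1).hom (b.app_surjective W.1 W.2)).1 hx
    have h1 : G' i' * x ∈ Ideal.span (G' '' {j | j < i'}) := by
      have : resFam hle h i * x - w ∈ RingHom.ker (b.app W.1).hom := by
        rw [RingHom.mem_ker, map_sub, sub_eq_zero]
        exact hwx.symm
      have h := add_mem (hker this) (hSle hw)
      rw [sub_add_cancel] at h
      simpa [G', i'] using h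
    have h2 := hab.wreg i' x h1
    refine Ideal.span_le.2 ?_ (Ideal.mem_map_of_mem (b.app W.1).hom h2 |> fun h3 => by
      rw [Ideal.map_span] at h3; exact h3)
    rintro _ ⟨_, ⟨j, hj, rfl⟩, rfl⟩
    obtain ⟨k | k, rfl⟩ := finSumFinEquiv.surjective j
    · show b.app W.1 (G' _) ∈ _
      simp only [G', Equiv.symm_apply_apply, Sum.elim_inl]
      rw [hb.app_eq_zero k]
      exact zero_mem _
    · refine Ideal.subset_span ⟨k, ?_, by simp [G']⟩
      have hj' : finSumFinEquiv (Sum.inr k) < i' := hj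
      rw [Fin.lt_def] at hj'
      show k < i
      simpa [i'] using hj'
  · show b (a y) ∈ C.basicOpen f
    rw [Scheme.basicOpen_mul]
    exact ⟨hy₁, hy₂⟩

/-- A parameter of a regular local ring with regular quotient is not in the square of the maximal ideal. -/
theorem notMem_sq_of_regular_quotient {R : Type u} [CommRing R] [IsRegularLocalRing R] [IsDomain R] {t : R} (ht : t ≠ 0)
    (htm : t ∈ IsLocalRing.maximalIdeal R) (hq : IsRegularLocalRing (R ⧸ Ideal.span {t})) :
    t ∉ IsLocalRing.maximalIdeal R ^ 2 := by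
  intro h2
  haveI := hq
  let m := IsLocalRing.maximalIdeal R
  let π := Ideal.Quotient.mk (Ideal.span {t})
  obtain ⟨S₀, hS, hSm⟩ := Submodule.FG.exists_span_finset_card_eq_spanFinrank
    (IsNoetherian.noetherian (IsLocalRing.maximalIdeal (R ⧸ Ideal.span {t})))
  let S : Set (R ⧸ Ideal.span {t}) := ↑S₀
  choose r hr using fun x : R ⧸ Ideal.span {t} => Ideal.Quotient.mk_surjective (I := Ideal.span {t}) x
  classical
  let T : Set R := r '' S
  have hmap : (IsLocalRing.maximalIdeal (R ⧸ Ideal.span {t})).comap π = m :=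
    IsLocalRing.eq_maximalIdeal (Ideal.comap_isMaximal_of_surjective _ Ideal.Quotient.mk_surjective)
  have hle : m ≤ Ideal.span T ⊔ m • m := by
    intro x hx
    have h1 : π x ∈ Ideal.span S := by
      rw [show Ideal.span S = IsLocalRing.maximalIdeal (R ⧸ Ideal.span {t}) from hSm]
      rw [← hmap] at hx
      exact hx
    have h3 : Ideal.span S = (Ideal.span T).map π := by
      rw [Ideal.map_span, Set.image_image]
      congr 1
      ext z
      simp [hr, π]
    rw [h3, ← Ideal.mem_comap, Ideal.comap_map_of_surjective _ Ideal.Quotient.mk_surjective,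
      ← RingHom.ker_eq_comap_bot, Ideal.mk_ker] at h1
    refine (sup_le le_sup_left (le_trans ?_ le_sup_right) : Ideal.span T ⊔ Ideal.span {t} ≤ Ideal.span T ⊔ m • m) h1
    rw [Ideal.span_le, Set.singleton_subset_iff, smul_eq_mul, ← pow_two]
    exact h2
  have hmT := Submodule.le_of_le_smul_of_le_jacobson_bot (IsNoetherian.noetherian m)
    (IsLocalRing.jacobson_eq_maximalIdeal ⊥ bot_ne_top).ge hle
  have hTm : Ideal.span T = m := le_antisymm (Ideal.span_le.2 (by
    rintro _ ⟨x, hx, rfl⟩
    rw [SetLike.mem_coe, ← hmap, Ideal.mem_comap, show π (r x) = x from hr x]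
    exact hSm ▸ Ideal.subset_span hx)) hmT
  have hcard : m.spanFinrank ≤ (IsLocalRing.maximalIdeal (R ⧸ Ideal.span {t})).spanFinrank := by
    rw [← hTm, ← hS]
    refine (Submodule.spanFinrank_span_le_ncard_of_finite (S₀.finite_toSet.image r)).trans ?_
    exact (Set.ncard_image_le S₀.finite_toSet).trans (Set.ncard_coe_finset S₀).le
  have hd := ringKrullDim_quotient_span_singleton_succ_eq_ringKrullDim
    (fun x y (h : t * x = t * y) => mul_left_cancel₀ ht h) htm
  rw [← IsRegularLocalRing.spanFinrank_maximalIdeal (R := R),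
    ← IsRegularLocalRing.spanFinrank_maximalIdeal (R := R ⧸ Ideal.span {t})] at hd
  have h3 : (IsLocalRing.maximalIdeal (R ⧸ Ideal.span {t})).spanFinrank + 1 = m.spanFinrank := by exact_mod_cast hd
  omega

end RegConLib
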