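import Groth.Agent.VertChiLib.Exc
import Groth.Agent.NefH1Lib.MinimalPoint
import Groth.Agent.NefH1Lib.Mult
import Groth.Agent.GenusZeroLib.Degrees

/-!
# Curves without `H¹(O)` over their constants
-/

set_option autoImplicit false
set_option linter.style.haveILetI false
set_option linter.unusedSectionVars false
set_option maxHeartbeats 1000000
set_option backward.isDefEq.respectTransparency false
set_option backward.isDefEq.respectTransparency.types false
universe u

open CategoryTheory CategoryTheory.Limits AlgebraicGeometry TopologicalSpace Opposite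
open HilbPolyLib (unitLeft)

noncomputable section

namespace RegConLib

variable (F : Type u) [Field F] {C : Scheme.{u}} [C.Over (Spec (CommRingCat.of F))]
  [IsProper (C ↘ Spec (CommRingCat.of F))] [IsIntegral C] (hd : topologicalKrullDim C = 1)
  (h1 : Subsingleton (Coh.HH C (Coh.structureModule C) 1))

include F in
theorem isField_constants : IsField Γ(C, ⊤) := by
  let ρ : F →+* Γ(C, ⊤) := Coh.toGlobal (C ↘ Spec (CommRingCat.of F))
  letI : Algebra F Γ(C, ⊤) := ρ.toAlgebra
  let e : Coh.HH C (Coh.structureModule C) 0 ≃ₗ[F] Γ(C, ⊤) :=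
    { (show Coh.HH C (Coh.structureModule C) 0 ≃+ Γ(C, ⊤) from DegPullLib.e0 (Coh.structureModule C)) with
      map_smul' := fun r x => DegPullLib.e0_smul (Coh.structureModule C) _ x }
  haveI : Module.Finite F (Coh.HH C (Coh.structureModule C) 0) :=
    CurvLib.finite_HH (k := F) (DevissLib.isCoh_structureModule _) 0
  haveI : Module.Finite F Γ(C, ⊤) := Module.Finite.equiv e
  haveI : IsArtinianRing Γ(C, ⊤) := isArtinian_of_tower F inferInstance
  exact IsArtinianRing.isField_of_isDomain _

include F hd h1 in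
/-- Powers of a bundle of positive degree have no `H¹`. -/
theorem h1_pow_of_deg_pos {N : C.Modules} (hN : PicF.IsInvertible N) (hpos : 0 < Curv2.deg F C N 1) (m : ℕ) :
    Subsingleton (Coh.HH C (CohB1.tensorPow N m) 1) := by
  haveI := CurvLib.isNoetherian F (X := C)
  haveI : C.IsSeparated := ⟨by rw [← terminal.comp_from (C ↘ Spec (CommRingCat.of F))]; infer_instance⟩
  have hvan : ∀ M : C.Modules, Coh.IsQCoh M → Subsingleton (Coh.HH C M 2) := fun M _ =>
    CurvLib.subsingleton_HH_of_dim_le M (d := 1) hd.le 2 one_lt_two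
  exact NefH1Lib.h1_iso (unitLeft _) (NefH1Lib.h1_tensor_pow hvan QCohLib.isQCoh_unit h1 hN
    (NefH1Lib.gg_of_deg_pos F hd h1 hN hpos) m)

include F hd h1 in
/-- The space of sections over the constants. -/
theorem finrank_sections {N : C.Modules} (hN : PicF.IsInvertible N) {d : ℕ}
    (hdeg : Curv2.deg F C N 1 = (d : ℤ) * (VertChiLib.w F C : ℤ)) (hpos : 0 < Curv2.deg F C N 1) :
    Module.finrank Γ(C, ⊤) Γ(N, ⊤) = d + 1 := by
  haveI := CurvLib.isNoetherian F (X := C)
  have hd' : topologicalKrullDim C ≤ ((1 : ℕ) : WithBot ℕ∞) := hd.le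
  have hN1 : Subsingleton (Coh.HH C N 1) := NefH1Lib.h1_iso (unitLeft _) (h1_pow_of_deg_pos F hd h1 hN hpos 1)
  letI : ∀ j, Module Γ(C, ⊤) (Coh.HH C N j) := fun j => Coh.moduleΓtop N j
  let e : Coh.HH C N 0 ≃ₗ[Γ(C, ⊤)] Γ(N, ⊤) :=
    { DegPullLib.e0 N with map_smul' := fun r x => DegPullLib.e0_smul N r x }
  have hE : VertChiLib.eΓ C N = (Module.finrank Γ(C, ⊤) Γ(N, ⊤) : ℤ) := by
    rw [VertChiLib.eΓ, e.finrank_eq, Module.finrank_zero_of_subsingleton (M := Coh.HH C N 1), Nat.cast_zero, sub_zero]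
  have hO : Curv2.euler F C (Coh.structureModule C) = (VertChiLib.w F C : ℤ) := by
    rw [CurvLib.euler_eq_finrank fun j hj => (Nat.lt_or_ge 1 j).elim
      (fun h => CurvLib.subsingleton_HH_of_dim_le _ (d := 1) hd' j h) fun h => (le_antisymm h hj) ▸ h1]
    rfl
  have h := VertChiLib.euler_eq_w_mul (F := F) hd' N
  have hdeg' : Curv2.euler F C N - Curv2.euler F C (Coh.structureModule C) = (d : ℤ) * (VertChiLib.w F C : ℤ) := by
    refine Eq.trans ?_ hdeg
    simp only [Curv2.deg, Nat.cast_one, one_mul]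
  rw [h, hO, hE] at hdeg'
  have hw : (VertChiLib.w F C : ℤ) ≠ 0 := by exact_mod_cast (VertChiLib.w_pos_and_dvd (k := F) (Y := C)).1.ne'
  have : (Module.finrank Γ(C, ⊤) Γ(N, ⊤) : ℤ) = (d : ℤ) + 1 :=
    mul_left_cancel₀ hw (by linear_combination hdeg')
  exact_mod_cast this

end RegConLib
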