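import Groth.Agent.RegConLib.Adjunction
import Groth.Agent.PnDualLib.HomExt
import Groth.Agent.LichtLib.Dual
import Groth.Agent.VertIntLib.Degree
import Groth.Agent.GenusZeroLib.Degrees
import Groth.Agent.S11325
import Groth.Agent.VertChiLib.Field
import Groth.Agent.CurvLib.RRBasic

/-!
# Euler characteristics of a dualizing line bundle on a curve
-/

set_option autoImplicit false
set_option linter.style.haveILetI false
set_option linter.unusedSectionVars false
set_option maxHeartbeats 1000000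
set_option backward.isDefEq.respectTransparency false
set_option backward.isDefEq.respectTransparency.types false
universe u

open CategoryTheory CategoryTheory.Limits AlgebraicGeometry TopologicalSpace Opposite
open CohCmpLib (homMod)
open IsLocalRing
open CubeConsLib (cl cl_eq_iff cl_tensor pull pull_cl pull_comp cl_eq_one_iff exists_inverse)

noncomputable section

namespace RegConLib

section Dual

variable {k : Type u} [Field k] {X : Scheme.{u}} [X.Over (Spec (CommRingCat.of k))]

/-- The pairing as a linear map. -/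
def pairLin {ω : X.Modules} {p : ℕ} (t : Coh.HH X ω p →ₗ[k] k) (F : X.Modules) :
    (F ⟶ ω) →ₗ[k] Module.Dual k (Coh.HH X F p) where
  toFun := PnDualLib.pair t F
  map_add' := map_add _
  map_smul' c φ := by
    refine Eq.trans (congrArg (PnDualLib.pair t F) ?_) (PnDualLib.pair_smulHom t φ c)
    exact PnDualLib.smulHom_comp φ _

theorem bijective_pairLin {ω : X.Modules} {d : ℕ} {t : Coh.HH X ω d →ₗ[k] k}
    (h : LichtLib.IsDualPair k d ω t) {F : X.Modules} (hF : Coh.IsCoh F) :
    Function.Bijective (pairLin t F) := by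
  refine ⟨fun a b hab => ?_, fun ψ => ?_⟩
  · obtain ⟨φ, -, huniq⟩ := h.2 F hF (pairLin t F a)
    exact (huniq a fun x => rfl).trans (huniq b fun x => LinearMap.congr_fun hab x).symm
  · obtain ⟨φ, hφ, -⟩ := h.2 F hF ψ
    exact ⟨φ, LinearMap.ext fun x => (hφ x).symm⟩

theorem finrank_HH_eq {ω : X.Modules} {d : ℕ} {t : Coh.HH X ω d →ₗ[k] k}
    (h : LichtLib.IsDualPair k d ω t) {F G : X.Modules} (hF : Coh.IsCoh F) (e : homMod F ω ≅ G) :
    Module.finrank k (Coh.HH X G 0) = Module.finrank k (Coh.HH X F d) := by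
  rw [← (CurvLib.hIso (k := k) e 0).finrank_eq, ← (PnDualLib.homH0 k F ω).finrank_eq,
    (LinearEquiv.ofBijective _ (bijective_pairLin h hF)).finrank_eq, Subspace.dual_finrank_eq]

/-- `χ(ω) = -χ(O)` for an invertible dualizing sheaf on a curve. -/
theorem eulerCharLE_dual {ω : X.Modules} {t : Coh.HH X ω 1 →ₗ[k] k} (hω : PicF.IsInvertible ω)
    (h : LichtLib.IsDualPair k 1 ω t) (hO : Coh.IsCoh (Coh.structureModule X)) :
    FGA.eulerCharLE k X ω 1 = - FGA.eulerCharLE k X (Coh.structureModule X) 1 := by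
  have hOi : PicF.IsInvertible (Coh.structureModule X) := MiscFlat6.isInvertible_structureModule X
  obtain ⟨u1⟩ := cl_eq_iff.1 (show cl (CohB1.tensorMod ω (Coh.structureModule X)) = cl ω from mul_one (cl ω))
  obtain ⟨u2⟩ := cl_eq_iff.1 (show cl (CohB1.tensorMod (Coh.structureModule X) ω) = cl ω from one_mul (cl ω))
  obtain ⟨a⟩ := AdjFormLib.nonempty_hom_tensor_iso hOi ω
  obtain ⟨b⟩ := AdjFormLib.nonempty_hom_tensor_iso hω (Coh.structureModule X)
  have h1 := finrank_HH_eq h hO (((PnDualLib.homFun _).mapIso u1.symm) ≪≫ a)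
  have h2 := finrank_HH_eq h h.1 (((PnDualLib.homFun _).mapIso u2.symm) ≪≫ b)
  simp only [FGA.eulerCharLE, Finset.sum_range_succ, Finset.sum_range_zero, pow_zero, pow_one, one_mul, zero_add]
  rw [h1, h2]
  ring

end Dual

theorem isInvertible_of_cl_mul {X : Scheme.{u}} {A D P : X.Modules} (hD : PicF.IsInvertible D)
    (hP : PicF.IsInvertible P) (h : cl A * cl D = cl P) : PicF.IsInvertible A := by
  obtain ⟨e⟩ := MiscFlat6.nonempty_dualIso hD
  have h1 : cl (CohB1.tensorMod P (MiscFlat6.dual D)) = cl A := by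
    rw [cl_tensor, ← h, mul_assoc, ← cl_tensor D, cl_eq_one_iff.2 ⟨e⟩, mul_one]
  obtain ⟨e'⟩ := cl_eq_iff.1 h1
  exact HilbPolyLib.isInvertible_of_iso e' (HilbPolyLib.isInvertible_tensor hP (MiscFlat6.dual_isInvertible hD))

/-- Canonical sheaves over a locally Noetherian base are invertible. -/
theorem isInvertible_of_isCanonical {X Y : Scheme.{u}} [IsLocallyNoetherian X] [IsLocallyNoetherian Y] {f : X ⟶ Y}
    {ω : X.Modules} (h : Canon.IsCanonical f ω) : PicF.IsInvertible ω := by
  obtain ⟨Z, i, g, c, n, -, hi, hg, hqc, hqs, DC, DΩ, hDC, hDΩ, ⟨κ⟩⟩ := h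
  haveI := hqc
  haveI := hi.1
  haveI := hqs
  haveI := hg
  haveI : Smooth g := SmoothOfRelativeDimension.smooth n g
  haveI : IsLocallyNoetherian Z := LocallyOfFiniteType.isLocallyNoetherian g
  refine isInvertible_of_cl_mul (D := DC) (P := (Scheme.Modules.pullback i).obj DΩ)
    (CohCmpLib.isInvertible_of_isExtPow (rank_conormal hi) hDC)
    (AmpleDevLib.isInvertible_pb i (CohCmpLib.isInvertible_of_isExtPow (CohCmpLib.rank_omega g n) hDΩ)) ?_
  rw [← cl_tensor, cl_eq_iff]
  exact ⟨κ⟩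

theorem exists_dualPair_one {k : Type u} [Field k] {X : Scheme.{u}} [X.Over (Spec (CommRingCat.of k))] {W : X.Modules}
    {m : ℕ} (hm : m = 1) (hW : Coh.IsCoh W) (t : Coh.HH X W m →ₗ[k] k)
    (h : ∀ F : X.Modules, Coh.IsCoh F → ∀ ψ : Coh.HH X F m →ₗ[k] k,
      ∃! φ : F ⟶ W, ∀ x, ψ x = t (Sheaf.H.map ((SheafOfModules.toSheaf X.ringCatSheaf).map φ) m x)) :
    ∃ t' : Coh.HH X W 1 →ₗ[k] k, LichtLib.IsDualPair k 1 W t' := by
  subst hm
  exact ⟨t, hW, h⟩

theorem nonempty_tensor_sheafHom_iso {Y : Scheme.{u}} {C G A : Y.Modules} [DCoh.HasSheafHom C]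
    (hC : PicF.IsInvertible C) (iso : CohB1.tensorMod A C ≅ G) :
    Nonempty (CohB1.tensorMod G ((DCoh.sheafHom C).obj (Coh.structureModule Y)) ≅ A) := by
  obtain ⟨a⟩ := FLI.nonempty_tensor_dual_iso hC G
  obtain ⟨b⟩ := AdjFormLib.nonempty_hom_tensor_iso hC A
  exact ⟨((DCoh.tensorBi (X := Y)).obj G).mapIso (HomCohLib.sheafHomIso C (Coh.structureModule Y)) ≪≫ a ≪≫
    (PnDualLib.homFun C).mapIso iso.symm ≪≫ b⟩

/-- The adjunction bundle of a curve which is a complete intersection in projective space is dualizing. -/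
theorem exists_dual_lci {k : Type u} [Field k] {Y : Scheme.{u}} [Y.Over (Spec (CommRingCat.of k))] {n c : ℕ}
    (hcn : c + 1 = n) (e : Y ⟶ CohB1.ProjSpace n k) [IsClosedImmersion e]
    (hek : e ≫ CohB1.ProjSpace.toSpec n k = Y ↘ Spec (CommRingCat.of k))
    (hreg : RegImm.IsRegularImmersionOfCodim RegImm.Kind.regular c e)
    (hdim : ∀ Z ∈ irreducibleComponents ↥Y, topologicalKrullDim ↥Z = ((n - c : ℕ) : WithBot ℕ∞))
    (hgen : ∀ x : Y, ∃ U : (CohB1.ProjSpace n k).affineOpens, e.base x ∈ (U : (CohB1.ProjSpace n k).Opens) ∧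
      ∃ f : Fin c → Γ(CohB1.ProjSpace n k, (U : (CohB1.ProjSpace n k).Opens)), e.ker.ideal U = Ideal.span (Set.range f))
    {DC A : Y.Modules} (hDC : ExtPow.IsExtPow c (Omega.conormal e) DC) {DΩ : (CohB1.ProjSpace n k).Modules}
    (hDΩ : ExtPow.IsExtPow n (Omega.sheaf (CohB1.ProjSpace.toSpec n k)) DΩ)
    (iso : CohB1.tensorMod A DC ≅ (Scheme.Modules.pullback e).obj DΩ) (hA : PicF.IsInvertible A) :
    ∃ (W : Y.Modules) (t : Coh.HH Y W 1 →ₗ[k] k), PicF.IsInvertible W ∧ LichtLib.IsDualPair k 1 W t ∧ Nonempty (W ≅ A) := by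
  haveI : IsLocallyNoetherian (CohB1.ProjSpace n k) := PnCohLib.isLocallyNoetherian_projSpace (n := n) _
  haveI : IsLocallyNoetherian Y := LocallyOfFiniteType.isLocallyNoetherian e
  haveI : SmoothOfRelativeDimension n (CohB1.ProjSpace.toSpec n k) := OmegaPnLib.smoothRel_projSpace _ n
  haveI : IsProper (Y ↘ Spec (CommRingCat.of k)) := by
    rw [← hek]
    haveI := ProjDegLib.toSpec_isProper k n
    exact inferInstance
  haveI : DCoh.HasSheafHom DC := CohCmpLib.hasSheafHom _
  obtain ⟨t, ht⟩ := Groth.Agent.S11325.result k n c (by omega) Y e hek hdim hgen DC hDC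
  obtain ⟨τ⟩ := AdjFormLib.nonempty_top_iso_twist (n := n) (R := k) DΩ hDΩ
  obtain ⟨θ⟩ := nonempty_tensor_sheafHom_iso (CohCmpLib.isInvertible_of_isExtPow (rank_conormal hreg) hDC)
    (iso ≪≫ (Scheme.Modules.pullback e).mapIso τ)
  obtain ⟨t', ht'⟩ := exists_dualPair_one (k := k) (show n - c = 1 by omega)
    (CurvLib.isCoh_of_isInvertible (HilbPolyLib.isInvertible_of_iso θ.symm hA)) t ht
  exact ⟨_, t', HilbPolyLib.isInvertible_of_iso θ.symm hA, ht', ⟨θ⟩⟩

/-- `χ(ω) = -χ(O)` for the adjunction bundle of a curve which is a complete intersection in projective space. -/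
theorem eulerCharLE_lci {k : Type u} [Field k] {Y : Scheme.{u}} [Y.Over (Spec (CommRingCat.of k))] {n c : ℕ}
    (hcn : c + 1 = n) (e : Y ⟶ CohB1.ProjSpace n k) [IsClosedImmersion e]
    (hek : e ≫ CohB1.ProjSpace.toSpec n k = Y ↘ Spec (CommRingCat.of k)) (hd : topologicalKrullDim Y ≤ ((1 : ℕ) : WithBot ℕ∞))
    (hreg : RegImm.IsRegularImmersionOfCodim RegImm.Kind.regular c e)
    (hdim : ∀ Z ∈ irreducibleComponents ↥Y, topologicalKrullDim ↥Z = ((n - c : ℕ) : WithBot ℕ∞))
    (hgen : ∀ x : Y, ∃ U : (CohB1.ProjSpace n k).affineOpens, e.base x ∈ (U : (CohB1.ProjSpace n k).Opens) ∧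
      ∃ f : Fin c → Γ(CohB1.ProjSpace n k, (U : (CohB1.ProjSpace n k).Opens)), e.ker.ideal U = Ideal.span (Set.range f))
    {DC A : Y.Modules} (hDC : ExtPow.IsExtPow c (Omega.conormal e) DC) {DΩ : (CohB1.ProjSpace n k).Modules}
    (hDΩ : ExtPow.IsExtPow n (Omega.sheaf (CohB1.ProjSpace.toSpec n k)) DΩ)
    (iso : CohB1.tensorMod A DC ≅ (Scheme.Modules.pullback e).obj DΩ) (hA : PicF.IsInvertible A) :
    FGA.eulerCharLE k Y A 1 = - FGA.eulerCharLE k Y (Coh.structureModule Y) 1 := by
  haveI : IsProper (Y ↘ Spec (CommRingCat.of k)) := by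
    rw [← hek]
    haveI := ProjDegLib.toSpec_isProper k n
    exact inferInstance
  haveI : IsLocallyNoetherian Y := LocallyOfFiniteType.isLocallyNoetherian (Y ↘ Spec (CommRingCat.of k))
  obtain ⟨W, t, hW, ht, ⟨θ⟩⟩ := exists_dual_lci hcn e hek hreg hdim hgen hDC hDΩ iso hA
  rw [← eulerCharLE_dual hW ht (CurvLib.isCoh_of_isInvertible (MiscFlat6.isInvertible_structureModule Y)),
    HilbPolyLib.eulerCharLE_eq (k := k) hd, HilbPolyLib.eulerCharLE_eq (k := k) hd, CurvLib.euler_congr θ]

variable {R : Type u} [CommRing R] [IsDomain R] [IsDiscreteValuationRing R] {X : Over (Spec (CommRingCat.of R))}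

/-- The adjunction formula for a vertical curve. -/
theorem inter_add_inter (hX : ArSurf.IsArithSurface R X) (E : ArSurf.VertComp R X) (L : X.left.Modules)
    (hL : ClSub.IsInverseOf L (ClSub.idealMod E.ι.ker)) (ω : X.left.Modules) (hω : Canon.IsCanonical X.hom ω) :
    ArSurf.inter R X L E + ArSurf.inter R X ω E =
      -2 * FGA.eulerCharLE (ResidueField R) E.curve.left (Coh.structureModule E.curve.left) 1 := by
  obtain ⟨em⟩ := nonempty_emb hX E L hL ω hω
  obtain ⟨hreg, hint, hd2, hflat, n₀, i₀, hi₀, hi₀q⟩ := hX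
  obtain ⟨n, c, hcn, e, hclosed, hek, hreg_e, DC, hDC, DΩ, hDΩ, hdim, hgen, ⟨iso⟩⟩ := em
  let k := ResidueField R
  let Y := E.curve.left
  haveI := hclosed
  haveI := hint
  haveI : IsLocallyNoetherian (CohB1.ProjSpace n k) := PnCohLib.isLocallyNoetherian_projSpace (n := n) _
  haveI : IsLocallyNoetherian Y := LocallyOfFiniteType.isLocallyNoetherian e
  haveI : SmoothOfRelativeDimension n (CohB1.ProjSpace.toSpec n k) := OmegaPnLib.smoothRel_projSpace _ n
  haveI : LocallyOfFiniteType X.hom := by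
    rw [← hi₀q]
    exact inferInstance
  haveI : IsLocallyNoetherian X.left := LocallyOfFiniteType.isLocallyNoetherian X.hom
  haveI : IsProper X.hom := by
    rw [← hi₀q]
    exact inferInstance
  haveI : IsProper (Y ↘ Spec (CommRingCat.of k)) := VertIntLib.isProper_curve E
  let ω₀ := (Scheme.Modules.pullback E.ι).obj (CohB1.tensorMod L ω)
  have hLi : PicF.IsInvertible L :=
    VertIntLib.isInvertible_inverse (VertIntLib.isEffCartier_ker hreg E (VertIntLib.isFibGen_of_dim hd2.le E)) hL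
  have hωi : PicF.IsInvertible ω := isInvertible_of_isCanonical hω
  have hω₀i : PicF.IsInvertible ω₀ := AmpleDevLib.isInvertible_pb E.ι (HilbPolyLib.isInvertible_tensor hLi hωi)
  have hW := eulerCharLE_lci hcn e hek E.dim_eq.le hreg_e hdim hgen hDC hDΩ iso hω₀i
  have hsum : ArSurf.inter R X L E + ArSurf.inter R X ω E =
      FGA.eulerCharLE k Y ω₀ 1 - FGA.eulerCharLE k Y (Coh.structureModule Y) 1 := by
    show _ = ArSurf.inter R X (CohB1.tensorMod L ω) E
    rw [VertIntLib.inter_eq_deg, VertIntLib.inter_eq_deg, VertIntLib.inter_eq_deg,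
      ← GenusZeroLib.deg_tensor k E.dim_eq (AmpleDevLib.isInvertible_pb E.ι hLi) (AmpleDevLib.isInvertible_pb E.ι hωi)]
    refine CurvLib.deg_congr ?_ 1
    exact (cl_eq_iff.1 (map_mul (pull E.ι) (cl L) (cl ω))).some.symm
  rw [hsum, hW]
  ring


/-- Degree zero line bundles on a curve without first cohomology are trivial. -/
theorem nonempty_trivial_of_deg_zero {k : Type u} [Field k] {C : Scheme.{u}} [C.Over (Spec (CommRingCat.of k))]
    [IsProper (C ↘ Spec (CommRingCat.of k))] [IsIntegral C] (hdim : topologicalKrullDim C = 1)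
    (h1 : Subsingleton (Coh.HH C (Coh.structureModule C) 1)) {N : C.Modules} (hN : PicF.IsInvertible N)
    (hdeg : Curv2.deg k C N 1 = 0) : Nonempty (N ≅ Coh.structureModule C) := by
  haveI := CurvLib.isNoetherian k (X := C)
  have hO : PicF.IsInvertible (Coh.structureModule C) := CurvLib.isInvertible_structureModule
  have hv : ∀ (M : C.Modules) (j : ℕ), 2 ≤ j → Subsingleton (Coh.HH C M j) := fun M j hj =>
    CurvLib.subsingleton_HH_of_dim_le M (d := 1) hdim.le j (by omega)
  haveI := CurvLib.finite_HH (k := k) (CurvLib.isCoh_of_isInvertible hN) 0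
  haveI := CurvLib.finite_HH (k := k) (CurvLib.isCoh_of_isInvertible hO) 0
  haveI := h1
  haveI : Nontrivial (Coh.HH C (Coh.structureModule C) 0) := by
    let e := (QCohLib.hEquiv ((QCohLib.toAbF C).obj (Coh.structureModule C)) 0).trans
      (QCohLib.h0 (U := (⊤ : Opens C.toTopCat)))
    exact Function.Injective.nontrivial (f := fun x : Γ(C, ⊤) => e.symm x) e.symm.injective
  have hp : 0 < Module.finrank k (Coh.HH C (Coh.structureModule C) 0) := Module.finrank_pos
  rw [Curv2.deg, CurvLib.euler_eq_sub (hv N), CurvLib.euler_eq_sub (hv _),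
    Module.finrank_zero_of_subsingleton (R := k) (M := Coh.HH C (Coh.structureModule C) 1)] at hdeg
  haveI : Nontrivial (Coh.HH C N 0) := by
    apply Module.nontrivial_of_finrank_pos (R := k)
    push_cast at hdeg
    omega
  obtain ⟨s, hs⟩ := CurvLib.exists_hom_ne_zero (L := N) inferInstance
  haveI := CurvLib.isIso_of_euler_le (k := k) hO hN hdim hs (by
    rw [CurvLib.euler_eq_sub (hv N), CurvLib.euler_eq_sub (hv _),
      Module.finrank_zero_of_subsingleton (R := k) (M := Coh.HH C (Coh.structureModule C) 1)]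
    push_cast at hdeg ⊢
    omega)
  exact ⟨(asIso s).symm⟩

/-- Vanishing of `H¹` for line bundles of large degree on a vertical curve. -/
theorem subsingleton_H1_of_deg (hX : ArSurf.IsArithSurface R X) (E : ArSurf.VertComp R X) (L : X.left.Modules)
    (hL : ClSub.IsInverseOf L (ClSub.idealMod E.ι.ker)) (ω : X.left.Modules) (hω : Canon.IsCanonical X.hom ω)
    {M : E.curve.left.Modules} (hM : PicF.IsInvertible M)
    (hdeg : ArSurf.inter R X L E + ArSurf.inter R X ω E < Curv2.deg (ResidueField R) E.curve.left M 1) :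
    Subsingleton (Coh.HH E.curve.left M 1) := by
  have hadj := inter_add_inter hX E L hL ω hω
  obtain ⟨em⟩ := nonempty_emb hX E L hL ω hω
  obtain ⟨hreg, hint, hd2, hflat, n₀, i₀, hi₀, hi₀q⟩ := hX
  obtain ⟨n, c, hcn, e, hclosed, hek, hreg_e, DC, hDC, DΩ, hDΩ, hdim, hgen, ⟨iso⟩⟩ := em
  haveI := hclosed
  haveI := hint
  haveI : IsProper X.hom := by
    rw [← hi₀q]
    exact inferInstance
  haveI : IsLocallyNoetherian X.left := LocallyOfFiniteType.isLocallyNoetherian X.hom
  haveI : IsProper (E.curve.left ↘ Spec (CommRingCat.of (ResidueField R))) := VertIntLib.isProper_curve E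
  haveI : IsLocallyNoetherian E.curve.left := LocallyOfFiniteType.isLocallyNoetherian (E.curve.left ↘ Spec (CommRingCat.of (ResidueField R)))
  have hLi : PicF.IsInvertible L :=
    VertIntLib.isInvertible_inverse (VertIntLib.isEffCartier_ker hreg E (VertIntLib.isFibGen_of_dim hd2.le E)) hL
  have hωi : PicF.IsInvertible ω := isInvertible_of_isCanonical hω
  obtain ⟨W, t, hW, ht, ⟨θ⟩⟩ := exists_dual_lci hcn e hek hreg_e hdim hgen hDC hDΩ iso
    (AmpleDevLib.isInvertible_pb E.ι (HilbPolyLib.isInvertible_tensor hLi hωi))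
  obtain ⟨a⟩ := MiscFlat6.nonempty_dualIso hM
  have h := finrank_HH_eq ht (CurvLib.isCoh_of_isInvertible hM) (FLI.homModIso a W)
  have hWd : Curv2.deg (ResidueField R) E.curve.left W 1 = ArSurf.inter R X L E + ArSurf.inter R X ω E := by
    rw [CurvLib.deg_congr θ 1, VertIntLib.inter_eq_deg, VertIntLib.inter_eq_deg,
      ← GenusZeroLib.deg_tensor (ResidueField R) E.dim_eq (AmpleDevLib.isInvertible_pb E.ι hLi) (AmpleDevLib.isInvertible_pb E.ι hωi)]
    exact CurvLib.deg_congr (cl_eq_iff.1 (map_mul (pull E.ι) (cl L) (cl ω))).some 1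
  haveI := VertChiLib.subsingleton_h0_of_deg_neg (k := ResidueField R) E.dim_eq
    (HilbPolyLib.isInvertible_tensor (MiscFlat6.dual_isInvertible hM) hW)
    (by
      have hd := GenusZeroLib.deg_tensor (ResidueField R) E.dim_eq hM (MiscFlat6.dual_isInvertible hM)
      rw [CurvLib.deg_congr (k := ResidueField R) a] at hd
      have h0 : Curv2.deg (ResidueField R) E.curve.left (Coh.structureModule E.curve.left) 1 = 0 := by simp [Curv2.deg]
      have hdeg' : ArSurf.inter R X L E + ArSurf.inter R X ω E < Curv2.deg (ResidueField R) E.curve.left M 1 := hdeg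
      rw [GenusZeroLib.deg_tensor (ResidueField R) E.dim_eq (MiscFlat6.dual_isInvertible hM) hW, hWd]
      omega)
  haveI := CurvLib.finite_HH (k := ResidueField R) (CurvLib.isCoh_of_isInvertible hM) 1
  rw [Module.finrank_zero_of_subsingleton] at h
  exact (Module.finrank_zero_iff (R := (ResidueField R))).1 h.symm

end RegConLib
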