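import Groth.Agent.RegConLib.Charts
import Groth.Agent.LichtLib.ProjOver
import Groth.Agent.OmegaPnLib.Main
import Groth.Agent.DiagTorLib.Mult
import Groth.Agent.VertIntLib.Degree
import Groth.Agent.FLILib.LciPn
import Groth.Agent.S8855
import Groth.Prelude

/-!
# A vertical curve inside a projective embedding of an arithmetic surface
-/

set_option autoImplicit false
set_option linter.style.haveILetI false
set_option linter.unusedSectionVars false
set_option maxHeartbeats 1000000
set_option backward.isDefEq.respectTransparency false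
set_option backward.isDefEq.respectTransparency.types false
universe u

open CategoryTheory CategoryTheory.Limits AlgebraicGeometry TopologicalSpace Opposite RingTheory.Sequence IsLocalRing
open FLI (IsChart preA resFam gF)

noncomputable section

namespace RegConLib

section BC

attribute [local instance] MvPolynomial.algebraMvPolynomial

/-- Base change of projective space. -/
theorem exists_bc (n : ℕ) (R k : Type u) [CommRing R] [CommRing k] [Algebra R k] :
    ∃ v : CohB1.ProjSpace n k ⟶ CohB1.ProjSpace n R,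
      IsPullback v (CohB1.ProjSpace.toSpec n k) (CohB1.ProjSpace.toSpec n R)
        (Spec.map (CommRingCat.ofHom (algebraMap R k))) := by
  let φ : CohB1.polyGrading n R →+*ᵍ CohB1.polyGrading n k :=
    { MvPolynomial.map (σ := Fin (n + 1)) (algebraMap R k) with
      map_mem := fun {i x} hx => MvPolynomial.IsHomogeneous.map hx _ }
  have hφA : ∀ b, φ b = algebraMap (MvPolynomial (Fin (n + 1)) R) (MvPolynomial (Fin (n + 1)) k) b :=
    fun b => rfl
  have hirr : HomogeneousIdeal.irrelevant (CohB1.polyGrading n k) ≤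
      (HomogeneousIdeal.irrelevant (CohB1.polyGrading n R)).map φ := by
    intro x hx
    have hx0 : MvPolynomial.homogeneousComponent 0 x = 0 := by
      have := (HomogeneousIdeal.mem_irrelevant_iff _ x).mp hx
      exact (MvPolynomial.decomposition.decompose'_apply x 0).symm.trans this
    have hxs : x ∈ Ideal.span ((MvPolynomial.X (R := k)) '' (Set.univ : Set (Fin (n + 1)))) := by
      rw [MvPolynomial.mem_ideal_span_X_image]
      intro m hm
      by_contra! hcon
      have hm0 : m = 0 := Finsupp.ext fun i => hcon i trivial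
      rw [MvPolynomial.homogeneousComponent_zero, MvPolynomial.C_eq_zero] at hx0
      exact MvPolynomial.mem_support_iff.mp hm (hm0 ▸ hx0)
    refine (Ideal.span_le.mpr ?_) hxs
    rintro - ⟨i, -, rfl⟩
    have hX : (MvPolynomial.X i : MvPolynomial (Fin (n + 1)) R) ∈
        (HomogeneousIdeal.irrelevant (CohB1.polyGrading n R)).toIdeal :=
      HomogeneousIdeal.mem_irrelevant_of_mem _ one_pos
        ((MvPolynomial.mem_homogeneousSubmodule _ _).mpr (MvPolynomial.isHomogeneous_X _ i))
    have hX' := Ideal.mem_map_of_mem φ hX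
    have he : φ (MvPolynomial.X i) = MvPolynomial.X i := MvPolynomial.map_X _ _
    exact he ▸ hX'
  exact ⟨Proj.map φ hirr, Groth.Agent.S3554.result (R := k) (R' := R) (CohB1.polyGrading n R)
    (CohB1.polyGrading n k) φ hφA hirr⟩

end BC

/-- A regular immersion of an irreducible scheme has a constant codimension. -/
theorem exists_codim {Z P : Scheme.{u}} [IrreducibleSpace Z] (ι : Z ⟶ P) [IsClosedImmersion ι]
    (h : RegImm.IsRegularImmersion RegImm.Kind.regular ι) :
    ∃ c, RegImm.IsRegularImmersionOfCodim RegImm.Kind.regular c ι := by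
  have key : ∀ z : Z, ∃ (U : P.affineOpens), ι z ∈ U.1 ∧ IsClosedImmersion (ι ∣_ U.1) ∧ ∃ rs : List Γ(P, U.1),
      RegImm.Kind.regular.Seq Γ(P, U.1) rs ∧ RingHom.ker (ι.app U.1).hom = Ideal.ofList rs := h.2
  choose U hU hcl rs hrs hker using key
  let η := genericPoint Z
  have hη : ∀ z, ι η ∈ (U z).1 := fun z =>
    ((genericPoint_spec Z).mem_open_set_iff (ι ⁻¹ᵁ (U z).1).2).2 ⟨z, trivial, hU z⟩
  have hc : ∀ z, IsChart ι (U z) (rs z).get := fun z =>
    ⟨by rw [Scheme.Hom.ker_apply, hker z, Ideal.ofList, Set.range_list_get],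
      FLI.wReg_of_isWeaklyRegular (rs z) (hrs z).toIsWeaklyRegular rfl⟩
  have hlen : ∀ z, (rs z).length = (rs η).length := fun z => by
    let stk := (DevissLib.St η).obj (Omega.conormal ι)
    have F : ∀ w, ∃ e : (Fin (rs w).length → Z.presheaf.stalk η) ≃ₗ[Z.presheaf.stalk η] stk, True := fun w => by
      have hb := (hc w).frame η (hη w)
      refine ⟨LinearEquiv.ofBijective (Fintype.linearCombination (Z.presheaf.stalk η)
        (fun j => (DevissLib.gm (Omega.conormal ι) η (U := (preA (U w) ι).1) (hη w) ((hc w).eU j) : stk))) ?_, trivial⟩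
      refine (congrArg Function.Bijective (funext fun v => ?_)).mpr hb
      exact Fintype.linearCombination_apply _ _ v
    obtain ⟨e₁, -⟩ := F z
    obtain ⟨e₂, -⟩ := F η
    simpa using (e₁.trans e₂.symm).finrank_eq
  exact ⟨(rs η).length, h.1, fun z => ⟨U z, hU z, hcl z, rs z, hlen z, hrs z, hker z⟩⟩

theorem range_finSum {α : Type*} {a b : ℕ} (u : Fin a → α) (w : Fin b → α) :
    (fun j => Sum.elim u w (finSumFinEquiv.symm j)) = Fin.append u w := by
  funext j
  obtain ⟨k | k, rfl⟩ := finSumFinEquiv.surjective j <;> simp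

theorem list_ofFn_get' {α : Type*} (l : List α) {c : ℕ} (h : l.length = c) :
    List.ofFn (fun j : Fin c => l.get (j.cast h.symm)) = l := by
  subst h
  exact List.ofFn_get l

/-- Germ data of a chart with codimension. -/
theorem exists_germs {Z P : Scheme.{u}} [IsLocallyNoetherian P] (ι : Z ⟶ P) [IsClosedImmersion ι] {c : ℕ}
    (h : RegImm.IsRegularImmersionOfCodim RegImm.Kind.regular c ι) (z : Z) :
    ∃ g : Fin c → P.presheaf.stalk (ι z), IsRegular (P.presheaf.stalk (ι z)) (List.ofFn g) ∧
      RingHom.ker (ι.stalkMap z).hom = Ideal.span (Set.range g) := by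
  obtain ⟨U, hzU, hcl, rs, hl, hrs, hker⟩ := h.2 z
  haveI : IsNoetherianRing Γ(P, U.1) := IsLocallyNoetherian.component_noetherian U
  letI := P.presheaf.algebra_section_stalk (⟨ι z, hzU⟩ : U.1)
  haveI : IsLocalization.AtPrime (P.presheaf.stalk (ι z)) (U.2.primeIdealOf ⟨ι z, hzU⟩).asIdeal :=
    U.2.isLocalization_stalk ⟨ι z, hzU⟩
  obtain ⟨hk1, hk2⟩ := RegImmKindLib.ker_stalkMap ι U.2 (U.2.preimage ι) (ι.app_surjective U.1 U.2) z hzU
  have hreg := RegImmKindLib.isRegular_of_seq RegImm.Kind.regular (U.2.primeIdealOf ⟨ι z, hzU⟩).asIdeal rs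
    (fun r hr => hk2 (by rw [hker]; exact Ideal.subset_span hr)) hrs (P.presheaf.stalk (ι z))
  let l := rs.map (algebraMap Γ(P, U.1) (P.presheaf.stalk (ι z)))
  have hll : l.length = c := by rw [List.length_map, hl]
  refine ⟨fun j => l.get (j.cast hll.symm), ?_, ?_⟩
  · rw [list_ofFn_get' l hll]
    exact hreg
  · rw [← CILib.ofList_ofFn, list_ofFn_get' l hll, hk1, hker, Ideal.map_ofList]

/-- A generator of the stalk of an effective Cartier ideal. -/
theorem exists_stalk_gen {X : Scheme.{u}} [IsIntegral X] {I : X.IdealSheafData} (hI : BlowUp.IsEffCartierIdeal I) (x : X) :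
    ∃ f : X.presheaf.stalk x, f ≠ 0 ∧ IntMult.stalkIdeal I x = Ideal.span {f} := by
  obtain ⟨U, hx, f, hf, hIU⟩ := hI x
  refine ⟨X.presheaf.germ U.1 x hx f, ?_, ?_⟩
  · haveI : Nonempty U.1 := ⟨⟨x, hx⟩⟩
    exact fun h0 => nonZeroDivisors.ne_zero hf (germ_injective_of_isIntegral X x hx (h0.trans (map_zero _).symm))
  · rw [SDivLib.stalkIdeal_eq _ U hx, hIU, Ideal.map_span, Set.image_singleton]

section Point

theorem add_one_cancel {a b : WithBot ℕ∞} (h : a + 1 = b + 1) : a = b := by
  cases a with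
  | bot => cases b with
    | bot => rfl
    | coe b => rw [WithBot.bot_add] at h; exact absurd h.symm (by rw [← WithBot.coe_one, ← WithBot.coe_add]; exact WithBot.coe_ne_bot)
  | coe a => cases b with
    | bot => rw [WithBot.bot_add] at h; exact absurd h (by rw [← WithBot.coe_one, ← WithBot.coe_add]; exact WithBot.coe_ne_bot)
    | coe b =>
      rw [← WithBot.coe_one, ← WithBot.coe_add, ← WithBot.coe_add, WithBot.coe_inj] at h
      exact congrArg _ (WithTop.add_right_cancel ENat.one_ne_top h)


variable {R : Type u} [CommRing R] [IsDomain R] [IsDiscreteValuationRing R] {n : ℕ}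

/-- The kernel on stalks of the inclusion of the closed fibre. -/
theorem ker_stalk_fibre {P Q : Scheme.{u}} (q : P ⟶ Spec (CommRingCat.of R))
    (f : Q ⟶ Spec (CommRingCat.of (ResidueField R))) (v : Q ⟶ P)
    (sq : IsPullback v f q (Spec.map (CommRingCat.ofHom (residue R)))) [IsClosedImmersion v] (w : Q) :
    RingHom.ker (v.stalkMap w).hom = Ideal.span {P.presheaf.germ ⊤ (v w) trivial (q.app ⊤
      ((Scheme.ΓSpecIso (CommRingCat.of R)).inv (IsDiscreteValuationRing.exists_irreducible R).choose))} := by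
  let s := Spec.map (CommRingCat.ofHom (residue R))
  haveI : IsClosedImmersion s := IsClosedImmersion.spec_of_surjective _ residue_surjective
  let ϖ := (IsDiscreteValuationRing.exists_irreducible R).choose
  have hϖ : Irreducible ϖ := (IsDiscreteValuationRing.exists_irreducible R).choose_spec
  have hm : maximalIdeal R = Ideal.span {ϖ} := hϖ.maximalIdeal_eq
  have hs : q (v w) = s (f w) := by
    rw [← Scheme.Hom.comp_apply, sq.w, Scheme.Hom.comp_apply]
  have hS : IntMult.stalkIdeal s.ker (q (v w)) =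
      Ideal.span {(Spec (CommRingCat.of R)).presheaf.germ ⊤ (q (v w)) trivial
        ((Scheme.ΓSpecIso (CommRingCat.of R)).inv ϖ)} := by
    rw [hs, DiagTorLib.stalkIdeal_ker]
    letI := (Spec (CommRingCat.of R)).presheaf.algebra_section_stalk (⟨s (f w), trivial⟩ : (⊤ : (Spec (CommRingCat.of R)).Opens))
    rw [(RegImmKindLib.ker_stalkMap s (isAffineOpen_top _) ((isAffineOpen_top _).preimage s)
      (s.app_surjective ⊤ (isAffineOpen_top _)) (f w) trivial).1]
    have hk : RingHom.ker (s.app ⊤).hom = Ideal.span {(Scheme.ΓSpecIso (CommRingCat.of R)).inv ϖ} := by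
      ext x
      obtain ⟨r, rfl⟩ : ∃ r : R, (Scheme.ΓSpecIso (CommRingCat.of R)).inv r = x :=
        ⟨(Scheme.ΓSpecIso (CommRingCat.of R)).hom x, Iso.hom_inv_id_apply _ x⟩
      have hnat := congr($((Scheme.ΓSpecIso_inv_naturality (CommRingCat.ofHom (residue R))).symm) r)
      rw [RingHom.mem_ker]
      constructor
      · intro h
        have hr : residue R r = 0 := by
          refine (ConcreteCategory.bijective_of_isIso (Scheme.ΓSpecIso (CommRingCat.of (ResidueField R))).inv).1 ?_
          rw [map_zero]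
          exact hnat.symm.trans h
        rw [residue_eq_zero_iff, hm, Ideal.mem_span_singleton] at hr
        obtain ⟨a, rfl⟩ := hr
        rw [map_mul]
        exact Ideal.mul_mem_right _ _ (Ideal.mem_span_singleton_self _)
      · intro h
        obtain ⟨a, ha⟩ := Ideal.mem_span_singleton.1 h
        have hϖ0 : residue R ϖ = 0 := by
          rw [residue_eq_zero_iff, hm]
          exact Ideal.mem_span_singleton_self _
        rw [ha, map_mul]
        have h1 : (s.app ⊤).hom ((Scheme.ΓSpecIso (CommRingCat.of R)).inv ϖ) = 0 := by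
          refine (congr($((Scheme.ΓSpecIso_inv_naturality (CommRingCat.ofHom (residue R))).symm) ϖ)).trans ?_
          show (Scheme.ΓSpecIso (CommRingCat.of (ResidueField R))).inv (residue R ϖ) = 0
          rw [hϖ0, map_zero]
        rw [h1, zero_mul]
    rw [hk, Ideal.map_span, Set.image_singleton]
    rfl
  have hkv : v.ker = s.ker.comap q := by
    rw [← sq.isoPullback_hom_fst, Scheme.Hom.ker_comp_of_isIso, Scheme.IdealSheafData.ker_fst_of_isClosedImmersion]
  rw [← DiagTorLib.stalkIdeal_ker v w, hkv, DivDescLib.stalkIdeal_comap, hS, Ideal.map_span, Set.image_singleton]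
  congr 2
  exact Scheme.Hom.germ_stalkMap_apply q ⊤ (v w) trivial _

variable {X : Over (Spec (CommRingCat.of R))} [IsIntegral X.left] (Γ : ArSurf.VertComp R X)
  (hΓ : BlowUp.IsEffCartierIdeal Γ.ι.ker) [Flat X.hom]
  (i : X.left ⟶ CohB1.ProjSpace n R) [IsClosedImmersion i] (hiq : i ≫ CohB1.ProjSpace.toSpec n R = X.hom) {c : ℕ}
  (hi : RegImm.IsRegularImmersionOfCodim RegImm.Kind.regular c i)
  (v : CohB1.ProjSpace n (ResidueField R) ⟶ CohB1.ProjSpace n R) [IsClosedImmersion v]
  (sq : IsPullback v (CohB1.ProjSpace.toSpec n (ResidueField R)) (CohB1.ProjSpace.toSpec n R)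
    (Spec.map (CommRingCat.ofHom (residue R))))
  (e : Γ.curve.left ⟶ CohB1.ProjSpace n (ResidueField R)) [IsClosedImmersion e] (he : e ≫ v = Γ.ι ≫ i)

include hΓ hiq hi sq he in
/-- **The two families of compatible charts at a point of a vertical curve.** -/
theorem exists_two_pieces [IsLocallyNoetherian (CohB1.ProjSpace n R)] (y : Γ.curve.left) :
    (∃ d : Pieces Γ.ι i c 1, i (Γ.ι y) ∈ d.U.1) ∧ (∃ d : Pieces e v 1 c, v (e y) ∈ d.U.1) ∧
      ringKrullDim ((CohB1.ProjSpace n (ResidueField R)).presheaf.stalk (e y)) =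
        ringKrullDim (Γ.curve.left.presheaf.stalk y) + (c : WithBot ℕ∞) := by
  let P := CohB1.ProjSpace n R
  haveI : Smooth (CohB1.ProjSpace.toSpec n R) := GenusZeroLib.smooth_toSpec n R
  let b : Γ.curve.left ⟶ P := Γ.ι ≫ i
  let L := P.presheaf.stalk (i (Γ.ι y))
  haveI : IsRegularLocalRing L := regular_stalk_over (CohB1.ProjSpace.toSpec n R) (i (Γ.ι y))
  haveI : IsNoetherianRing L := inferInstance
  obtain ⟨g, hgreg, hgker⟩ := exists_germs i hi (Γ.ι y)
  haveI : IsDomain (X.left.presheaf.stalk (Γ.ι y)) := inferInstance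
  obtain ⟨f₀, hf₀, hf₀'⟩ := exists_stalk_gen hΓ (Γ.ι y)
  rw [DiagTorLib.stalkIdeal_ker] at hf₀'
  obtain ⟨f, hf⟩ := i.stalkMap_surjective (Γ.ι y) f₀
  let G : Fin (c + 1) → L := fun j => Sum.elim g (fun _ => f) (finSumFinEquiv.symm j)
  have hkb : RingHom.ker (b.stalkMap y).hom = Ideal.span (Set.range G) := by
    rw [Scheme.Hom.stalkMap_comp, CommRingCat.hom_comp, ← RingHom.comap_ker, hf₀',
      show Ideal.span ({f₀} : Set (X.left.presheaf.stalk (Γ.ι y))) =
        (Ideal.span ({f} : Set L)).map (i.stalkMap (Γ.ι y)).hom from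
        (congrArg Ideal.span (congrArg singleton hf.symm : ({f₀} : Set (X.left.presheaf.stalk (Γ.ι y))) = _)).trans
          ((Ideal.map_span (i.stalkMap (Γ.ι y)).hom {f}).trans (congrArg Ideal.span (Set.image_singleton ..))).symm,
      Ideal.comap_map_of_surjective _ (i.stalkMap_surjective (Γ.ι y)), ← RingHom.ker_eq_comap_bot, hgker,
      ← Ideal.span_union]
    congr 1
    ext x
    simp only [Set.mem_union, Set.mem_singleton_iff, Set.mem_range, G]
    constructor
    · rintro (rfl | ⟨j, rfl⟩)
      · exact ⟨finSumFinEquiv (Sum.inr 0), by simp⟩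
      · exact ⟨finSumFinEquiv (Sum.inl j), by simp⟩
    · rintro ⟨j, rfl⟩
      rcases finSumFinEquiv.symm j with k | k
      · exact Or.inr ⟨k, rfl⟩
      · exact Or.inl rfl
  have hGm : ∀ x ∈ List.ofFn G, x ∈ maximalIdeal L := fun x hx => by
    obtain ⟨j, rfl⟩ := List.mem_ofFn.1 hx
    exact le_maximalIdeal (RingHom.ker_ne_top (b.stalkMap y).hom) (hkb ▸ Ideal.subset_span ⟨j, rfl⟩)
  have hGreg : IsRegular L (List.ofFn G) := by
    refine IsRegular.of_isWeaklyRegular_of_mem_maximalIdeal L hGm ?_
    rw [show G = Fin.append g (fun _ => f) from range_finSum g _, List.ofFn_fin_append, isWeaklyRegular_append_iff]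
    refine ⟨hgreg.toIsWeaklyRegular, ?_⟩
    rw [List.ofFn_succ, List.ofFn_zero, isWeaklyRegular_singleton_iff, isSMulRegular_iff_right_eq_zero_of_smul]
    intro m hm
    obtain ⟨m, rfl⟩ := Submodule.Quotient.mk_surjective _ m
    rw [← Submodule.Quotient.mk_smul, Submodule.Quotient.mk_eq_zero] at hm
    simp only [smul_eq_mul, Ideal.mul_top] at hm
    rw [CILib.ofList_ofFn, ← hgker, RingHom.mem_ker, map_mul] at hm
    rw [Submodule.Quotient.mk_eq_zero]
    simp only [smul_eq_mul, Ideal.mul_top]
    rw [CILib.ofList_ofFn, ← hgker, RingHom.mem_ker]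
    exact (mul_eq_zero.1 hm).resolve_left (fun h0 => hf₀ (hf.symm.trans h0))
  have hp : v (e y) = b y := by
    rw [← Scheme.Hom.comp_apply, he]
  let Q := CohB1.ProjSpace n (ResidueField R)
  let tau : Γ(P, ⊤) := (CohB1.ProjSpace.toSpec n R).app ⊤
    ((Scheme.ΓSpecIso (CommRingCat.of R)).inv (IsDiscreteValuationRing.exists_irreducible R).choose)
  let t₀ := P.presheaf.germ ⊤ (v (e y)) trivial tau
  have hkv : RingHom.ker (v.stalkMap (e y)).hom = Ideal.span {t₀} := ker_stalk_fibre _ _ v sq (e y)
  let t : L := P.presheaf.germ ⊤ (i (Γ.ι y)) trivial tau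
  haveI : IsRegularLocalRing (P.presheaf.stalk (v (e y))) := regular_stalk_over (CohB1.ProjSpace.toSpec n R) _
  haveI : IsDomain (P.presheaf.stalk (v (e y))) := CommAlgDim.isDomain_of_isRegularLocalRing _
  haveI : IsDomain L := CommAlgDim.isDomain_of_isRegularLocalRing L
  haveI : Smooth (CohB1.ProjSpace.toSpec n (ResidueField R)) := GenusZeroLib.smooth_toSpec n _
  haveI hQreg : IsRegularLocalRing (Q.presheaf.stalk (e y)) :=
    RTrivLib.regular_stalk (CohB1.ProjSpace.toSpec n (ResidueField R)) (e y)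
  have ht₀m : t₀ ∈ maximalIdeal (P.presheaf.stalk (v (e y))) :=
    le_maximalIdeal (RingHom.ker_ne_top (v.stalkMap (e y)).hom) (hkv ▸ Ideal.mem_span_singleton_self t₀)
  let E := (Ideal.quotEquivOfEq hkv.symm).trans (RingHom.quotientKerEquivOfSurjective (v.stalkMap_surjective (e y)))
  have ht₀0 : t₀ ≠ 0 := by
    intro h0
    have h2 : ∀ p, v (e y) = p → P.presheaf.germ ⊤ p trivial tau = 0 := by
      rintro p rfl
      exact h0
    have h3 := congrArg (i.stalkMap (Γ.ι y)) (h2 (i (Γ.ι y)) hp)
    rw [map_zero, Scheme.Hom.germ_stalkMap_apply] at h3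
    refine VertIntLib.pi_ne_zero (Γ.ι y) ((IsDiscreteValuationRing.exists_irreducible R).choose_spec).maximalIdeal_eq ?_
    refine Eq.trans ?_ h3
    show X.left.presheaf.germ ⊤ (Γ.ι y) trivial (Coh.toGlobal X.hom _) = _
    congr 1
    exact ConcreteCategory.congr_hom (congrArg Scheme.Hom.appTop hiq.symm)
      ((Scheme.ΓSpecIso (CommRingCat.of R)).inv (IsDiscreteValuationRing.exists_irreducible R).choose)
  have hsq0 := notMem_sq_of_regular_quotient ht₀0 ht₀m (IsRegularLocalRing.of_ringEquiv E.symm)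
  have hdimQ : ringKrullDim (Q.presheaf.stalk (e y)) + 1 = ringKrullDim (P.presheaf.stalk (v (e y))) := by
    rw [← ringKrullDim_eq_of_ringEquiv E]
    exact ringKrullDim_quotient_span_singleton_succ_eq_ringKrullDim
      (fun x x' (h : t₀ * x = t₀ * x') => mul_left_cancel₀ ht₀0 h) ht₀m
  have move : ∀ (p : P), v (e y) = p → P.presheaf.germ ⊤ p trivial tau ∉ maximalIdeal (P.presheaf.stalk p) ^ 2 ∧
      ringKrullDim (Q.presheaf.stalk (e y)) + 1 = ringKrullDim (P.presheaf.stalk p) := by
    rintro p rfl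
    exact ⟨hsq0, hdimQ⟩
  obtain ⟨hsq, hdim⟩ := move (i (Γ.ι y)) hp
  -- the parameter lies in the ideal of the curve
  have htker : t ∈ RingHom.ker (b.stalkMap y).hom := by
    have hz : ∀ {x : Γ.curve.left ⟶ P}, e ≫ v = x →
        x.stalkMap y (P.presheaf.germ ⊤ (x y) trivial tau) = 0 := by
      rintro x rfl
      rw [Scheme.Hom.stalkMap_comp, CommRingCat.comp_apply]
      have h : v.stalkMap (e y) t₀ = 0 := RingHom.mem_ker.1 (hkv ▸ Ideal.mem_span_singleton_self t₀)
      exact (congrArg (e.stalkMap y) h).trans (map_zero _)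
    exact hz he
  obtain ⟨a, hat⟩ := (Ideal.mem_span_range_iff_exists_fun).1 (hkb ▸ htker)
  obtain ⟨j, hj⟩ : ∃ j, a j ∉ maximalIdeal L := by
    by_contra hall
    push_neg at hall
    have hmem : t ∈ maximalIdeal L ^ 2 := by
      rw [← hat, pow_two]
      exact sum_mem fun j _ => Ideal.mul_mem_mul (hall j) (hGm _ (List.mem_ofFn.2 ⟨j, rfl⟩))
    exact hsq hmem
  let h : Fin c → L := fun k => G (j.succAbove k)
  let H : Fin (1 + c) → L := fun k => Sum.elim (fun _ => t) h (finSumFinEquiv.symm k)
  have hH : Ideal.span (Set.range H) = Ideal.span (Set.range G) := by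
    refine le_antisymm (Ideal.span_le.2 ?_) (Ideal.span_le.2 ?_)
    · rintro _ ⟨k, rfl⟩
      simp only [H, SetLike.mem_coe]
      rcases finSumFinEquiv.symm k with l | l
      · exact hkb ▸ htker
      · exact Ideal.subset_span ⟨_, rfl⟩
    · rintro _ ⟨k, rfl⟩
      have hh : ∀ l, G (j.succAbove l) ∈ Ideal.span (Set.range H) := fun l =>
        Ideal.subset_span ⟨finSumFinEquiv (Sum.inr l), by simp [H, h]⟩
      rcases Fin.eq_self_or_eq_succAbove j k with rfl | ⟨l, rfl⟩
      · have htH : t ∈ Ideal.span (Set.range H) := Ideal.subset_span ⟨finSumFinEquiv (Sum.inl 0), by simp [H]⟩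
        rw [SetLike.mem_coe, ← Ideal.unit_mul_mem_iff_mem _ (notMem_maximalIdeal.1 hj)]
        rw [show t = _ from hat.symm, Fin.sum_univ_succAbove _ k] at htH
        exact (Submodule.add_mem_iff_left _ (sum_mem fun l _ => Ideal.mul_mem_left _ _ (hh l))).1 htH
      · exact hh l
  have hHreg : IsRegular L (List.ofFn H) := by
    have e1 : c + 1 = 1 + c := Nat.add_comm _ _
    refine CILib.isRegular_of_span_eq (1 + c) L (fun k => G (k.cast e1.symm)) H ?_ ?_
    · rw [← List.ofFn_congr e1]
      exact hGreg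
    · rw [hH]
      exact congrArg Ideal.span ((finCongr e1.symm).surjective.range_comp G).symm
  have htreg : IsRegular L (List.ofFn fun _ : Fin 1 => t) := by
    have h1 := hHreg.toIsWeaklyRegular
    rw [show H = Fin.append (fun _ => t) h from range_finSum _ _, List.ofFn_fin_append, isWeaklyRegular_append_iff] at h1
    refine IsRegular.of_isWeaklyRegular_of_mem_maximalIdeal L (fun x hx => ?_) h1.1
    obtain ⟨-, rfl⟩ := List.mem_ofFn.1 hx
    exact le_maximalIdeal (RingHom.ker_ne_top (b.stalkMap y).hom) htker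
  -- sections
  obtain ⟨U, hbU, s, hs⟩ := exists_sections (i (Γ.ι y)) (Fin.append (Fin.append g (fun _ : Fin 1 => f)) (Fin.append (fun _ : Fin 1 => t) h))
  let sg : Fin c → Γ(P, U.1) := fun k => s (Fin.castAdd _ (Fin.castAdd _ k))
  let sf : Fin 1 → Γ(P, U.1) := fun k => s (Fin.castAdd _ (Fin.natAdd _ k))
  let st : Fin 1 → Γ(P, U.1) := fun _ => P.presheaf.map (homOfLE (le_top : U.1 ≤ ⊤)).op tau
  let sh : Fin c → Γ(P, U.1) := fun k => s (Fin.natAdd _ (Fin.natAdd _ k))
  have hsg : gF hbU sg = g := funext fun k => (hs _).trans (by simp)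
  have hsf : gF hbU sf = fun _ => f := funext fun k => (hs _).trans (by simp)
  have hst : gF hbU st = fun _ => t := funext fun k => TopCat.Presheaf.germ_res_apply _ _ _ _ _
  have hsh : gF hbU sh = h := funext fun k => (hs _).trans (by simp)
  have hG' : gF hbU (fun k => Sum.elim sg sf (finSumFinEquiv.symm k)) = G := funext fun k => by
    simp only [G, gF]
    rcases finSumFinEquiv.symm k with l | l
    · exact congrFun hsg l
    · exact congrFun hsf l
  have hH' : gF hbU (fun k => Sum.elim st sh (finSumFinEquiv.symm k)) = H := funext fun k => by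
    simp only [H, gF]
    rcases finSumFinEquiv.symm k with l | l
    · exact congrFun hst l
    · exact congrFun hsh l
  refine ⟨?_, ?_, ?_⟩
  · refine exists_pieces_of_germs Γ.ι i y U hbU sg sf ?_ ?_ ?_ ?_
    · exact (congrArg (fun g' => Ideal.span (Set.range g')) hsg).symm ▸ hgker
    · exact hsg.symm ▸ hgreg
    · exact hG'.symm ▸ hkb
    · exact hG'.symm ▸ hGreg
  · have moveU : v (e y) ∈ U.1 := hp.symm ▸ hbU
    have mv : ∀ {x : Γ.curve.left ⟶ P} (hx : x y ∈ U.1), b = x →
        RingHom.ker (x.stalkMap y).hom = Ideal.span (Set.range (gF hx fun k => Sum.elim st sh (finSumFinEquiv.symm k))) ∧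
        IsRegular (P.presheaf.stalk (x y)) (List.ofFn (gF hx fun k => Sum.elim st sh (finSumFinEquiv.symm k))) ∧
        IsRegular (P.presheaf.stalk (x y)) (List.ofFn (gF hx st)) := by
      intro x hx hbx
      subst hbx
      exact ⟨hH'.symm ▸ hkb.trans hH.symm, hH'.symm ▸ hHreg, hst.symm ▸ htreg⟩
    obtain ⟨k1, k2, k3⟩ := mv (x := e ≫ v) moveU he.symm
    refine exists_pieces_of_germs e v y U moveU st sh ?_ k3 k1 k2
    rw [hkv]
    congr 1
    rw [show gF moveU st = fun _ => t₀ from funext fun _ => TopCat.Presheaf.germ_res_apply _ _ _ _ _, Set.range_const]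
  · have h1 := ringKrullDim_add_length_eq_ringKrullDim_of_isRegular (List.ofFn G) hGreg
    let E2 : (L ⧸ RingHom.ker (b.stalkMap y).hom) ≃+* Γ.curve.left.presheaf.stalk y :=
      RingHom.quotientKerEquivOfSurjective (b.stalkMap_surjective y)
    rw [CILib.ofList_ofFn, ← hkb, ringKrullDim_eq_of_ringEquiv E2, List.length_ofFn, ← hdim] at h1
    exact add_one_cancel (by rw [← h1]; push_cast; rw [add_assoc])

end Point

end RegConLib
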