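import Groth.Agent.RegConLib.Peel
import Groth.Agent.RegConLib.Euler
import Groth.Agent.ContractLib.Artin
import Groth.Agent.VertChiLib.Chi

/-!
# Vanishing and triviality on divisors with nonpositive genus
-/

set_option autoImplicit false
set_option linter.style.haveILetI false
set_option linter.unusedSectionVars false
set_option maxHeartbeats 1000000
set_option backward.isDefEq.respectTransparency false
set_option backward.isDefEq.respectTransparency.types false
universe u

open CategoryTheory CategoryTheory.Limits AlgebraicGeometry TopologicalSpace Opposite IsLocalRing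
open KFlatLib (pb)
open VertChiLib (J)

noncomputable section

namespace RegConLib

variable {R : Type u} [CommRing R] [IsDomain R] [IsDiscreteValuationRing R] {X : Over (Spec (CommRingCat.of R))}
  {r : ℕ} {Γ : Fin r → ArSurf.VertComp R X}

theorem dim_J_le (a : Fin r → ℕ) :
    topologicalKrullDim (J Γ a).subscheme ≤ ((1 : ℕ) : WithBot ℕ∞) := by
  refine FibDimLib.topologicalKrullDim_le_of_generic fun z _ => ?_
  have hz : (J Γ a).subschemeι z ∈ ((J Γ a).support : Set X.left) :=
    (J Γ a).range_subschemeι ▸ Set.mem_range_self z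
  obtain ⟨j, hj⟩ := ContractLib.mem_support_J Γ a hz
  have hsub : ∀ w : closure ({z} : Set (J Γ a).subscheme),
      (J Γ a).subschemeι w.1 ∈ Set.range ((Γ j).ι.base : (Γ j).curve.left → X.left) := fun w =>
    show w.1 ∈ (J Γ a).subschemeι ⁻¹' Set.range ((Γ j).ι.base : (Γ j).curve.left → X.left) from
    closure_minimal (t := (J Γ a).subschemeι ⁻¹' Set.range ((Γ j).ι.base : (Γ j).curve.left → X.left))
      (Set.singleton_subset_iff.2 hj)
      ((Γ j).ι.isClosedEmbedding.isClosed_range.preimage (J Γ a).subschemeι.continuous) w.2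
  have hind : Topology.IsInducing (fun w : closure ({z} : Set (J Γ a).subscheme) =>
      (⟨(J Γ a).subschemeι w.1, hsub w⟩ : Set.range ((Γ j).ι.base : (Γ j).curve.left → X.left))) :=
    ((J Γ a).subschemeι.isClosedEmbedding.isInducing.comp Topology.IsInducing.subtypeVal).codRestrict hsub
  refine hind.topologicalKrullDim_le.trans ?_
  rw [← IsHomeomorph.topologicalKrullDim_eq _ (Γ j).ι.isClosedEmbedding.isEmbedding.toHomeomorph.isHomeomorph,
    (Γ j).dim_eq]
  exact le_rfl

theorem subsingleton_HH_of_iso {W : Scheme.{u}} {F G : W.Modules} (e : F ≅ G) (p : ℕ)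
    (h : Subsingleton (Coh.HH W F p)) : Subsingleton (Coh.HH W G p) :=
  SerreVanLib.subsingleton_HH_of_iso e.symm p h

theorem curveDeg_eq {k : Type u} [Field k] {Y : Scheme.{u}} [Y.Over (Spec (CommRingCat.of k))]
    [IsProper (Y ↘ Spec (CommRingCat.of k))] (hd : topologicalKrullDim Y ≤ ((1 : ℕ) : WithBot ℕ∞)) (M : Y.Modules) :
    ArSurf.curveDeg k Y M = Curv2.deg k Y M 1 := by
  rw [ArSurf.curveDeg, HilbPolyLib.eulerCharLE_eq (k := k) hd, HilbPolyLib.eulerCharLE_eq (k := k) hd, Curv2.deg,
    Nat.cast_one, one_mul]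

theorem isEmpty_subscheme_one {W : Scheme.{u}} : IsEmpty (1 : W.IdealSheafData).subscheme :=
  ⟨fun z => by
    have h : (1 : W.IdealSheafData).subschemeι.base z ∈ ((1 : W.IdealSheafData).support : Set W) :=
      (1 : W.IdealSheafData).range_subschemeι ▸ Set.mem_range_self z
    have h' : (1 : W.IdealSheafData).support = ⊥ := Scheme.IdealSheafData.support_top
    exact (congrArg (fun c : Closeds W => (1 : W.IdealSheafData).subschemeι.base z ∈ (c : Set W)) h').mp h⟩

/-- A short exact sequence of modules supported on a closed subscheme, seen on it. -/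
theorem exists_pullback_seq {W Z C Y : Scheme.{u}} (i : W ⟶ Y) [IsClosedImmersion i] (j : Z ⟶ W) (g : C ⟶ W)
    [IsClosedImmersion j] [IsClosedImmersion g] {j' : Z ⟶ Y} (hj : j ≫ i = j') {g' : C ⟶ Y} (hg : g ≫ i = g')
    {M : C.Modules} {S : ShortComplex Y.Modules} (hS : S.ShortExact) (e₁ : S.X₁ ≅ (Coh.push g').obj M)
    (e₂ : S.X₂ ≅ (Coh.push i).obj (Coh.structureModule W)) (e₃ : S.X₃ ≅ (Coh.push j').obj (Coh.structureModule Z)) :
    ∃ T : ShortComplex W.Modules, T.Exact ∧ Epi T.g ∧ Nonempty (T.X₁ ≅ (Coh.push g).obj M) ∧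
      Nonempty (T.X₂ ≅ Coh.structureModule W) ∧ Nonempty (T.X₃ ≅ (Coh.push j).obj (Coh.structureModule Z)) := by
  subst hj hg
  haveI := hS.epi_g
  haveI : PreservesColimit (parallelPair S.f 0) (Scheme.Modules.pullback i) := inferInstance
  refine ⟨S.map (Scheme.Modules.pullback i), hS.exact.map_of_epi_of_preservesCokernel _ inferInstance inferInstance,
    inferInstanceAs (Epi ((Scheme.Modules.pullback i).map S.g)), ⟨?_⟩, ⟨?_⟩, ⟨?_⟩⟩
  · exact (Scheme.Modules.pullback i).mapIso (e₁ ≪≫ ((Scheme.Modules.pushforwardComp g i).app M).symm) ≪≫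
      CycKSuppLib.pullPushIso i _
  · exact (Scheme.Modules.pullback i).mapIso e₂ ≪≫ CycKSuppLib.pullPushIso i _
  · exact (Scheme.Modules.pullback i).mapIso
      (e₃ ≪≫ ((Scheme.Modules.pushforwardComp j i).app (Coh.structureModule Z)).symm) ≪≫
      CycKSuppLib.pullPushIso i _

theorem subsingleton_HH_push {Y W : Scheme.{u}} (f : Y ⟶ W) [IsAffineHom f] {M : Y.Modules} (hM : Coh.IsQCoh M)
    (p : ℕ) (h : Subsingleton (Coh.HH Y M p)) : Subsingleton (Coh.HH W ((Coh.push f).obj M) p) := by
  haveI := hM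
  obtain ⟨e⟩ := QCohLib.nonempty_HH_push f M p
  exact e.symm.injective.subsingleton

set_option maxHeartbeats 4000000 in
/-- `H¹(Z, O) = 0` and `Pic⁰ Z = 0`. -/
theorem vanish_and_trivial (hX : ArSurf.IsArithSurface R X)
    (L : Fin r → X.left.Modules) (hL : ∀ j, ClSub.IsInverseOf (L j) (ClSub.idealMod (Γ j).ι.ker))
    (ω : X.left.Modules) (hω : Canon.IsCanonical X.hom ω) :
    ∀ (m : ℕ) (a : Fin r → ℕ), ∑ j, a j = m →
      (∀ a' : Fin r → ℕ, a' ≤ a → a' ≠ 0 →
        ∑ i, (a' i : ℤ) * (∑ j, (a' j : ℤ) * ArSurf.inter R X (L j) (Γ i) + ArSurf.inter R X ω (Γ i)) < 0) →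
      Subsingleton (Coh.HH (J Γ a).subscheme (Coh.structureModule (J Γ a).subscheme) 1) ∧
      ∀ N : (J Γ a).subscheme.Modules, PicF.IsInvertible N →
        (∀ (i : Fin r) (g : (Γ i).curve.left ⟶ (J Γ a).subscheme), g ≫ (J Γ a).subschemeι = (Γ i).ι →
          ArSurf.curveDeg (ResidueField R) (Γ i).curve.left ((Scheme.Modules.pullback g).obj N) = 0) →
        Nonempty (N ≅ Coh.structureModule (J Γ a).subscheme) := by
  classical
  haveI : IsProper X.hom := VertIntLib.isProper_of_isArithSurface hX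
  have hX' := hX
  obtain ⟨hreg, hint, hdim, hflat, N₀, i₀, hi₀, hiX⟩ := hX'
  haveI := hint
  haveI := hflat
  haveI : IsLocallyNoetherian X.left := LocallyOfFiniteType.isLocallyNoetherian X.hom
  haveI : CompactSpace X.left := QuasiCompact.compactSpace_of_compactSpace X.hom
  haveI : IsNoetherian X.left := {}
  have hC : ∀ i, BlowUp.IsEffCartierIdeal (Γ i).ι.ker := fun i =>
    VertIntLib.isEffCartier_ker hreg (Γ i) (VertIntLib.isFibGen_of_dim hdim.le (Γ i))
  haveI hEp : ∀ E : ArSurf.VertComp R X,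
      IsProper (E.curve.left ↘ Spec (CommRingCat.of (ResidueField R))) :=
    fun E => VertIntLib.isProper_curve E
  intro m
  induction m with
  | zero =>
    intro a ha _
    obtain rfl : a = 0 := funext fun i => by simpa using (Finset.sum_eq_zero_iff.1 ha) i (Finset.mem_univ i)
    haveI : IsEmpty (J Γ (0 : Fin r → ℕ)).subscheme := by
      rw [VertChiLib.J_zero]
      exact isEmpty_subscheme_one
    refine ⟨CurvLib.subsingleton_HH_of_dim_le (d := 0) _ ?_ 1 (by omega), fun N hN _ => ?_⟩
    · exact FibDimLib.topologicalKrullDim_le_of_generic fun z _ => isEmptyElim z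
    · have hg : AmpleLib.GenOn N (0 : Γ(N, ⊤)) := TwistLib.genOn_of_genAt fun z _ => isEmptyElim z
      haveI := AmpleLib.isIso_unitHom _ hg
      exact ⟨(asIso (QCohLib.unitHom N (0 : Γ(N, ⊤)))).symm⟩
  | succ m ih =>
    intro a ha hpa
    have hsum := hpa a le_rfl (fun h => by simp [h] at ha)
    obtain ⟨i, hi⟩ : ∃ i, (a i : ℤ) * (∑ j, (a j : ℤ) * ArSurf.inter R X (L j) (Γ i) + ArSurf.inter R X ω (Γ i)) < 0 := by
      by_contra hne
      push Not at hne
      exact absurd hsum (not_lt.2 (Finset.sum_nonneg fun i _ => hne i))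
    have hai : 1 ≤ a i := Nat.one_le_iff_ne_zero.2 fun h => by simp [h] at hi
    have hbr : ∑ j, (a j : ℤ) * ArSurf.inter R X (L j) (Γ i) + ArSurf.inter R X ω (Γ i) < 0 := by
      by_contra hge
      exact absurd hi (not_lt.2 (mul_nonneg (Int.natCast_nonneg _) (not_lt.1 hge)))
    obtain ⟨b, rfl⟩ : ∃ b, a = b + Pi.single i 1 := ⟨a - Pi.single i 1, funext fun j => by
      rcases eq_or_ne j i with rfl | hj
      · simp; omega
      · simp [hj]⟩
    have hbm : ∑ j, b j = m := by
      simp only [Pi.add_apply, Finset.sum_add_distrib, Finset.sum_pi_single', Finset.mem_univ, if_true] at ha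
      omega
    have hba : b ≤ b + Pi.single i 1 := le_self_add
    obtain ⟨hb1, hb2⟩ := ih b hbm fun a' h => hpa a' (h.trans hba)
    set a := b + Pi.single i 1 with hadef
    let k := ResidueField R
    let C := (Γ i).curve.left
    haveI : IsNoetherian C := CurvLib.isNoetherian k (X := C)
    -- the subschemes
    have hJ : J Γ a = J Γ b * (Γ i).ι.ker := by rw [hadef, VertChiLib.J_add, VertChiLib.J_single]
    have hle1 : J Γ a ≤ J Γ b := fun U => by
      rw [hJ, Scheme.IdealSheafData.ideal_mul, Pi.mul_apply]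
      exact Ideal.mul_le_left (I := (J Γ b).ideal U)
    have hle2 : J Γ a ≤ (Γ i).ι.ker := ContractLib.J_le Γ a i hai
    let W := (J Γ a).subscheme
    let iW := (J Γ a).subschemeι
    let j := Scheme.IdealSheafData.inclusion hle1
    have hj : j ≫ iW = (J Γ b).subschemeι := Scheme.IdealSheafData.inclusion_subschemeι hle1
    let g := IsClosedImmersion.lift iW (Γ i).ι (by rw [Scheme.IdealSheafData.ker_subschemeι]; exact hle2)
    have hg : g ≫ iW = (Γ i).ι := IsClosedImmersion.lift_fac _ _ _
    haveI : IsClosedImmersion j := by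
      haveI : IsClosedImmersion (j ≫ iW) := by rw [hj]; infer_instance
      exact IsClosedImmersion.of_comp j iW
    haveI : IsClosedImmersion g := by
      haveI : IsClosedImmersion (g ≫ iW) := by rw [hg]; infer_instance
      exact IsClosedImmersion.of_comp g iW
    haveI : CompactSpace W := QuasiCompact.compactSpace_of_compactSpace iW
    haveI : IsLocallyNoetherian W := LocallyOfFiniteType.isLocallyNoetherian iW
    haveI : IsNoetherian W := {}
    have hd1 := dim_J_le (Γ := Γ) a
    have hcover : ∀ w : W, w ∈ Set.range j.base ∨ w ∈ Set.range g.base := fun w => by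
      have hw : iW w ∈ ((J Γ a).support : Set X.left) := (J Γ a).range_subschemeι ▸ Set.mem_range_self w
      have hsupp : ((J Γ a).support : Set X.left) =
          ((J Γ b).support : Set X.left) ∪ ((Γ i).ι.ker.support : Set X.left) := by
        rw [hJ, Scheme.IdealSheafData.support_mul]
        rfl
      have hw' : iW w ∈ ((J Γ b).support : Set X.left) ∪ ((Γ i).ι.ker.support : Set X.left) := hsupp ▸ hw
      rcases hw' with h | h
      · obtain ⟨z, hz⟩ := (J Γ b).range_subschemeι.ge h
        exact Or.inl ⟨z, iW.isClosedEmbedding.injective ((congrArg (fun f : (J Γ b).subscheme ⟶ X.left => f z) hj).trans hz)⟩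
      · rw [Scheme.Hom.support_ker, (Γ i).ι.isClosedEmbedding.isClosed_range.closure_eq] at h
        obtain ⟨z, hz⟩ := h
        exact Or.inr ⟨z, iW.isClosedEmbedding.injective ((congrArg (fun f : C ⟶ X.left => f z) hg).trans hz)⟩
    -- the sequence
    have hCb := VertChiLib.isEffCartier_J hC b
    obtain ⟨S, hS, ⟨e1⟩, ⟨e2⟩, ⟨e3⟩⟩ := SurfAmpleLib.exists_quotSeq hCb (hC i)
    let M := pb (Γ i).ι (ClSub.idealMod (J Γ b))
    have hinv := IntMultLib.isInvertible_idealMod _ hCb
    have hM : PicF.IsInvertible M := AmpleDevLib.isInvertible_pb _ hinv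
    obtain ⟨eq⟩ := VertChiLib.nonempty_tensor_quot (Γ i) hinv
    obtain ⟨T, hT, hTg, ⟨t1⟩, ⟨t2⟩, ⟨t3⟩⟩ := exists_pullback_seq iW j g hj hg hS (e1 ≪≫ eq)
      (e2 ≪≫ eqToIso (congrArg ClSub.quotMod hJ.symm)) e3
    haveI := hTg
    -- degrees
    have hdegM : Curv2.deg k C M 1 = - ∑ j, (b j : ℤ) * ArSurf.inter R X (L j) (Γ i) := by
      show VertIntLib.dId (Γ i) (J Γ b) = _
      rw [VertChiLib.dId_J (Γ i) hC b, ← Finset.sum_neg_distrib]
      exact Finset.sum_congr rfl fun j _ => by rw [VertIntLib.inter_eq_neg (Γ i) (hC j) (hL j)]; ring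
    have hbig : ArSurf.inter R X (L i) (Γ i) + ArSurf.inter R X ω (Γ i) < Curv2.deg k C M 1 := by
      rw [hdegM]
      have : ∑ j, (a j : ℤ) * ArSurf.inter R X (L j) (Γ i) =
          (∑ j, (b j : ℤ) * ArSurf.inter R X (L j) (Γ i)) + ArSurf.inter R X (L i) (Γ i) := by
        simp [hadef, add_mul, Finset.sum_add_distrib, Pi.single_apply]
      linarith
    have hM1 : Subsingleton (Coh.HH C M 1) :=
      subsingleton_H1_of_deg hX (Γ i) (L i) (hL i) ω hω hM hbig
    have hO1 : Subsingleton (Coh.HH C (Coh.structureModule C) 1) := by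
      refine subsingleton_H1_of_deg hX (Γ i) (L i) (hL i) ω hω CurvLib.isInvertible_structureModule ?_
      have h := hpa (Pi.single i 1) (fun j => by
        rcases eq_or_ne j i with rfl | hj
        · simp; omega
        · simp [hj]) (fun h => by simpa using congrFun h i)
      have h0 : Curv2.deg (ResidueField R) (Γ i).curve.left (Coh.structureModule (Γ i).curve.left) 1 = 0 := by
        simp [Curv2.deg]
      rw [h0]
      simpa [Pi.single_apply, ite_mul] using h
    have h1 : Subsingleton (Coh.HH W T.X₁ 1) :=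
      subsingleton_HH_of_iso t1.symm 1 (subsingleton_HH_push g (CurvLib.isCoh_of_isInvertible hM).1 1 hM1)
    have h3 : Subsingleton (Coh.HH W T.X₃ 1) :=
      subsingleton_HH_of_iso t3.symm 1 (subsingleton_HH_push j QCohLib.isQCoh_unit 1 hb1)
    refine ⟨subsingleton_H1_structure hd1 hT t2 h1 h3, fun N hN hdegN => ?_⟩
    have hd0 : Curv2.deg k C (pb g N) 1 = 0 := by
      rw [← curveDeg_eq (Γ i).dim_eq.le]
      exact hdegN i g hg
    have hH : Subsingleton (Coh.HH C (CohB1.tensorMod (pb g N) M) 1) := by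
      refine subsingleton_H1_of_deg hX (Γ i) (L i) (hL i) ω hω
        (HilbPolyLib.isInvertible_tensor (AmpleDevLib.isInvertible_pb g hN) hM) ?_
      rw [GenusZeroLib.deg_tensor (ResidueField R) (Γ i).dim_eq (AmpleDevLib.isInvertible_pb g hN) hM]
      exact hbig.trans_eq ((zero_add _).symm.trans (congrArg (· + _) hd0.symm))
    refine nonempty_trivial_of_peel (k := k) hd1 j g hT t1 t2 t3 (Γ i).dim_eq hcover hM hN hd0
      (subsingleton_HH_push g (CurvLib.isCoh_of_isInvertible
        (HilbPolyLib.isInvertible_tensor (AmpleDevLib.isInvertible_pb g hN) hM)).1 1 hH)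
      (nonempty_trivial_of_deg_zero (k := k) (Γ i).dim_eq hO1 (AmpleDevLib.isInvertible_pb g hN) hd0)
      (hb2 (pb j N) (AmpleDevLib.isInvertible_pb j hN) fun i' g' hg' => ?_)
    have h := hdegN i' (g' ≫ j) (by rw [Category.assoc, hj, hg'])
    rw [curveDeg_eq (Γ i').dim_eq.le] at h ⊢
    rw [← h]
    exact CurvLib.deg_congr ((Scheme.Modules.pullbackComp g' j).app N) 1

end RegConLib
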