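import Groth.Agent.RegConLib.Adjunction
import Groth.Agent.RegConLib.Vanish
import Groth.Agent.RegConLib.Genus
import Groth.Agent.ContractLib.Artin
import Groth.Agent.SymSqLib.Pic
import Groth.Agent.VertIntLib.Pic
import Groth.Agent.VertChiLib.Div

/-!
# A neighbourhood of an exceptional curve where its ideal is ample
-/

set_option autoImplicit false
set_option linter.style.haveILetI false
set_option linter.unusedSectionVars false
set_option maxHeartbeats 1000000
set_option backward.isDefEq.respectTransparency false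
set_option backward.isDefEq.respectTransparency.types false
universe u

open CategoryTheory CategoryTheory.Limits AlgebraicGeometry TopologicalSpace Opposite IsLocalRing
open AmpleLib AmpleThLib
open TwistLib (genSet)
open KFlatLib (pb puSec)
open HilbPolyLib (assocIso congrLeft congrRight swapIso unitLeft)
open CubeConsLib (cl cl_eq_iff cl_tensor pull pull_cl pull_comp cl_eq_one_iff exists_inverse)

noncomputable section

namespace RegConLib

variable {R : Type u} [CommRing R] [IsDomain R] [IsDiscreteValuationRing R] {X : Over (Spec (CommRingCat.of R))}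

/-- An arithmetic surface has a canonical sheaf. -/
theorem exists_isCanonical (hX : ArSurf.IsArithSurface R X) : ∃ ω : X.left.Modules, Canon.IsCanonical X.hom ω := by
  obtain ⟨hreg, hint, hd2, hflat, n, i₀, hi₀, hi₀q⟩ := hX
  haveI := hint
  haveI := hi₀
  obtain ⟨θ, hθ⟩ := LichtLib.exists_iso_over n R
  let i : X.left ⟶ CohB1.ProjSpace n R := i₀ ≫ θ.inv
  have hiq : i ≫ CohB1.ProjSpace.toSpec n R = X.hom := by
    rw [← hθ, Category.assoc, Iso.inv_hom_id_assoc, hi₀q]
  haveI : SmoothOfRelativeDimension n (CohB1.ProjSpace.toSpec n R) := OmegaPnLib.smoothRel_projSpace R n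
  haveI : Smooth (CohB1.ProjSpace.toSpec n R) := GenusZeroLib.smooth_toSpec n R
  haveI : IsLocallyNoetherian (CohB1.ProjSpace n R) :=
    LocallyOfFiniteType.isLocallyNoetherian (CohB1.ProjSpace.toSpec n R)
  haveI : IsLocallyNoetherian X.left := LocallyOfFiniteType.isLocallyNoetherian i
  haveI : IrreducibleSpace X.left := inferInstance
  obtain ⟨c, hc⟩ := exists_codim i (Groth.Agent.S8855.result i
    (fun p => regular_stalk_over (CohB1.ProjSpace.toSpec n R) p) hreg)
  obtain ⟨DP, hDP⟩ := ExtTopLib.exists_isExtPow (CohCmpLib.rank_omega (CohB1.ProjSpace.toSpec n R) n)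
  obtain ⟨DX, hDX⟩ := AdjFormLib.exists_det hc
  obtain ⟨eD⟩ := MiscFlat6.nonempty_dualIso (CohCmpLib.isInvertible_of_isExtPow (rank_conormal hc) hDX)
  exact ⟨CohB1.tensorMod ((Scheme.Modules.pullback i).obj DP) (MiscFlat6.dual DX), _, i,
    CohB1.ProjSpace.toSpec n R, c, n, hiq, hc, inferInstance, inferInstance, inferInstance, DX, DP, hDX, hDP, by
    rw [← cl_eq_iff, cl_tensor, cl_tensor, mul_assoc, mul_comm (cl (MiscFlat6.dual DX)), ← cl_tensor DX,
      cl_eq_one_iff.2 ⟨eD⟩, mul_one]⟩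

variable (hX : ArSurf.IsArithSurface R X) (E : ArSurf.VertComp R X) (L : X.left.Modules)
  (hL : ClSub.IsInverseOf L (ClSub.idealMod E.ι.ker))

include hX hL in
/-- Bundles of degree zero on the thickenings of a negative curve without `H¹(O)` are trivial. -/
theorem pic_trivial (hneg : ArSurf.inter R X L E < 0)
    (hh1 : Subsingleton (Coh.HH E.curve.left (Coh.structureModule E.curve.left) 1)) (a : Fin 1 → ℕ)
    (N : (VertChiLib.J (fun _ : Fin 1 => E) a).subscheme.Modules) (hN : PicF.IsInvertible N)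
    (hN0 : ∀ (i : Fin 1) (g : E.curve.left ⟶ (VertChiLib.J (fun _ : Fin 1 => E) a).subscheme),
      g ≫ (VertChiLib.J (fun _ : Fin 1 => E) a).subschemeι = E.ι →
        ArSurf.curveDeg (ResidueField R) E.curve.left ((Scheme.Modules.pullback g).obj N) = 0) :
    Nonempty (N ≅ Coh.structureModule (VertChiLib.J (fun _ : Fin 1 => E) a).subscheme) := by
  obtain ⟨ω, hω⟩ := exists_isCanonical hX
  haveI : IsProper X.hom := VertIntLib.isProper_of_isArithSurface hX
  haveI := VertIntLib.isProper_curve E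
  have hadj := inter_add_inter_cst hX E L hL ω hω
  have hcst : (1 : ℤ) ≤ VertChiLib.cst E := by
    have hh : Models.h1 R X E = 0 := Module.finrank_zero_of_subsingleton (M := Coh.HH E.curve.left (Coh.structureModule E.curve.left) 1)
    rw [VertChiLib.cst, hh, Nat.cast_zero, sub_zero]
    exact_mod_cast (VertChiLib.dvd_inter E).1
  refine (vanish_and_trivial (Γ := fun _ : Fin 1 => E) hX (fun _ => L) (fun _ => hL) ω hω _ a rfl
    (fun a' _ ha' => ?_)).2 N hN hN0
  simp only [Finset.univ_unique, Finset.sum_singleton]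
  have h1 : (1 : ℤ) ≤ (a' default : ℤ) := by
    have : a' default ≠ 0 := fun h => ha' (funext fun i => by rw [Subsingleton.elim i default]; exact h)
    exact_mod_cast Nat.one_le_iff_ne_zero.2 this
  nlinarith [mul_nonneg (sub_nonneg.2 h1) (neg_nonneg.2 hneg.le)]

include hX hL in
/-- Near a negative curve with trivial `Pic⁰` of thickenings a power of an ample module is a power of its ideal. -/
theorem exists_nhd (hneg : ArSurf.inter R X L E < 0)
    (hh1 : Subsingleton (Coh.HH E.curve.left (Coh.structureModule E.curve.left) 1)) :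
    ∃ (W : X.left.Opens) (H : X.left.Modules) (b : ℕ), Set.range E.ι ⊆ (W : Set X.left) ∧ 1 ≤ b ∧
      PicF.IsInvertible H ∧ CohB1.IsAmple H ∧
      Nonempty (pb W.ι (CohB1.tensorPow (ClSub.idealMod E.ι.ker) b) ≅ pb W.ι H) := by
  classical
  have hpic := pic_trivial hX E L hL hneg hh1
  haveI : IsProper X.hom := VertIntLib.isProper_of_isArithSurface hX
  obtain ⟨hreg, hint, hdim, hflat, N₀, i₀, hi₀, hiX⟩ := hX
  haveI := hint
  haveI := hflat
  haveI := hi₀
  haveI : IsLocallyNoetherian X.left := LocallyOfFiniteType.isLocallyNoetherian X.hom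
  haveI : CompactSpace X.left := QuasiCompact.compactSpace_of_compactSpace X.hom
  haveI : X.left.IsSeparated := Scheme.IsSeparated.mk (by
    rw [terminal.hom_ext (terminal.from X.left) (X.hom ≫ terminal.from _)]
    infer_instance)
  haveI := VertIntLib.isProper_curve E
  have hC : BlowUp.IsEffCartierIdeal E.ι.ker :=
    VertIntLib.isEffCartier_ker hreg E (VertIntLib.isFibGen_of_dim hdim.le E)
  -- an ample module
  let H : X.left.Modules := pb i₀ (Twist.twistOver N₀ (Spec (CommRingCat.of R)) 1)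
  have hHi : PicF.IsInvertible H := AmpleDevLib.isInvertible_pb _ (PicPnLib.twistOver_inv N₀ _ 1)
  have hHA : CohB1.IsAmple H :=
    AmpleThLib.isAmple_of_isRelVeryAmplePn X.hom hHi ⟨N₀, i₀, inferInstance, hiX, ⟨Iso.refl _⟩⟩
  have hHpos : 0 < ArSurf.inter R X H E := by
    rw [VertIntLib.inter_eq_deg]
    exact SerreVanLib.deg_pos_of_isAmple (k := ResidueField R) E.dim_eq (AmpleDevLib.isAmple_pb (f := E.ι) hHi hHA)
  obtain ⟨e, he⟩ : ∃ e : ℕ, ArSurf.inter R X L E = -(e : ℤ) := ⟨(-ArSurf.inter R X L E).toNat, by omega⟩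
  obtain ⟨g, hg⟩ : ∃ g : ℕ, ArSurf.inter R X H E = (g : ℤ) := ⟨(ArSurf.inter R X H E).toNat, by omega⟩
  obtain ⟨n₁, hn₁⟩ := SerreVanLib.exists_vanishing X.hom hHi hHA (Coh.structureModule X.left)
    (DevissLib.isCoh_structureModule _)
  let c := n₁ + 1
  let n := e * c
  have he0 : 0 < e := by omega
  have hg0 : 0 < g := by omega
  have hb : 1 ≤ g * c := Nat.one_le_iff_ne_zero.2 (Nat.mul_ne_zero hg0.ne' (Nat.succ_ne_zero _))
  let a : Fin 1 → ℕ := fun _ => g * c
  let I := VertChiLib.J (fun _ : Fin 1 => E) a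
  have hI : BlowUp.IsEffCartierIdeal I := VertChiLib.isEffCartier_J (fun _ => hC) a
  obtain ⟨LZ, hLZ⟩ := VertIntLib.exists_inverse (IntMultLib.isInvertible_idealMod _ hI)
  have hLZi : PicF.IsInvertible LZ := VertIntLib.isInvertible_inverse hI hLZ
  let P := CohB1.tensorPow H n
  have hP : PicF.IsInvertible P := AmpleThLib.tensorPow_isInvertible hHi n
  have hF : PicF.IsInvertible (CohB1.tensorMod P LZ) := shT_isInvertible hP hLZi
  have hzero : ArSurf.inter R X (CohB1.tensorMod P LZ) E = 0 := by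
    rw [VertIntLib.inter_tensor hP hLZi, (VertIntLib.pow_spec hHi E n).2, VertIntLib.inter_eq_neg E hI hLZ,
      VertChiLib.dId_J E (fun _ => hC) a]
    simp only [Finset.univ_unique, Finset.sum_singleton, a, n]
    rw [show VertIntLib.dId E E.ι.ker = (e : ℤ) by
      have h := VertIntLib.inter_eq_neg E hC hL; omega, hg]
    push_cast
    ring
  have hsupp : ∀ x ∈ Set.range E.ι, x ∈ (I.support : Set X.left) := fun x hx =>
    Scheme.IdealSheafData.support_antitone (ContractLib.J_le (fun _ : Fin 1 => E) a 0 hb)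
      (E.ι.range_subset_ker_support hx)
  obtain ⟨eI⟩ : Nonempty (pb I.subschemeι (CohB1.tensorMod P LZ) ≅ Coh.structureModule I.subscheme) := by
    refine hpic a _ (AmpleDevLib.isInvertible_pb _ hF) fun i g' hg' => ?_
    refine Eq.trans ?_ hzero
    have hd : topologicalKrullDim E.curve.left ≤ ((1 : ℕ) : WithBot ℕ∞) := E.dim_eq.le
    rw [ArSurf.inter, ArSurf.curveDeg, ArSurf.curveDeg,
      HilbPolyLib.eulerCharLE_eq (k := ResidueField R) hd,
      HilbPolyLib.eulerCharLE_eq (k := ResidueField R) hd,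
      HilbPolyLib.eulerCharLE_eq (k := ResidueField R) hd]
    exact congrArg (· - _) (CurvLib.euler_congr (k := ResidueField R)
      ((Scheme.Modules.pullbackComp g' I.subschemeι).app _ ≪≫ (Scheme.Modules.pullbackCongr hg').app _))
  -- a section generating along the divisor
  obtain ⟨φ⟩ := hLZ
  obtain ⟨T, hT, ⟨e₁⟩, ⟨e₂⟩, ⟨e₃⟩⟩ := HdgLefLib.exists_restrict_seq I
    (AmpleDevLib.isFinLocFree_of_isInvertible hF)
  let e₁' : T.X₁ ≅ P := e₁ ≪≫ assocIso _ _ _ ≪≫ congrRight _ φ ≪≫ swapIso _ _ ≪≫ unitLeft _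
  let τ : Γ(pb I.subschemeι (CohB1.tensorMod P LZ), ⊤) := eI.inv.app ⊤ (1 : Γ(I.subscheme, ⊤))
  haveI hsub : Subsingleton (Coh.HH X.left P 1) :=
    SerreVanLib.subsingleton_HH_of_iso (unitLeft P).symm 1
      (hn₁ n (le_trans (Nat.le_succ n₁) (Nat.le_mul_of_pos_left c he0)) 1 one_pos)
  obtain ⟨σ, hσ⟩ := (EvGGLib.step X.hom hT e₁' e₂ e₃).2 (Function.injective_of_subsingleton _) τ
  let W : X.left.Opens := genSet hF σ
  refine ⟨W, P, g * c, fun x hx => ?_, hb, hP,
    (AmpleThLib.isAmple_tensorPow_iff hHi (n := n) (Nat.mul_pos he0 (Nat.succ_pos _))).1 hHA, ?_⟩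
  · obtain ⟨z, rfl⟩ := I.range_subschemeι.ge (hsupp x hx)
    have hτ : z ∈ genSet (AmpleDevLib.isInvertible_pb _ hF) τ :=
      (AmpleThLib.genSet_iso CurvLib.isInvertible_structureModule (AmpleDevLib.isInvertible_pb _ hF) eI.symm
        (show Γ(Coh.structureModule I.subscheme, ⊤) from (1 : Γ(I.subscheme, ⊤)))).ge
        ((one_genOn (⊤ : I.subscheme.Opens)).genAt trivial)
    exact EvGGLib.mem_genSet_of_image _ hF (AmpleDevLib.isInvertible_pb _ hF) (e₂.inv ≫ T.g ≫ e₃.hom) σ z
      ((congrArg (fun t => z ∈ genSet (AmpleDevLib.isInvertible_pb _ hF) t) hσ).mpr hτ)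
  obtain ⟨t⟩ := ContractLib.pull_trivial_of_genSet W.ι hF σ (fun z => z.2)
  -- compare classes
  have hJ : VertIntLib.idc I = VertIntLib.idc E.ι.ker ^ (g * c) := by
    have hp : I = E.ι.ker ^ (g * c) := by simp [I, a, VertChiLib.J]
    rw [hp, VertIntLib.idc_pow hC]
  obtain ⟨ep⟩ : Nonempty (CohB1.tensorPow (ClSub.idealMod E.ι.ker) (g * c) ≅ ClSub.idealMod I) :=
    cl_eq_iff.1 ((VertIntLib.cl_tensorPow _ _).trans hJ.symm)
  exact ⟨(Scheme.Modules.pullback W.ι).mapIso ep ≪≫
    (unitLeft _).symm ≪≫ congrLeft t.symm _ ≪≫ (PicPnLib.pullTens W.ι _ _).symm ≪≫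
      (Scheme.Modules.pullback W.ι).mapIso (assocIso _ _ _ ≪≫ congrRight _ φ ≪≫ swapIso _ _ ≪≫ unitLeft _)⟩

end RegConLib
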