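import Groth.Agent.FLILib.Conormal
import Groth.Agent.AdjFormLib.Det

/-!
# The determinant of the conormal sheaf of a composite
-/

set_option autoImplicit false
set_option linter.style.haveILetI false
set_option linter.unusedSectionVars false
set_option maxHeartbeats 1000000
set_option backward.isDefEq.respectTransparency false
set_option backward.isDefEq.respectTransparency.types false
universe u

open CategoryTheory CategoryTheory.Limits AlgebraicGeometry TopologicalSpace Opposite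
open FLI (IsChart preA resFam)
open AmpleLib (res res_res res_smul shT GenAt GenOn)
open OmegaSh (pullSect)

noncomputable section

namespace RegConLib

theorem isChart_congr {P X : Scheme.{u}} {ι : X ⟶ P} {c : ℕ} {U V : P.affineOpens} (e : U = V)
    {g : Fin c → Γ(P, U.1)} (h : IsChart ι U g) : IsChart ι V (resFam (le_of_eq (congrArg (fun W => W.1) e.symm)) g) := by
  subst e
  convert h using 2
  funext j
  exact congr($(P.presheaf.map_id (op U.1)) (g j))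

variable {A B C : Scheme.{u}} (a : A ⟶ B) (b : B ⟶ C) [IsClosedImmersion a] [IsClosedImmersion b] (c₁ c₂ : ℕ)

/-- An affine open with compatible families for the two immersions and the composite. -/
structure Pieces where
  U : C.affineOpens
  g : Fin c₁ → Γ(C, U.1)
  h : Fin c₂ → Γ(C, U.1)
  hb : IsChart b U g
  hab : IsChart (a ≫ b) U (fun j => Sum.elim g h (finSumFinEquiv.symm j))
  ha : IsChart a (preA U b) (fun j => b.app U.1 (h j))

variable {a b c₁ c₂}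

theorem Pieces.exists_res (d : Pieces a b c₁ c₂) (f : Γ(C, d.U.1)) (W : C.affineOpens)
    (hW : W.1 = C.basicOpen f) : ∃ d' : Pieces a b c₁ c₂, d'.U = W ∧ ∀ hle : d'.U.1 ≤ d.U.1,
      d'.g = resFam hle d.g ∧ d'.h = resFam hle d.h := by
  obtain ⟨W, hWa⟩ := W
  obtain rfl : W = C.basicOpen f := hW
  let U' : C.affineOpens := ⟨C.basicOpen f, hWa⟩
  have hle : U'.1 ≤ d.U.1 := C.basicOpen_le f
  have heq : (⟨B.basicOpen (b.app d.U.1 f), (preA d.U b).2.basicOpen _⟩ : B.affineOpens) = preA U' b :=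
    Subtype.ext (Scheme.preimage_basicOpen b f).symm
  refine ⟨⟨U', resFam hle d.g, resFam hle d.h, d.hb.basicOpen f, ?_, ?_⟩, rfl, fun _ => ⟨rfl, rfl⟩⟩
  · have h1 := d.hab.basicOpen f
    convert h1 using 2
    rename_i j
    rcases hj : finSumFinEquiv.symm j with k | k <;> (simp only [resFam, hj, Sum.elim_inl, Sum.elim_inr]; rfl)
  · have h1 := isChart_congr heq (d.ha.basicOpen (b.app d.U.1 f))
    convert h1 using 2
    rename_i j
    refine (congr($(b.naturality (homOfLE hle).op) (d.h j))).trans ?_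
    simp only [resFam, ← ConcreteCategory.comp_apply, Category.assoc, ← Functor.map_comp]
    rfl

section Gens

variable {LAB LA : A.Modules} {LB : B.Modules}
  (φAB : ∀ U : A.affineOpens, (LAB.val.obj (op U.1)) ≃ₗ[Γ(A, U.1)]
    ↥(⋀[Γ(A, U.1)]^(c₁ + c₂) ((Omega.conormal (a ≫ b)).val.obj (op U.1))))
  (φA : ∀ U : A.affineOpens, (LA.val.obj (op U.1)) ≃ₗ[Γ(A, U.1)]
    ↥(⋀[Γ(A, U.1)]^c₂ ((Omega.conormal a).val.obj (op U.1))))
  (φB : ∀ U : B.affineOpens, (LB.val.obj (op U.1)) ≃ₗ[Γ(B, U.1)]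
    ↥(⋀[Γ(B, U.1)]^c₁ ((Omega.conormal b).val.obj (op U.1))))
  (hAB : ∀ (U V : A.affineOpens) (h : V.1 ≤ U.1) (e : Fin (c₁ + c₂) → (Omega.conormal (a ≫ b)).val.obj (op U.1)),
    LAB.val.map (homOfLE h).op ((φAB U).symm (exteriorPower.ιMulti _ (c₁ + c₂) e)) =
      (φAB V).symm (exteriorPower.ιMulti _ (c₁ + c₂) (fun j => (Omega.conormal (a ≫ b)).val.map (homOfLE h).op (e j))))
  (hA : ∀ (U V : A.affineOpens) (h : V.1 ≤ U.1) (e : Fin c₂ → (Omega.conormal a).val.obj (op U.1)),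
    LA.val.map (homOfLE h).op ((φA U).symm (exteriorPower.ιMulti _ c₂ e)) =
      (φA V).symm (exteriorPower.ιMulti _ c₂ (fun j => (Omega.conormal a).val.map (homOfLE h).op (e j))))
  (hB : ∀ (U V : B.affineOpens) (h : V.1 ≤ U.1) (e : Fin c₁ → (Omega.conormal b).val.obj (op U.1)),
    LB.val.map (homOfLE h).op ((φB U).symm (exteriorPower.ιMulti _ c₁ e)) =
      (φB V).symm (exteriorPower.ιMulti _ c₁ (fun j => (Omega.conormal b).val.map (homOfLE h).op (e j))))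

/-- The generator of the product. -/
def Pieces.gen₁ (d : Pieces a b c₁ c₂) :
    Γ(CohB1.tensorMod ((Scheme.Modules.pullback a).obj LB) LA, a ⁻¹ᵁ (b ⁻¹ᵁ d.U.1)) :=
  shT (pullSect a LB (b ⁻¹ᵁ d.U.1) (d.hb.lam φB)) (d.ha.lam φA)

/-- The generator of the determinant of the composite. -/
def Pieces.gen₂ (d : Pieces a b c₁ c₂) : Γ(LAB, a ⁻¹ᵁ (b ⁻¹ᵁ d.U.1)) := d.hab.lam φAB

theorem Pieces.exists_ratio (d d' : Pieces a b c₁ c₂) (W : C.affineOpens) (hd : d.U = W) (hd' : d'.U = W) :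
    ∃ s : Γ(A, a ⁻¹ᵁ (b ⁻¹ᵁ W.1)),
      s • (hd ▸ d.gen₁ φA φB : Γ(CohB1.tensorMod ((Scheme.Modules.pullback a).obj LB) LA, a ⁻¹ᵁ (b ⁻¹ᵁ W.1))) =
        hd' ▸ d'.gen₁ φA φB ∧
      s • (hd ▸ d.gen₂ φAB : Γ(LAB, a ⁻¹ᵁ (b ⁻¹ᵁ W.1))) = hd' ▸ d'.gen₂ φAB := by
  subst hd
  obtain ⟨U', g', h', hb', hab', ha'⟩ := d'
  obtain rfl : U' = d.U := hd'
  let U := d.U
  have h1 : ∀ j, ∃ G : Fin c₁ → Γ(C, U.1), ∑ i, G i * d.g i = g' j := fun j => by
    have : g' j ∈ b.ker.ideal U := hb'.ideal_eq ▸ Ideal.subset_span ⟨j, rfl⟩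
    rw [d.hb.ideal_eq] at this
    exact (Ideal.mem_span_range_iff_exists_fun).1 this
  choose G hG using h1
  have h2 : ∀ j, ∃ Q : Fin (c₁ + c₂) → Γ(C, U.1), ∑ i, Q i * Sum.elim d.g d.h (finSumFinEquiv.symm i) = h' j := fun j => by
    have : h' j ∈ (a ≫ b).ker.ideal U := hab'.ideal_eq ▸ Ideal.subset_span ⟨finSumFinEquiv (Sum.inr j), by simp⟩
    rw [d.hab.ideal_eq] at this
    exact (Ideal.mem_span_range_iff_exists_fun).1 this
  choose Q hQ using h2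
  let σ : Fin c₁ ⊕ Fin c₂ ≃ Fin (c₁ + c₂) := finSumFinEquiv
  let G₀ : Matrix (Fin c₁) (Fin c₁) Γ(C, U.1) := Matrix.of fun i j => G j i
  let H : Matrix (Fin c₂) (Fin c₂) Γ(C, U.1) := Matrix.of fun i j => Q j (σ (Sum.inr i))
  let M : Matrix (Fin (c₁ + c₂)) (Fin (c₁ + c₂)) Γ(C, U.1) := Matrix.of fun i q =>
    Sum.elim (fun j => Sum.elim (fun i' => G j i') (fun _ => 0) (σ.symm i)) (fun j => Q j i) (σ.symm q)
  have hM : ∀ q, Sum.elim g' h' (σ.symm q) = ∑ i, M i q * Sum.elim d.g d.h (σ.symm i) := fun q => by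
    rcases hq : σ.symm q with j | j
    · simp only [M, Matrix.of_apply, hq, Sum.elim_inl]
      rw [← σ.sum_comp, Fintype.sum_sum_type]
      simp only [Equiv.symm_apply_apply, Sum.elim_inl, Sum.elim_inr, zero_mul, Finset.sum_const_zero, add_zero]
      exact (hG j).symm
    · simp only [M, Matrix.of_apply, hq, Sum.elim_inr]
      exact (hQ j).symm
  have hdet : M.det = G₀.det * H.det := by
    refine (AdjFormLib.det_split σ M fun i j => by simp [M]).trans ?_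
    congr 1 <;> congr 1 <;> ext i j <;> simp [M, G₀, H]
  have eB : hb'.lam φB = ((G₀.map (b.app U.1)).det • d.hb.lam φB : Γ(LB, b ⁻¹ᵁ U.1)) :=
    d.hb.lam_matrix φB hb' G₀ fun j => (hG j).symm
  have hz : ∀ i, b.app d.U.1 (d.g i) = 0 := d.hb.app_eq_zero
  have eA : ha'.lam φA = (((H.map (b.app U.1)).map (a.app (b ⁻¹ᵁ U.1))).det • d.ha.lam φA : Γ(LA, a ⁻¹ᵁ (b ⁻¹ᵁ U.1))) := by
    refine d.ha.lam_matrix φA ha' (H.map (b.app U.1)) fun j => ?_
    rw [← hQ j, map_sum, ← σ.sum_comp, Fintype.sum_sum_type]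
    simp only [σ, Equiv.symm_apply_apply, Sum.elim_inl, Sum.elim_inr, map_mul, hz, mul_zero, Finset.sum_const_zero,
      zero_add]
    rfl
  have eAB : hab'.lam φAB = (((M.map ((a ≫ b).app U.1)).det) • d.hab.lam φAB : Γ(LAB, a ⁻¹ᵁ (b ⁻¹ᵁ U.1))) :=
    d.hab.lam_matrix φAB hab' M hM
  have hmap : ∀ {n : ℕ} (N : Matrix (Fin n) (Fin n) Γ(C, U.1)),
      (N.map ((a ≫ b).app U.1)).det = a.app (b ⁻¹ᵁ U.1) (b.app U.1 N.det) := fun N =>
    (RingHom.map_det ((a ≫ b).app U.1).hom N).symm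
  have hmapb : ∀ {n : ℕ} (N : Matrix (Fin n) (Fin n) Γ(C, U.1)), (N.map (b.app U.1)).det = b.app U.1 N.det :=
    fun N => (RingHom.map_det (b.app U.1).hom N).symm
  have hmapa : ∀ {n : ℕ} (N : Matrix (Fin n) (Fin n) Γ(B, b ⁻¹ᵁ U.1)),
      (N.map (a.app (b ⁻¹ᵁ U.1))).det = a.app (b ⁻¹ᵁ U.1) N.det :=
    fun N => (RingHom.map_det (a.app (b ⁻¹ᵁ U.1)).hom N).symm
  refine ⟨a.app (b ⁻¹ᵁ U.1) (b.app U.1 M.det), ?_, ?_⟩
  · show _ • shT (pullSect a LB (b ⁻¹ᵁ U.1) (d.hb.lam φB)) (d.ha.lam φA) =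
      shT (pullSect a LB (b ⁻¹ᵁ U.1) (hb'.lam φB)) (ha'.lam φA)
    rw [eB, eA, OmegaSh.pullSect_smul, AmpleLib.shT_smul, hmapb, hmapa, hmapb, hdet, map_mul, map_mul]
  · rw [hmap M] at eAB
    exact eAB.symm

include hA hB in
theorem Pieces.gen₁_res (d d' : Pieces a b c₁ c₂) (hle : d'.U.1 ≤ d.U.1)
    (hg : d'.g = resFam hle d.g) (hh : d'.h = resFam hle d.h) {y : A} (hy : b (a y) ∈ d'.U.1) :
    ProjFormLib.ger (CohB1.tensorMod ((Scheme.Modules.pullback a).obj LB) LA) y (U := a ⁻¹ᵁ (b ⁻¹ᵁ d'.U.1)) hy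
      (d'.gen₁ φA φB) =
    ProjFormLib.ger (CohB1.tensorMod ((Scheme.Modules.pullback a).obj LB) LA) y (U := a ⁻¹ᵁ (b ⁻¹ᵁ d.U.1))
      (hle hy) (d.gen₁ φA φB) := by
  have hle' : b ⁻¹ᵁ d'.U.1 ≤ b ⁻¹ᵁ d.U.1 := b.preimage_mono hle
  have e1 : LB.presheaf.map (homOfLE hle').op (d.hb.lam φB) = d'.hb.lam φB := by
    refine (DetDegLib.wsec_res φB hB (preA d.U b) (preA d'.U b) hle' d.hb.eU).trans ?_
    refine congrArg (DetDegLib.wsec φB (preA d'.U b)) (funext fun j => ?_)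
    refine (OmegaSh.pullSect_map b _ hle _).symm.trans (congrArg (OmegaSh.conormalSect b d'.U.1) ?_)
    refine ConormalSecLib.idealSect_injective b d'.U.1 ?_
    rw [ConormalSecLib.idealSect_map, d.hb.idealSect_lifts, d'.hb.idealSect_lifts, hg]
  have e2 : LA.presheaf.map (homOfLE (a.preimage_mono hle')).op (d.ha.lam φA) = d'.ha.lam φA := by
    refine (DetDegLib.wsec_res φA hA (preA (preA d.U b) a) (preA (preA d'.U b) a) (a.preimage_mono hle') d.ha.eU).trans ?_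
    refine congrArg (DetDegLib.wsec φA (preA (preA d'.U b) a)) (funext fun j => ?_)
    refine (OmegaSh.pullSect_map a _ hle' _).symm.trans (congrArg (OmegaSh.conormalSect a (preA d'.U b).1) ?_)
    refine ConormalSecLib.idealSect_injective a (b ⁻¹ᵁ d'.U.1) ?_
    rw [ConormalSecLib.idealSect_map, d.ha.idealSect_lifts, d'.ha.idealSect_lifts, hh]
    exact (congr($(b.naturality (homOfLE hle).op) (d.h j))).symm
  have e : AmpleLib.res (CohB1.tensorMod ((Scheme.Modules.pullback a).obj LB) LA) (a.preimage_mono hle')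
      (d.gen₁ φA φB) = d'.gen₁ φA φB := by
    refine (AmpleLib.shT_res (a.preimage_mono hle') _ _).trans ?_
    exact congrArg₂ shT ((OmegaSh.pullSect_map a LB hle' _).symm.trans (congrArg (pullSect a LB _) e1)) e2
  rw [← e]
  exact ProjFormLib.ger_res _ (a.preimage_mono hle') y hy _

include hAB in
theorem Pieces.gen₂_res (d d' : Pieces a b c₁ c₂) (hle : d'.U.1 ≤ d.U.1)
    (hg : d'.g = resFam hle d.g) (hh : d'.h = resFam hle d.h) {y : A} (hy : b (a y) ∈ d'.U.1) :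
    ProjFormLib.ger LAB y (U := a ⁻¹ᵁ (b ⁻¹ᵁ d'.U.1)) hy (d'.gen₂ φAB) =
    ProjFormLib.ger LAB y (U := a ⁻¹ᵁ (b ⁻¹ᵁ d.U.1)) (hle hy) (d.gen₂ φAB) := by
  have hle' : (a ≫ b) ⁻¹ᵁ d'.U.1 ≤ (a ≫ b) ⁻¹ᵁ d.U.1 := (a ≫ b).preimage_mono hle
  have e : LAB.presheaf.map (homOfLE hle').op (d.hab.lam φAB) = d'.hab.lam φAB := by
    refine (DetDegLib.wsec_res φAB hAB (preA d.U (a ≫ b)) (preA d'.U (a ≫ b)) hle' d.hab.eU).trans ?_
    refine congrArg (DetDegLib.wsec φAB (preA d'.U (a ≫ b))) (funext fun j => ?_)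
    refine (OmegaSh.pullSect_map (a ≫ b) _ hle _).symm.trans (congrArg (OmegaSh.conormalSect (a ≫ b) d'.U.1) ?_)
    refine ConormalSecLib.idealSect_injective (a ≫ b) d'.U.1 ?_
    rw [ConormalSecLib.idealSect_map, d.hab.idealSect_lifts, d'.hab.idealSect_lifts, hg, hh]
    rcases finSumFinEquiv.symm j with k | k <;> rfl
  refine (congrArg (ProjFormLib.ger LAB y (U := a ⁻¹ᵁ (b ⁻¹ᵁ d'.U.1)) hy) e).symm.trans ?_
  exact ProjFormLib.ger_res _ hle' y hy _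

include hAB hA hB in
theorem nonempty_det_comp_of (hcov : ∀ y : A, ∃ d : Pieces a b c₁ c₂, b (a y) ∈ d.U.1) :
    Nonempty (LAB ≅ CohB1.tensorMod ((Scheme.Modules.pullback a).obj LB) LA) := by
  have hg₂ : ∀ d : Pieces a b c₁ c₂, GenOn LAB (d.gen₂ φAB) := fun d =>
    TwistLib.genOn_of_genAt fun w hw => d.hab.genAt_lam φAB hAB hw
  have hg₁ : ∀ d : Pieces a b c₁ c₂, GenOn (CohB1.tensorMod ((Scheme.Modules.pullback a).obj LB) LA) (d.gen₁ φA φB) :=
    fun d => AmpleThLib.shT_genOn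
      (TwistLib.genOn_of_genAt fun w hw => TwistLib.GenAt.puSec a (d.hb.genAt_lam φB hB (z := a w) hw))
      (TwistLib.genOn_of_genAt fun w hw => d.ha.genAt_lam φA hA (z := w) hw)
  refine ⟨(AmpleThLib.exists_iso_gens (fun d : Pieces a b c₁ c₂ => a ⁻¹ᵁ (b ⁻¹ᵁ d.U.1)) (fun d => d.gen₂ φAB)
    (fun d => d.gen₁ φA φB) hcov hg₂ hg₁ ?_).choose⟩
  intro d d' V hV hV'
  obtain ⟨t, ht⟩ := (hg₁ d V hV).2 (AmpleLib.res _ hV' (d'.gen₁ φA φB))
  refine ⟨t, ?_, ht⟩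
  refine ProjFormLib.section_ext _ _ fun y hy => ?_
  obtain ⟨f, f', hff, hyf⟩ := exists_basicOpen_le_affine_inter d.U.2 d'.U.2 (b (a y)) ⟨hV hy, hV' hy⟩
  let W : C.affineOpens := ⟨C.basicOpen f, d.U.2.basicOpen f⟩
  obtain ⟨e, he, hres⟩ := d.exists_res f W rfl
  obtain ⟨e', he', hres'⟩ := d'.exists_res f' W hff
  have hle : e.U.1 ≤ d.U.1 := he ▸ C.basicOpen_le f
  have hle' : e'.U.1 ≤ d'.U.1 := by rw [he']; exact hff.le.trans (C.basicOpen_le f')
  obtain ⟨hg, hh⟩ := hres hle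
  obtain ⟨hg', hh'⟩ := hres' hle'
  obtain ⟨s, hs₁, hs₂⟩ := e.exists_ratio φAB φA φB e' W he he'
  obtain ⟨eU, eg, ehh, ehb, ehab, eha⟩ := e
  obtain ⟨eU', eg', ehh', ehb', ehab', eha'⟩ := e'
  obtain rfl : eU = W := he
  obtain rfl : eU' = ⟨C.basicOpen f, d.U.2.basicOpen f⟩ := he'
  dsimp only at hs₁ hs₂
  let N := CohB1.tensorMod ((Scheme.Modules.pullback a).obj LB) LA
  let O : A.Opens := a ⁻¹ᵁ (b ⁻¹ᵁ C.basicOpen f)
  have hyO : y ∈ O := hyf
  let tt := A.presheaf.germ V y hy t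
  let ss := A.presheaf.germ O y hyO s
  have k1 : ss • ProjFormLib.ger N y (hV hy) (d.gen₁ φA φB) = ProjFormLib.ger N y (hV' hy) (d'.gen₁ φA φB) := by
    rw [← Pieces.gen₁_res φA φB hA hB d _ hle hg hh (y := y) hyf,
      ← Pieces.gen₁_res φA φB hA hB d' _ hle' hg' hh' (y := y) hyf]
    exact (ProjFormLib.ger_smul N (U := O) y hyO s _).symm.trans (congrArg (ProjFormLib.ger N y hyO) hs₁)
  have k2 : ss • ProjFormLib.ger LAB y (hV hy) (d.gen₂ φAB) = ProjFormLib.ger LAB y (hV' hy) (d'.gen₂ φAB) := by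
    rw [← Pieces.gen₂_res φAB hAB d _ hle hg hh (y := y) hyf,
      ← Pieces.gen₂_res φAB hAB d' _ hle' hg' hh' (y := y) hyf]
    exact (ProjFormLib.ger_smul LAB (U := O) y hyO s _).symm.trans (congrArg (ProjFormLib.ger LAB y hyO) hs₂)
  have k3 : tt • ProjFormLib.ger N y (hV hy) (d.gen₁ φA φB) = ProjFormLib.ger N y (hV' hy) (d'.gen₁ φA φB) := by
    have h := congrArg (ProjFormLib.ger N y hy) ht
    rwa [ProjFormLib.ger_smul, AmpleLib.res, AmpleLib.res, ProjFormLib.ger_res _ hV y hy,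
      ProjFormLib.ger_res _ hV' y hy] at h
  have e3 : ss = tt := (AmpleLib.GenOn.genAt (hg₁ d) (hV hy)).1 (k1.trans k3.symm)
  rw [ProjFormLib.ger_smul, AmpleLib.res, AmpleLib.res, ProjFormLib.ger_res _ hV y hy, ProjFormLib.ger_res _ hV' y hy]
  show tt • _ = _
  rw [← e3]
  exact k2

end Gens

/-- **Determinants of conormal sheaves multiply.** -/
theorem nonempty_det_comp {LAB LA : A.Modules} {LB : B.Modules}
    (hAB : ExtPow.IsExtPow (c₁ + c₂) (Omega.conormal (a ≫ b)) LAB) (hA : ExtPow.IsExtPow c₂ (Omega.conormal a) LA)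
    (hB : ExtPow.IsExtPow c₁ (Omega.conormal b) LB) (hcov : ∀ y : A, ∃ d : Pieces a b c₁ c₂, b (a y) ∈ d.U.1) :
    Nonempty (LAB ≅ CohB1.tensorMod ((Scheme.Modules.pullback a).obj LB) LA) := by
  obtain ⟨φAB, h₁⟩ := hAB
  obtain ⟨φA, h₂⟩ := hA
  obtain ⟨φB, h₃⟩ := hB
  exact nonempty_det_comp_of φAB φA φB h₁ h₂ h₃ hcov

end RegConLib
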