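import Groth.Agent.RegConLib.FundCycle
import Groth.Agent.RegConLib.Genus
import Groth.Agent.RegConLib.Nhd

/-!
# Lengths of the graded pieces along multiples of a divisor
-/

set_option autoImplicit false
set_option linter.style.haveILetI false
set_option linter.unusedSectionVars false
set_option maxHeartbeats 1000000
set_option backward.isDefEq.respectTransparency false
set_option backward.isDefEq.respectTransparency.types false
universe u

open CategoryTheory CategoryTheory.Limits AlgebraicGeometry TopologicalSpace Opposite IsLocalRing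
open KFlatLib (pb)
open VertChiLib (J len χ)

noncomputable section

namespace RegConLib

variable {R : Type u} [CommRing R] [IsDomain R] [IsDiscreteValuationRing R] {X : Over (Spec (CommRingCat.of R))}

/-- The length over `R` of the global sections of a module on a scheme over `R`. -/
def secLen {C : Scheme.{u}} (p : C ⟶ Spec (CommRingCat.of R)) (N : C.Modules) : ℕ∞ :=
  letI := Module.compHom Γ(N, ⊤) (show R →+* Γ(C, ⊤) from Coh.toGlobal p)
  Module.length R Γ(N, ⊤)

theorem secLen_congr {C : Scheme.{u}} (p : C ⟶ Spec (CommRingCat.of R)) {N N' : C.Modules} (e : N ≅ N') :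
    secLen p N = secLen p N' := by
  letI := Module.compHom Γ(N, ⊤) (show R →+* Γ(C, ⊤) from Coh.toGlobal p)
  letI := Module.compHom Γ(N', ⊤) (show R →+* Γ(C, ⊤) from Coh.toGlobal p)
  let E : Γ(N, ⊤) ≃ₗ[R] Γ(N', ⊤) :=
    { AddEquiv.ofBijective (e.hom.app ⊤).hom
        ((ConcreteCategory.isIso_iff_bijective (e.hom.app ⊤)).1 inferInstance) with
      map_smul' := fun r x => QCohLib.app_smul e.hom ⊤ (Coh.toGlobal p r) x }
  exact E.length_eq

/-- Sections of a direct image. -/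
theorem length_push_eq_secLen [IsProper X.hom] {C : Scheme.{u}} (ι : C ⟶ X.left) [IsClosedImmersion ι]
    (N : C.Modules) [Coh.IsQCoh N] :
    Module.length R (Coh.HH X.left ((Coh.push ι).obj N) 0) = secLen (ι ≫ X.hom) N := by
  letI := Module.compHom (Coh.HH C N 0) (Coh.toGlobal (ι ≫ X.hom))
  letI := Module.compHom Γ(N, ⊤) (show R →+* Γ(C, ⊤) from Coh.toGlobal (ι ≫ X.hom))
  obtain ⟨e⟩ := PushLinLib.nonempty_HH_push_linear (q := X.hom) ι N rfl 0
  let E : Coh.HH C N 0 ≃ₗ[R] Γ(N, ⊤) :=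
    { (show Coh.HH C N 0 ≃+ Γ(N, ⊤) from DegPullLib.e0 N) with
      map_smul' := fun r x => DegPullLib.e0_smul N _ x }
  exact e.length_eq.symm.trans E.length_eq

variable (hX : ArSurf.IsArithSurface R X) {r : ℕ} (Γ : Fin r → ArSurf.VertComp R X)
  (hΓ : Function.Injective fun i => Set.range ((Γ i).ι.base : (Γ i).curve.left → X.left))
  (L : Fin r → X.left.Modules) (hL : ∀ j, ClSub.IsInverseOf (L j) (ClSub.idealMod (Γ j).ι.ker))
  (hb1 : ∀ a : Fin r → ℕ, a ≠ 0 →
    Subsingleton (Coh.HH (J Γ a).subscheme (Coh.structureModule (J Γ a).subscheme) 1))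

/-- The self-intersection of a divisor. -/
def selfInt (a : Fin r → ℕ) : ℤ :=
  (Finset.univ : Finset (Fin r × Fin r)).sum (fun p => (a p.1 : ℤ) * (a p.2 : ℤ) * ArSurf.inter R X (L p.2) (Γ p.1))

theorem selfInt_eq (a : Fin r → ℕ) :
    selfInt Γ L a = ∑ i, (a i : ℤ) * ∑ j, (a j : ℤ) * ArSurf.inter R X (L j) (Γ i) := by
  rw [selfInt, Fintype.sum_prod_type]
  exact Finset.sum_congr rfl fun i _ => by rw [Finset.mul_sum]; exact Finset.sum_congr rfl fun j _ => mul_assoc _ _ _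

include hX hb1 in
/-- `χ` is the length of `H⁰` on the divisors. -/
theorem χ_eq_len0 [IsProper X.hom] (a : Fin r → ℕ) (ha : a ≠ 0) :
    Subsingleton (Coh.HH X.left (ClSub.quotMod (J Γ a)) 1) ∧
      χ R (ClSub.quotMod (J Γ a)) = (len R (ClSub.quotMod (J Γ a)) 0 : ℤ) ∧
      Module.length R (Coh.HH X.left (ClSub.quotMod (J Γ a)) 0) = (len R (ClSub.quotMod (J Γ a)) 0 : ℕ∞) := by
  obtain ⟨hreg, hint, hdim, hflat, -⟩ := hX
  haveI := hint
  haveI := hflat
  haveI : IsLocallyNoetherian X.left := LocallyOfFiniteType.isLocallyNoetherian X.hom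
  have hC : ∀ i, BlowUp.IsEffCartierIdeal (Γ i).ι.ker := fun i =>
    VertIntLib.isEffCartier_ker hreg (Γ i) (VertIntLib.isFibGen_of_dim hdim.le (Γ i))
  haveI : Coh.IsQCoh (Coh.structureModule (J Γ a).subscheme) := QCohLib.isQCoh_unit
  obtain ⟨E⟩ := QCohLib.nonempty_HH_push (J Γ a).subschemeι (Coh.structureModule (J Γ a).subscheme) 1
  haveI := hb1 a ha
  haveI h1 : Subsingleton (Coh.HH X.left (ClSub.quotMod (J Γ a)) 1) := E.symm.toEquiv.subsingleton
  refine ⟨h1, ?_, (ENat.coe_toNat ((VertChiLib.fin1_J hC a).1 0)).symm⟩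
  have h : len R (ClSub.quotMod (J Γ a)) 1 = 0 := by
    rw [len, Module.length_eq_zero_iff.2 h1]; rfl
  rw [χ, h, Nat.cast_zero, sub_zero]

include hX hΓ hL hb1 in
/-- Sections of the powers of the conormal bundle of a divisor. -/
theorem secLen_conormal_pow [IsProper X.hom] (z : Fin r → ℕ) (hz0 : z ≠ 0) (n : ℕ) (hn : 1 ≤ n)
    (hN1 : Subsingleton (Coh.HH (J Γ z).subscheme (pb (J Γ z).subschemeι (ClSub.idealMod (J Γ fun i => n * z i))) 1))
    (hpos : selfInt Γ L z ≤ 0) :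
    secLen ((J Γ z).subschemeι ≫ X.hom) (pb (J Γ z).subschemeι (ClSub.idealMod (J Γ fun i => n * z i))) =
      ((((n : ℤ) * -selfInt Γ L z).toNat + len R (ClSub.quotMod (J Γ z)) 0 : ℕ) : ℕ∞) := by
  classical
  obtain ⟨ω, hω⟩ := exists_isCanonical hX
  have hX' := hX
  obtain ⟨hreg, hint, hdim, hflat, -⟩ := hX'
  haveI := hint
  haveI := hflat
  haveI : IsLocallyNoetherian X.left := LocallyOfFiniteType.isLocallyNoetherian X.hom
  have hC : ∀ i, BlowUp.IsEffCartierIdeal (Γ i).ι.ker := fun i =>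
    VertIntLib.isEffCartier_ker hreg (Γ i) (VertIntLib.isFibGen_of_dim hdim.le (Γ i))
  let a : Fin r → ℕ := fun i => n * z i
  let a' : Fin r → ℕ := fun i => (n + 1) * z i
  obtain ⟨i₀, hi₀⟩ := Function.ne_iff.1 hz0
  have ha : a ≠ 0 := fun h => hi₀ ((Nat.mul_eq_zero.1 (congrFun h i₀)).resolve_left (by omega))
  have ha' : a' ≠ 0 := fun h => hi₀ ((Nat.mul_eq_zero.1 (congrFun h i₀)).resolve_left (by omega))
  have hJ : J Γ a' = J Γ a * J Γ z := by
    rw [← VertChiLib.J_add]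
    exact congrArg (J Γ) (funext fun i => by simp [a, a', add_mul])
  obtain ⟨S, hS, ⟨e1⟩, ⟨e2⟩, ⟨e3⟩⟩ := SurfAmpleLib.exists_quotSeq (VertChiLib.isEffCartier_J hC a)
    (VertChiLib.isEffCartier_J hC z)
  have hinv := IntMultLib.isInvertible_idealMod _ (VertChiLib.isEffCartier_J hC a)
  let ι := (J Γ z).subschemeι
  let N := pb ι (ClSub.idealMod (J Γ a))
  obtain ⟨p⟩ := NumTrivLib.nonempty_proj ι (Coh.structureModule (J Γ z).subscheme) hinv
  let c : CohB1.tensorMod N (Coh.structureModule (J Γ z).subscheme) ≅ N :=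
    HilbPolyLib.swapIso _ _ ≪≫ HilbPolyLib.unitLeft _
  haveI : Coh.IsQCoh N := (CurvLib.isCoh_of_isInvertible (AmpleDevLib.isInvertible_pb _ hinv)).1
  obtain ⟨q⟩ : Nonempty (CohB1.tensorMod (ClSub.idealMod (J Γ a)) (ClSub.quotMod (J Γ z)) ≅ (Coh.push ι).obj N) :=
    ⟨p ≪≫ (Coh.push ι).mapIso c⟩
  have hX1 : Subsingleton (Coh.HH X.left S.X₁ 1) := by
    obtain ⟨E⟩ := QCohLib.nonempty_HH_push ι N 1
    haveI := hN1
    exact SerreVanLib.subsingleton_HH_of_iso (e1 ≪≫ q) 1 E.symm.toEquiv.subsingleton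
  have hex : Module.length R (Coh.HH X.left S.X₂ 0) =
      Module.length R (Coh.HH X.left S.X₁ 0) + Module.length R (Coh.HH X.left S.X₃ 0) := by
    haveI := hS.mono_f
    refine Module.length_eq_add_of_exact (AtlasCoh.hLin X.hom S.f 0) (AtlasCoh.hLin X.hom S.g 0) ?_
      (LichtLib.surjective_g hS hX1) ?_
    · intro x y hxy
      refine (DegPullLib.e0 S.X₁).injective (QCohLib.app_injective_of_mono S.f ⊤ ?_)
      exact ((VertChiLib.e0_map S.f x).symm.trans (congrArg (DegPullLib.e0 S.X₂) hxy)).trans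
        (VertChiLib.e0_map S.f y)
    · intro y
      refine ⟨fun h => AtlasCoh.hExact₂ (QCohLib.toAbF_shortExact hS) 0 y h, ?_⟩
      rintro ⟨x, rfl⟩
      refine (DegPullLib.e0 S.X₃).injective ?_
      show DegPullLib.e0 S.X₃ (Sheaf.H.map ((QCohLib.toAbF X.left).map S.g) 0
        (Sheaf.H.map ((QCohLib.toAbF X.left).map S.f) 0 x)) = _
      rw [VertChiLib.e0_map, VertChiLib.e0_map, map_zero]
      exact congrArg (fun ψ : S.X₁ ⟶ S.X₃ => ψ.app ⊤ (DegPullLib.e0 S.X₁ x)) S.zero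
  rw [VertChiLib.length_iso (A := R) e2 0, VertChiLib.length_iso (A := R) e3 0,
    VertChiLib.length_iso (A := R) (e1 ≪≫ q) 0, length_push_eq_secLen ι N, ← hJ] at hex
  obtain ⟨-, hχa, hla⟩ := χ_eq_len0 hX Γ hb1 a ha
  obtain ⟨-, hχa', hla'⟩ := χ_eq_len0 hX Γ hb1 a' ha'
  obtain ⟨-, hχz, -⟩ := χ_eq_len0 hX Γ hb1 z hz0
  rw [hla', hla] at hex
  have hne : secLen (ι ≫ X.hom) N ≠ ⊤ := fun h => by
    rw [show secLen (ι ≫ X.hom) N = ⊤ from h, top_add] at hex
    exact ENat.coe_ne_top _ hex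
  rw [← ENat.coe_toNat hne, ← Nat.cast_add, Nat.cast_inj] at hex
  show secLen (ι ≫ X.hom) N = _
  rw [← ENat.coe_toNat hne, Nat.cast_inj]
  -- Euler characteristics
  have hq : ∀ k : ℕ, -2 * χ R (ClSub.quotMod (J Γ fun i => k * z i)) =
      (k : ℤ) * k * selfInt Γ L z + (k : ℤ) * ∑ i, (z i : ℤ) * ArSurf.inter R X ω (Γ i) := fun k => by
    rw [← two_χ_vert hX hΓ L hL ω hω, selfInt_eq, Finset.mul_sum, Finset.mul_sum, ← Finset.sum_add_distrib]
    refine Finset.sum_congr rfl fun i _ => ?_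
    rw [mul_add, Finset.mul_sum, Finset.mul_sum, Finset.mul_sum]
    push_cast
    ring_nf
  have k1 := hq n
  have k2 := hq (n + 1)
  have k3 := hq 1
  rw [show (fun i => 1 * z i) = z from funext fun i => one_mul _] at k3
  rw [hχa] at k1
  rw [hχa'] at k2
  rw [hχz] at k3
  push_cast at k1 k2 k3
  have hex' : (len R (ClSub.quotMod (J Γ a')) 0 : ℤ) = ((secLen (ι ≫ X.hom) N).toNat : ℤ) + len R (ClSub.quotMod (J Γ a)) 0 := by
    exact_mod_cast hex
  have ht : (((n : ℤ) * -selfInt Γ L z).toNat : ℤ) = (n : ℤ) * -selfInt Γ L z :=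
    Int.toNat_of_nonneg (mul_nonneg (Nat.cast_nonneg n) (by linarith))
  have : ((secLen (ι ≫ X.hom) N).toNat : ℤ) =
      (((n : ℤ) * -selfInt Γ L z).toNat : ℤ) + (len R (ClSub.quotMod (J Γ z)) 0 : ℤ) := by
    nlinarith [hex', ht, k1, k2, k3]
  exact_mod_cast this

end RegConLib
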