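import Groth.Agent.VertChiLib.Chain
import Groth.Agent.ContractLib.Artin

/-!
# The fundamental cycle of a connected negative configuration
-/

set_option autoImplicit false
set_option linter.style.haveILetI false
set_option linter.unusedSectionVars false
set_option maxHeartbeats 1000000
set_option backward.isDefEq.respectTransparency false
set_option backward.isDefEq.respectTransparency.types false
universe u

open CategoryTheory CategoryTheory.Limits AlgebraicGeometry TopologicalSpace IsLocalRing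
open VertChiLib (J J_add J_single)

noncomputable section

namespace RegConLib

variable {R : Type u} [CommRing R] [IsDomain R] [IsDiscreteValuationRing R] {X : Over (Spec (CommRingCat.of R))}
  (hX : ArSurf.IsArithSurface R X) {r : ℕ} (Γ : Fin r → ArSurf.VertComp R X)
  (hΓ : Function.Injective fun i => Set.range ((Γ i).ι.base : (Γ i).curve.left → X.left))
  (L : Fin r → X.left.Modules) (hL : ∀ j, ClSub.IsInverseOf (L j) (ClSub.idealMod (Γ j).ι.ker))
  (hconn : _root_.IsConnected (⋃ i, Set.range ((Γ i).ι.base : (Γ i).curve.left → X.left)))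

include hX hΓ hL in
theorem offdiag {i j : Fin r} (hij : i ≠ j) : 0 ≤ ArSurf.inter R X (L j) (Γ i) ∧
    (ArSurf.inter R X (L j) (Γ i) = 0 →
      Disjoint (Set.range ((Γ i).ι.base : (Γ i).curve.left → X.left)) (Set.range ((Γ j).ι.base : (Γ j).curve.left → X.left))) := by
  haveI : IsProper X.hom := VertIntLib.isProper_of_isArithSurface hX
  obtain ⟨hreg, hint, hdim, hflat, -⟩ := hX
  haveI := hint
  haveI := hflat
  have hC := VertIntLib.isEffCartier_ker hreg (Γ j) (VertIntLib.isFibGen_of_dim hdim.le (Γ j))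
  haveI := VertIntLib.isProper_curve (Γ i)
  obtain ⟨h1, h2⟩ := VertIntLib.inter_effective_nonneg (Γ i) hC
    (VertIntLib.genPt_not_mem (Γ i) hdim.le (Γ j) fun e => hij (hΓ e)) (hL j)
  exact ⟨h1, fun h => (h2.1 h).mono_right ((Γ j).ι.range_subset_ker_support)⟩

include hX hΓ hL hconn in
/-- A proper nonempty part of a connected family meets the rest. -/
theorem exists_meet_out (a : Fin r → ℕ) {k₀ i₀ : Fin r} (hk₀ : a k₀ ≠ 0) (hi₀ : a i₀ = 0) :
    ∃ i, a i = 0 ∧ 0 < ∑ j, (a j : ℤ) * ArSurf.inter R X (L j) (Γ i) := by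
  classical
  let S : Fin r → Set X.left := fun i => Set.range ((Γ i).ι.base : (Γ i).curve.left → X.left)
  have hcl : ∀ i, IsClosed (S i) := fun i => (Γ i).ι.isClosedEmbedding.isClosed_range
  obtain ⟨x, -, hx1, hx2⟩ := isPreconnected_closed_iff.1 hconn.isPreconnected
    (⋃ i ∈ Finset.univ.filter (fun i => a i ≠ 0), S i) (⋃ i ∈ Finset.univ.filter (fun i => a i = 0), S i)
    (isClosed_biUnion_finset fun i _ => hcl i) (isClosed_biUnion_finset fun i _ => hcl i)
    (fun x hx => by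
      obtain ⟨i, hi⟩ := Set.mem_iUnion.1 hx
      rcases eq_or_ne (a i) 0 with h | h
      · exact Or.inr (Set.mem_iUnion₂.2 ⟨i, by simp [h], hi⟩)
      · exact Or.inl (Set.mem_iUnion₂.2 ⟨i, by simp [h], hi⟩))
    (by
      obtain ⟨z⟩ : Nonempty (Γ k₀).curve.left := inferInstance
      exact ⟨_, Set.mem_iUnion.2 ⟨k₀, z, rfl⟩, Set.mem_iUnion₂.2 ⟨k₀, by simp [hk₀], z, rfl⟩⟩)
    (by
      obtain ⟨z⟩ : Nonempty (Γ i₀).curve.left := inferInstance
      exact ⟨_, Set.mem_iUnion.2 ⟨i₀, z, rfl⟩, Set.mem_iUnion₂.2 ⟨i₀, by simp [hi₀], z, rfl⟩⟩)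
  obtain ⟨k, hk, hxk⟩ := Set.mem_iUnion₂.1 hx1
  obtain ⟨i, hi, hxi⟩ := Set.mem_iUnion₂.1 hx2
  simp only [Finset.mem_filter, Finset.mem_univ, true_and] at hk hi
  refine ⟨i, hi, Finset.sum_pos' (fun j _ => ?_) ⟨k, Finset.mem_univ k, ?_⟩⟩
  · rcases eq_or_ne i j with rfl | hij
    · simp [hi]
    · exact mul_nonneg (Nat.cast_nonneg _) (offdiag hX Γ hΓ L hL hij).1
  · have hik : i ≠ k := fun e => hk (e ▸ hi)
    obtain ⟨h1, h2⟩ := offdiag hX Γ hΓ L hL hik
    exact mul_pos (by omega) (lt_of_le_of_ne h1 fun h => Set.disjoint_left.1 (h2 h.symm) hxi hxk)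

include hX hΓ hL hconn in
/-- Computation sequences: a property passed along positive steps from a single curve reaches the fundamental
cycle. -/
theorem fundamental_induction (z : Fin r → ℕ) (hz1 : ∀ i, 1 ≤ z i)
    (hz : ∀ i, ∑ j, (z j : ℤ) * ArSurf.inter R X (L j) (Γ i) ≤ 0)
    (hmin : ∀ z' : Fin r → ℕ, (∀ i, 1 ≤ z' i) → (∀ i, ∑ j, (z' j : ℤ) * ArSurf.inter R X (L j) (Γ i) ≤ 0) →
      ∀ i, z i ≤ z' i)
    (P : (Fin r → ℕ) → Prop) (h0 : ∀ i, P (Pi.single i 1))
    (hstep : ∀ a i, P a → a ≤ z → 0 < ∑ j, (a j : ℤ) * ArSurf.inter R X (L j) (Γ i) → P (a + Pi.single i 1)) :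
    P z := by
  classical
  obtain ⟨x, hx⟩ := hconn.nonempty
  obtain ⟨i₀, -⟩ := Set.mem_iUnion.1 hx
  suffices H : ∀ (m : ℕ) (a : Fin r → ℕ), ∑ j, (z j - a j) = m → a ≤ z → a ≠ 0 → P a → P z by
    refine H _ (Pi.single i₀ 1) rfl (fun j => ?_) (fun h => by simpa using congrFun h i₀) (h0 i₀)
    rcases eq_or_ne j i₀ with rfl | hj
    · simpa using hz1 j
    · simp [hj]
  intro m
  induction m using Nat.strong_induction_on with
  | _ m ih =>
    intro a hm hle ha hP
    by_cases hex : ∃ i, 0 < ∑ j, (a j : ℤ) * ArSurf.inter R X (L j) (Γ i)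
    · obtain ⟨i, hi⟩ := hex
      have hlt : a i < z i := by
        refine lt_of_le_of_ne (hle i) fun he => absurd (hz i) (not_le.2 (lt_of_lt_of_le hi ?_))
        refine Finset.sum_le_sum fun j _ => ?_
        rcases eq_or_ne i j with rfl | hij
        · rw [he]
        · exact mul_le_mul_of_nonneg_right (by exact_mod_cast hle j) (offdiag hX Γ hΓ L hL hij).1
      exact ih _ (hm ▸ VertChiLib.sum_sub_add_single hlt) _ rfl (VertChiLib.add_single_le hle hlt)
        (fun h => by simpa using congrFun h i) (hstep a i hP hle hi)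
    · push_neg at hex
      obtain ⟨k₀, hk₀⟩ := Function.ne_iff.1 ha
      have h1 : ∀ i, 1 ≤ a i := fun i => by
        by_contra hi
        obtain ⟨i', -, hi'⟩ := exists_meet_out hX Γ hΓ L hL hconn a hk₀ (show a i = 0 by omega)
        exact absurd (hex i') (not_le.2 hi')
      rwa [show z = a from funext fun i => le_antisymm (hmin a h1 hex i) (hle i)]

include hX hΓ hL hconn in
/-- The functions on the fundamental cycle form a field. -/
theorem isField_fundamental (z : Fin r → ℕ) (hz1 : ∀ i, 1 ≤ z i)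
    (hz : ∀ i, ∑ j, (z j : ℤ) * ArSurf.inter R X (L j) (Γ i) ≤ 0)
    (hmin : ∀ z' : Fin r → ℕ, (∀ i, 1 ≤ z' i) → (∀ i, ∑ j, (z' j : ℤ) * ArSurf.inter R X (L j) (Γ i) ≤ 0) →
      ∀ i, z i ≤ z' i) : IsField Γ((J Γ z).subscheme, ⊤) := by
  classical
  haveI : IsProper X.hom := VertIntLib.isProper_of_isArithSurface hX
  have hX' := hX
  obtain ⟨hreg, hint, hdim, hflat, -⟩ := hX'
  haveI := hint
  haveI := hflat
  haveI : IsLocallyNoetherian X.left := LocallyOfFiniteType.isLocallyNoetherian X.hom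
  have hC : ∀ i, BlowUp.IsEffCartierIdeal (Γ i).ι.ker := fun i =>
    VertIntLib.isEffCartier_ker hreg (Γ i) (VertIntLib.isFibGen_of_dim hdim.le (Γ i))
  refine fundamental_induction hX Γ hΓ L hL hconn z hz1 hz hmin (fun a => IsField Γ((J Γ a).subscheme, ⊤))
    (fun i => ?_) fun a i hK _ hpos => ?_
  · have h := VertChiLib.fin1_J hC (Pi.single i 1)
    rw [J_single] at h ⊢
    exact VertChiLib.isField_curve (Γ i) h
  · have e : J Γ (a + Pi.single i 1) = J Γ a * (Γ i).ι.ker := by rw [J_add, J_single]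
    show IsField Γ((J Γ (a + Pi.single i 1)).subscheme, ⊤)
    rw [e]
    refine VertChiLib.isField_step (Γ i) (VertChiLib.isEffCartier_J hC a) (hC i) ?_ hK (e ▸ VertChiLib.fin1_J hC _)
    rw [VertChiLib.dId_J (Γ i) hC a]
    have h : ∀ j, (a j : ℤ) * VertIntLib.dId (Γ i) (Γ j).ι.ker = -((a j : ℤ) * ArSurf.inter R X (L j) (Γ i)) :=
      fun j => by rw [VertIntLib.inter_eq_neg (Γ i) (hC j) (hL j)]; ring
    rw [Finset.sum_congr rfl fun j _ => h j, Finset.sum_neg_distrib]
    linarith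

end RegConLib
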