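import Groth.Agent.RegConLib.ConfigNef
import Groth.Agent.RegConLib.FundCycle
import Groth.Agent.RegConLib.Nhd
import Groth.Agent.RegConLib.Contract

/-!
# Vanishing near a negative configuration without `H¹(O)`
-/

set_option autoImplicit false
set_option linter.style.haveILetI false
set_option linter.unusedSectionVars false
set_option maxHeartbeats 1000000
set_option backward.isDefEq.respectTransparency false
set_option backward.isDefEq.respectTransparency.types false
universe u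

open CategoryTheory CategoryTheory.Limits AlgebraicGeometry TopologicalSpace Opposite IsLocalRing
open AmpleLib AmpleThLib
open TwistLib (genSet)
open KFlatLib (pb puSec)
open HilbPolyLib (assocIso congrLeft congrRight swapIso unitLeft)
open CubeConsLib (cl cl_eq_iff)
open VertChiLib (J)

noncomputable section

namespace RegConLib

/-- A closed subscheme inside an open, and its ideal there. -/
theorem exists_lift_ideal {X C : Scheme.{u}} (ι : C ⟶ X) [IsClosedImmersion ι] (U : X.Opens)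
    (h : Set.range ι ⊆ (U : Set X)) :
    ∃ j : C ⟶ U, IsClosedImmersion j ∧ j ≫ U.ι = ι ∧
      Nonempty (pb U.ι (ClSub.idealMod ι.ker) ≅ ClSub.idealMod j.ker) := by
  let j : C ⟶ U := IsOpenImmersion.lift U.ι ι (by rw [Scheme.Opens.range_ι]; exact h)
  have hj : j ≫ U.ι = ι := IsOpenImmersion.lift_fac _ _ _
  haveI : IsClosedImmersion (j ≫ U.ι) := by rw [hj]; infer_instance
  haveI : IsClosedImmersion j := IsClosedImmersion.of_comp j U.ι
  have hker : ι.ker.comap U.ι = j.ker := by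
    have sq : IsPullback j (𝟙 C) U.ι ι := IsPullback.of_vert_isIso_mono ⟨by rw [hj, Category.id_comp]⟩
    rw [← Scheme.IdealSheafData.ker_fst_of_isClosedImmersion ι U.ι, ← sq.isoPullback_hom_fst]
    exact (Scheme.Hom.ker_comp_of_isIso _ _).symm
  haveI : Mono (PicH1Lib.toComap U.ι ι.ker) := mono_of_mono_fac (PicH1Lib.toComap_ι U.ι ι.ker)
  haveI := SymSqLib.epi_toComap U.ι ι.ker
  haveI : IsIso (PicH1Lib.toComap U.ι ι.ker) := isIso_of_mono_of_epi _
  exact ⟨j, inferInstance, hj, ⟨asIso (PicH1Lib.toComap U.ι ι.ker) ≪≫ eqToIso (congrArg ClSub.idealMod hker)⟩⟩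

variable {R : Type u} [CommRing R] [IsDomain R] [IsDiscreteValuationRing R] {X : Over (Spec (CommRingCat.of R))}
  (hX : ArSurf.IsArithSurface R X) {r : ℕ} (Γ : Fin r → ArSurf.VertComp R X)
  (hΓ : Function.Injective fun i => Set.range ((Γ i).ι.base : (Γ i).curve.left → X.left))
  (L : Fin r → X.left.Modules) (hL : ∀ j, ClSub.IsInverseOf (L j) (ClSub.idealMod (Γ j).ι.ker))
  (hneg : ∀ c : Fin r → ℤ, c ≠ 0 →
    (Finset.univ : Finset (Fin r × Fin r)).sum (fun p => c p.1 * c p.2 * ArSurf.inter R X (L p.2) (Γ p.1)) < 0)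
  (hb : ∀ a : Fin r → ℕ, a ≠ 0 →
    Subsingleton (Coh.HH (J Γ a).subscheme (Coh.structureModule (J Γ a).subscheme) 1) ∧
    ∀ N : ((J Γ a).subscheme).Modules, PicF.IsInvertible N →
      (∀ (i : Fin r) (g : (Γ i).curve.left ⟶ (J Γ a).subscheme), g ≫ (J Γ a).subschemeι = (Γ i).ι →
        ArSurf.curveDeg (ResidueField R) (Γ i).curve.left ((Scheme.Modules.pullback g).obj N) = 0) →
      Nonempty (N ≅ Coh.structureModule (J Γ a).subscheme))

include hX hΓ hL hneg in
/-- A positive combination negative on every curve, proportional to a given nonnegative vector. -/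
theorem exists_negative_vector (v : Fin r → ℤ) (hv : ∀ i, 0 < v i) :
    ∃ (a : Fin r → ℕ) (K : ℕ), 0 < K ∧ (∀ i, 1 ≤ a i) ∧
      ∀ i, ∑ j, (a j : ℤ) * ArSurf.inter R X (L j) (Γ i) = -((K : ℤ) * v i) := by
  classical
  obtain ⟨a, K, hK, haK⟩ := ContractLib.exists_natural_solution (Matrix.of fun i j => ArSurf.inter R X (L j) (Γ i))
    (fun c hc => by
      refine lt_of_eq_of_lt ?_ (hneg c hc)
      simp only [dotProduct, Matrix.mulVec, Matrix.of_apply, Finset.mul_sum]
      rw [← Finset.univ_product_univ, Finset.sum_product]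
      exact Finset.sum_congr rfl fun i _ => Finset.sum_congr rfl fun j _ => by ring)
    (fun i j hij => (offdiag hX Γ hΓ L hL hij).1) v (fun i => (hv i).le)
  have h' : ∀ i, ∑ j, (a j : ℤ) * ArSurf.inter R X (L j) (Γ i) = -((K : ℤ) * v i) := fun i => by
    have h := haK i
    simp only [Matrix.of_apply] at h
    exact h
  refine ⟨a, K, hK, fun i => ?_, h'⟩
  by_contra hi
  have h := h' i
  have : 0 ≤ ∑ j, (a j : ℤ) * ArSurf.inter R X (L j) (Γ i) := Finset.sum_nonneg fun j _ => by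
    rcases eq_or_ne j i with rfl | hj
    · rw [show a j = 0 by omega, Nat.cast_zero, zero_mul]
    · exact mul_nonneg (Nat.cast_nonneg _) (offdiag hX Γ hΓ L hL hj.symm).1
  rw [h] at this
  have h1 : 0 < (K : ℤ) * v i := mul_pos (by exact_mod_cast hK) (hv i)
  omega

include hX hΓ hL hneg hb in
/-- An ideal of a thickening agrees near the configuration with an ample module. -/
theorem exists_nhd_config [hr : Nonempty (Fin r)] : ∃ (W : X.left.Opens) (H : X.left.Modules) (b : Fin r → ℕ),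
    (∀ i, Set.range (Γ i).ι ⊆ (W : Set X.left)) ∧ (∀ i, 1 ≤ b i) ∧ PicF.IsInvertible H ∧ CohB1.IsAmple H ∧
      Nonempty (pb W.ι (ClSub.idealMod (J Γ b)) ≅ pb W.ι H) := by
  classical
  have hX' := hX
  haveI : IsProper X.hom := VertIntLib.isProper_of_isArithSurface hX
  obtain ⟨hreg, hint, hdim, hflat, N₀, i₀, hi₀, hiX⟩ := hX'
  haveI := hint
  haveI := hflat
  haveI := hi₀
  haveI : IsLocallyNoetherian X.left := LocallyOfFiniteType.isLocallyNoetherian X.hom
  haveI : CompactSpace X.left := QuasiCompact.compactSpace_of_compactSpace X.hom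
  haveI : X.left.IsSeparated := Scheme.IsSeparated.mk (by
    rw [terminal.hom_ext (terminal.from X.left) (X.hom ≫ terminal.from _)]
    infer_instance)
  haveI hEp : ∀ E : ArSurf.VertComp R X, IsProper (E.curve.left ↘ Spec (CommRingCat.of (ResidueField R))) :=
    fun E => VertIntLib.isProper_curve E
  have hC : ∀ i, BlowUp.IsEffCartierIdeal (Γ i).ι.ker := fun i =>
    VertIntLib.isEffCartier_ker hreg (Γ i) (VertIntLib.isFibGen_of_dim hdim.le (Γ i))
  let H : X.left.Modules := pb i₀ (Twist.twistOver N₀ (Spec (CommRingCat.of R)) 1)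
  have hHi : PicF.IsInvertible H := AmpleDevLib.isInvertible_pb _ (PicPnLib.twistOver_inv N₀ _ 1)
  have hHA : CohB1.IsAmple H :=
    AmpleThLib.isAmple_of_isRelVeryAmplePn X.hom hHi ⟨N₀, i₀, inferInstance, hiX, ⟨Iso.refl _⟩⟩
  have hHpos : ∀ i, 0 < ArSurf.inter R X H (Γ i) := fun i => by
    rw [VertIntLib.inter_eq_deg]
    exact SerreVanLib.deg_pos_of_isAmple (k := ResidueField R) (Γ i).dim_eq
      (AmpleDevLib.isAmple_pb (f := (Γ i).ι) hHi hHA)
  obtain ⟨a, K, hK, ha1, haK⟩ := exists_negative_vector hX Γ hΓ L hL hneg _ hHpos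
  obtain ⟨n₁, hn₁⟩ := SerreVanLib.exists_vanishing X.hom hHi hHA (Coh.structureModule X.left)
    (DevissLib.isCoh_structureModule _)
  let c := n₁ + 1
  let n := K * c
  let b : Fin r → ℕ := fun j => c * a j
  have hb1 : ∀ j, 1 ≤ b j := fun j => Nat.one_le_iff_ne_zero.2 (Nat.mul_ne_zero (Nat.succ_ne_zero _) (by have := ha1 j; omega))
  have hb0 : b ≠ 0 := fun h => by
    obtain ⟨i⟩ := hr
    have := hb1 i
    rw [congrFun h i] at this
    exact absurd this (by simp)
  let I := J Γ b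
  have hI : BlowUp.IsEffCartierIdeal I := VertChiLib.isEffCartier_J hC b
  obtain ⟨LZ, hLZ⟩ := VertIntLib.exists_inverse (IntMultLib.isInvertible_idealMod _ hI)
  have hLZi : PicF.IsInvertible LZ := VertIntLib.isInvertible_inverse hI hLZ
  let P := CohB1.tensorPow H n
  have hP : PicF.IsInvertible P := AmpleThLib.tensorPow_isInvertible hHi n
  have hF : PicF.IsInvertible (CohB1.tensorMod P LZ) := shT_isInvertible hP hLZi
  have hzero : ∀ i, ArSurf.inter R X (CohB1.tensorMod P LZ) (Γ i) = 0 := fun i => by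
    rw [VertIntLib.inter_tensor hP hLZi, (VertIntLib.pow_spec hHi (Γ i) n).2, VertIntLib.inter_eq_neg (Γ i) hI hLZ,
      VertChiLib.dId_J (Γ i) hC b, ← Finset.sum_neg_distrib]
    rw [Finset.sum_congr rfl fun j _ => show -((b j : ℤ) * VertIntLib.dId (Γ i) (Γ j).ι.ker) =
      (b j : ℤ) * ArSurf.inter R X (L j) (Γ i) by rw [VertIntLib.inter_eq_neg (Γ i) (hC j) (hL j), mul_neg]]
    have h' : ∑ j, (b j : ℤ) * ArSurf.inter R X (L j) (Γ i) = (c : ℤ) * ∑ j, (a j : ℤ) * ArSurf.inter R X (L j) (Γ i) := by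
      rw [Finset.mul_sum]
      exact Finset.sum_congr rfl fun j _ => by simp [b, mul_assoc]
    rw [h', haK]
    simp only [n]
    push_cast
    ring
  obtain ⟨eI⟩ : Nonempty (pb I.subschemeι (CohB1.tensorMod P LZ) ≅ Coh.structureModule I.subscheme) := by
    refine (hb b hb0).2 _ (AmpleDevLib.isInvertible_pb _ hF) fun i g hg => ?_
    refine Eq.trans ?_ (hzero i)
    have hd : topologicalKrullDim (Γ i).curve.left ≤ ((1 : ℕ) : WithBot ℕ∞) := (Γ i).dim_eq.le
    rw [ArSurf.inter, ArSurf.curveDeg, ArSurf.curveDeg,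
      HilbPolyLib.eulerCharLE_eq (k := ResidueField R) hd,
      HilbPolyLib.eulerCharLE_eq (k := ResidueField R) hd,
      HilbPolyLib.eulerCharLE_eq (k := ResidueField R) hd]
    exact congrArg (· - _) (CurvLib.euler_congr (k := ResidueField R)
      ((Scheme.Modules.pullbackComp g I.subschemeι).app _ ≪≫ (Scheme.Modules.pullbackCongr hg).app _))
  obtain ⟨φ⟩ := hLZ
  obtain ⟨T, hT, ⟨e₁⟩, ⟨e₂⟩, ⟨e₃⟩⟩ := HdgLefLib.exists_restrict_seq I
    (AmpleDevLib.isFinLocFree_of_isInvertible hF)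
  let e₁' : T.X₁ ≅ P := e₁ ≪≫ assocIso _ _ _ ≪≫ congrRight _ φ ≪≫ swapIso _ _ ≪≫ unitLeft _
  let τ : Γ(pb I.subschemeι (CohB1.tensorMod P LZ), ⊤) := eI.inv.app ⊤ (1 : Γ(I.subscheme, ⊤))
  have hcn : n₁ ≤ n := le_trans (Nat.le_succ n₁) (Nat.le_mul_of_pos_left c hK)
  haveI hsub : Subsingleton (Coh.HH X.left P 1) :=
    SerreVanLib.subsingleton_HH_of_iso (unitLeft P).symm 1 (hn₁ n hcn 1 one_pos)
  obtain ⟨σ, hσ⟩ := (EvGGLib.step X.hom hT e₁' e₂ e₃).2 (Function.injective_of_subsingleton _) τ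
  let W : X.left.Opens := genSet hF σ
  refine ⟨W, P, b, fun i x hx => ?_, hb1, hP,
    (AmpleThLib.isAmple_tensorPow_iff hHi (n := n) (Nat.mul_pos hK (Nat.succ_pos _))).1 hHA, ?_⟩
  · obtain ⟨z, rfl⟩ := I.range_subschemeι.ge (Scheme.IdealSheafData.support_antitone
      (ContractLib.J_le Γ b i (hb1 i)) ((Γ i).ι.range_subset_ker_support hx))
    have hτ : z ∈ genSet (AmpleDevLib.isInvertible_pb _ hF) τ :=
      (AmpleThLib.genSet_iso CurvLib.isInvertible_structureModule (AmpleDevLib.isInvertible_pb _ hF) eI.symm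
        (show Γ(Coh.structureModule I.subscheme, ⊤) from (1 : Γ(I.subscheme, ⊤)))).ge
        ((one_genOn (⊤ : I.subscheme.Opens)).genAt trivial)
    exact EvGGLib.mem_genSet_of_image _ hF (AmpleDevLib.isInvertible_pb _ hF) (e₂.inv ≫ T.g ≫ e₃.hom) σ z
      ((congrArg (fun t => z ∈ genSet (AmpleDevLib.isInvertible_pb _ hF) t) hσ).mpr hτ)
  obtain ⟨t⟩ := ContractLib.pull_trivial_of_genSet W.ι hF σ (fun z => z.2)
  exact ⟨(unitLeft _).symm ≪≫ congrLeft t.symm _ ≪≫ (PicPnLib.pullTens W.ι _ _).symm ≪≫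
    (Scheme.Modules.pullback W.ι).mapIso (assocIso _ _ _ ≪≫ congrRight _ φ ≪≫ swapIso _ _ ≪≫ unitLeft _)⟩

include hX hΓ hL hneg hb in
/-- Near the configuration a nef ideal has no `H¹` in all powers and is generated on its divisor. -/
theorem config_vanish {W : X.left.Opens} {H : X.left.Modules} {b : Fin r → ℕ} (hb1 : ∀ i, 1 ≤ b i)
    (hH : PicF.IsInvertible H) (hHA : CohB1.IsAmple H)
    (hWiso : Nonempty (pb W.ι (ClSub.idealMod (J Γ b)) ≅ pb W.ι H))
    (U : X.left.Opens) [IsAffineHom U.ι] (hUW : U ≤ W) (hΓU : ∀ i, Set.range (Γ i).ι ⊆ (U : Set X.left))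
    {A : Type u} [CommRing A] [IsNoetherianRing A] (q : (U : Scheme.{u}) ⟶ Spec (CommRingCat.of A)) [IsProper q]
    (z : Fin r → ℕ) (hz0 : z ≠ 0) (hz : ∀ i, ∑ j, (z j : ℤ) * ArSurf.inter R X (L j) (Γ i) ≤ 0) :
    ∃ j : (J Γ z).subscheme ⟶ (U : Scheme.{u}), IsClosedImmersion j ∧ j ≫ U.ι = (J Γ z).subschemeι ∧
      Nonempty (pb U.ι (ClSub.idealMod (J Γ z)) ≅ ClSub.idealMod j.ker) ∧
      (∀ m : ℕ, Subsingleton (Coh.HH (U : Scheme.{u}) (CohB1.tensorPow (ClSub.idealMod j.ker) m) 1)) ∧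
      Curv2.IsGloballyGenerated (pb j (ClSub.idealMod j.ker)) ∧
      ∀ m : ℕ, Subsingleton (Coh.HH (J Γ z).subscheme (pb j (CohB1.tensorPow (ClSub.idealMod j.ker) m)) 1) := by
  classical
  have hX' := hX
  haveI : IsProper X.hom := VertIntLib.isProper_of_isArithSurface hX
  obtain ⟨hreg, hint, hdim, hflat, -⟩ := hX'
  haveI := hint
  haveI := hflat
  haveI : IsLocallyNoetherian X.left := LocallyOfFiniteType.isLocallyNoetherian X.hom
  haveI hEp : ∀ E : ArSurf.VertComp R X, IsProper (E.curve.left ↘ Spec (CommRingCat.of (ResidueField R))) :=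
    fun E => VertIntLib.isProper_curve E
  have hC : ∀ i, BlowUp.IsEffCartierIdeal (Γ i).ι.ker := fun i =>
    VertIntLib.isEffCartier_ker hreg (Γ i) (VertIntLib.isFibGen_of_dim hdim.le (Γ i))
  have hKi : ∀ a, PicF.IsInvertible (ClSub.idealMod (J Γ a)) := fun a =>
    IntMultLib.isInvertible_idealMod _ (VertChiLib.isEffCartier_J hC a)
  have hlift : ∀ a : Fin r → ℕ, ∃ j : (J Γ a).subscheme ⟶ (U : Scheme.{u}), IsClosedImmersion j ∧
      j ≫ U.ι = (J Γ a).subschemeι ∧ Nonempty (pb U.ι (ClSub.idealMod (J Γ a)) ≅ ClSub.idealMod j.ker) := fun a => by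
    have h := exists_lift_ideal (J Γ a).subschemeι U fun x hx => by
      obtain ⟨k, hk⟩ := ContractLib.mem_support_J Γ a ((J Γ a).range_subschemeι.le hx)
      exact hΓU k hk
    rwa [Scheme.IdealSheafData.ker_subschemeι] at h
  obtain ⟨j, hj, hjι, ⟨ej⟩⟩ := hlift z
  haveI := hj
  let M := ClSub.idealMod j.ker
  have hMi : PicF.IsInvertible M := HilbPolyLib.isInvertible_of_iso ej (AmpleDevLib.isInvertible_pb _ (hKi z))
  -- degrees on divisors
  have hnef : ∀ (a : Fin r → ℕ) (j' : (J Γ a).subscheme ⟶ (U : Scheme.{u})), j' ≫ U.ι = (J Γ a).subschemeι →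
      a ≠ 0 → ∀ m : ℕ, Curv2.IsGloballyGenerated (pb j' (CohB1.tensorPow M m)) ∧
        Subsingleton (Coh.HH (J Γ a).subscheme (pb j' (CohB1.tensorPow M m)) 1) := by
    intro a j' hj' ha m
    refine gg_and_h1_divisor a (hb a ha).1 (AmpleDevLib.isInvertible_pb j' (AmpleThLib.tensorPow_isInvertible hMi m))
      fun i g hg => ?_
    have h : ArSurf.inter R X (CohB1.tensorPow (ClSub.idealMod (J Γ z)) m) (Γ i) =
        Curv2.deg (ResidueField R) (Γ i).curve.left (pb g (pb j' (CohB1.tensorPow M m))) 1 := by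
      rw [VertIntLib.inter_eq_deg]
      obtain ⟨φ, -⟩ := AmpleDevLib.exists_pullPowIso U.ι (hKi z) m
      obtain ⟨ψ⟩ : Nonempty (CohB1.tensorPow (pb U.ι (ClSub.idealMod (J Γ z))) m ≅ CohB1.tensorPow M m) :=
        cl_eq_iff.1 (by rw [VertIntLib.cl_tensorPow, VertIntLib.cl_tensorPow, cl_eq_iff.2 ⟨ej⟩])
      have hcomp : (g ≫ j') ≫ U.ι = (Γ i).ι := by rw [Category.assoc, hj', hg]
      exact CurvLib.deg_congr (((Scheme.Modules.pullbackCongr hcomp).app _).symm ≪≫
        ((Scheme.Modules.pullbackComp (g ≫ j') U.ι).app _).symm ≪≫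
        (Scheme.Modules.pullback (g ≫ j')).mapIso (φ ≪≫ ψ) ≪≫ ((Scheme.Modules.pullbackComp g j').app _).symm) 1
    rw [← h, (VertIntLib.pow_spec (hKi z) (Γ i) m).2, VertIntLib.inter_eq_deg]
    refine mul_nonneg (Nat.cast_nonneg m) ?_
    show 0 ≤ VertIntLib.dId (Γ i) (J Γ z)
    rw [VertChiLib.dId_J (Γ i) hC z]
    have h2 : ∀ k, (z k : ℤ) * VertIntLib.dId (Γ i) (Γ k).ι.ker = -((z k : ℤ) * ArSurf.inter R X (L k) (Γ i)) :=
      fun k => by rw [VertIntLib.inter_eq_neg (Γ i) (hC k) (hL k)]; ring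
    rw [Finset.sum_congr rfl fun k _ => h2 k, Finset.sum_neg_distrib]
    linarith [hz i]
  have hgg1 : Curv2.IsGloballyGenerated (pb j M) :=
    MiscFlat6.isGloballyGenerated_of_iso ((Scheme.Modules.pullback j).mapIso (unitLeft M)) (hnef z j hjι hz0 1).1
  refine ⟨j, hj, hjι, ⟨ej⟩, fun m => ?_, hgg1, fun m => (hnef z j hjι hz0 m).2⟩
  -- a large thickening
  let P := CohB1.tensorPow M m
  have hP : PicF.IsInvertible P := AmpleThLib.tensorPow_isInvertible hMi m
  haveI : IsLocallyNoetherian (U : Scheme.{u}) := LocallyOfFiniteType.isLocallyNoetherian q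
  let Mb := pb U.ι (ClSub.idealMod (J Γ b))
  have hMb : PicF.IsInvertible Mb := AmpleDevLib.isInvertible_pb _ (hKi b)
  have hMbA : CohB1.IsAmple Mb := by
    obtain ⟨e⟩ := hWiso
    let α : pb U.ι H ≅ Mb :=
      ((Scheme.Modules.pullbackCongr (X.left.homOfLE_ι hUW)).app _).symm ≪≫
        ((Scheme.Modules.pullbackComp (X.left.homOfLE hUW) W.ι).app _).symm ≪≫
        (Scheme.Modules.pullback (X.left.homOfLE hUW)).mapIso e.symm ≪≫
        (Scheme.Modules.pullbackComp (X.left.homOfLE hUW) W.ι).app _ ≪≫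
        (Scheme.Modules.pullbackCongr (X.left.homOfLE_ι hUW)).app _
    exact AmpleDevLib.isAmple_of_iso (AmpleDevLib.isInvertible_pb _ hH) hMb α
      (AmpleDevLib.isAmple_pb (f := U.ι) hH hHA)
  obtain ⟨n₀, hn₀⟩ := SerreVanLib.exists_vanishing q hMb hMbA P (CurvLib.isCoh_of_isInvertible hP)
  let s := n₀ + 1
  obtain ⟨i₀, hi₀⟩ := Function.ne_iff.1 hz0
  let a : Fin r → ℕ := fun k => s * b k
  have ha : a ≠ 0 := fun h => by
    have h1 := congrFun h i₀
    have := hb1 i₀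
    simp only [a, Pi.zero_apply, mul_eq_zero] at h1
    omega
  obtain ⟨j', hj', hj'ι, ⟨ej'⟩⟩ := hlift a
  haveI := hj'
  obtain ⟨es⟩ : Nonempty (CohB1.tensorPow (ClSub.idealMod (J Γ b)) s ≅ ClSub.idealMod (J Γ a)) :=
    cl_eq_iff.1 (by
      have h : J Γ a = J Γ b ^ s := by
        simp only [a, J, ← Finset.prod_pow, ← pow_mul, mul_comm s]
      rw [VertIntLib.cl_tensorPow, h]
      exact (VertIntLib.idc_pow (VertChiLib.isEffCartier_J hC b) s).symm)
  obtain ⟨φs, -⟩ := AmpleDevLib.exists_pullPowIso U.ι (hKi b) s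
  let eI : ClSub.idealMod j'.ker ≅ CohB1.tensorPow Mb s :=
    ej'.symm ≪≫ (Scheme.Modules.pullback U.ι).mapIso es.symm ≪≫ φs
  obtain ⟨T, hT, ⟨e₃⟩, e₁, e₂, -⟩ := exists_restrict j' hP
  have h3 : Subsingleton (Coh.HH (U : Scheme.{u}) T.X₃ 1) := by
    refine SerreVanLib.subsingleton_HH_of_iso e₃ 1 ?_
    haveI : Coh.IsQCoh (pb j' P) := (CurvLib.isCoh_of_isInvertible (AmpleDevLib.isInvertible_pb j' hP)).1
    obtain ⟨E⟩ := QCohLib.nonempty_HH_push j' (pb j' P) 1
    haveI := (hnef a j' hj'ι ha m).2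
    exact E.symm.toEquiv.subsingleton
  refine NefH1Lib.h1_iso e₂ (LichtLib.subsingleton_middle hT ?_ h3)
  exact NefH1Lib.h1_iso (e₁ ≪≫ congrRight P eI).symm (hn₀ s (Nat.le_succ _) 1 one_pos)

end RegConLib
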