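import Groth.Agent.RegConLib.Contract

/-!
# Powers of the maximal ideal of a contracted point
-/

set_option autoImplicit false
set_option linter.style.haveILetI false
set_option linter.unusedSectionVars false
set_option maxHeartbeats 1000000
set_option backward.isDefEq.respectTransparency false
set_option backward.isDefEq.respectTransparency.types false
universe u

open CategoryTheory CategoryTheory.Limits AlgebraicGeometry TopologicalSpace Opposite
open AmpleLib (GenAt GenOn res shT)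
open TwistLib (genSet)
open KFlatLib (pb)
open HilbPolyLib (assocIso congrLeft congrRight swapIso unitLeft)

noncomputable section

namespace RegConLib

variable {U C : Scheme.{u}} (j : C ⟶ U) [IsClosedImmersion j]
  {A : Type u} [CommRing A] [IsNoetherianRing A] (q : U ⟶ Spec (CommRingCat.of A)) [IsProper q]
  (hfib : ∀ s : ↥(Spec (CommRingCat.of A)), topologicalKrullDim ↥(q.fiber s) ≤ ((1 : ℕ) : WithBot ℕ∞))
  (hM : PicF.IsInvertible (ClSub.idealMod j.ker))
  (h1U : ∀ m : ℕ, Subsingleton (Coh.HH U (CohB1.tensorPow (ClSub.idealMod j.ker) m) 1))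
  (hggC : Curv2.IsGloballyGenerated (pb j (ClSub.idealMod j.ker)))
  (hsep : ∀ x : U, x ∉ Set.range j → ∃ a : Γ(U, ⊤), j.appTop a = 0 ∧ x ∈ U.basicOpen a)

include h1U hM in
/-- Restriction of sections of the powers of the ideal. -/
theorem exists_restrict_surjective (n : ℕ) :
    ∃ (f : CohB1.tensorMod (CohB1.tensorPow (ClSub.idealMod j.ker) n) (ClSub.idealMod j.ker) ⟶
        CohB1.tensorPow (ClSub.idealMod j.ker) n)
      (φ : CohB1.tensorPow (ClSub.idealMod j.ker) n ⟶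
        (Coh.push j).obj (pb j (CohB1.tensorPow (ClSub.idealMod j.ker) n))),
      Mono f ∧ (∀ a b, f.app ⊤ (shT a b) = (show Γ(U, ⊤) from (ClSub.idealModι j.ker).app ⊤ b) • a) ∧
      (∀ τ : Γ(pb j (CohB1.tensorPow (ClSub.idealMod j.ker) n), ⊤), ∃ u, φ.app ⊤ u = τ) ∧
      ∀ u, φ.app ⊤ u = 0 → ∃ t, f.app ⊤ t = u := by
  let P := CohB1.tensorPow (ClSub.idealMod j.ker) n
  obtain ⟨T, hT, ⟨e₃⟩, e₁, e₂, hmul⟩ := exists_restrict j (AmpleThLib.tensorPow_isInvertible hM n)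
  haveI := hT.mono_f
  have hsurj : ∀ τ : Γ(pb j P, ⊤), ∃ u, (e₂.inv ≫ T.g ≫ e₃.hom).app ⊤ u = τ := by
    refine (EvGGLib.step (A := Γ(U, ⊤)) U.toSpecΓ hT e₁ e₂ e₃).2 fun a b _ => ?_
    have : Subsingleton (Coh.HH U (CohB1.tensorMod P (ClSub.idealMod j.ker)) 1) := h1U (n + 1)
    exact Subsingleton.elim a b
  refine ⟨e₁.inv ≫ T.f ≫ e₂.hom, e₂.inv ≫ T.g ≫ e₃.hom, inferInstance, fun a b => hmul a b, hsurj, fun u hu => ?_⟩
  have h0 : T.g.app ⊤ (e₂.inv.app ⊤ u) = 0 := by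
    have h : e₃.hom.app ⊤ (T.g.app ⊤ (e₂.inv.app ⊤ u)) = 0 := hu
    exact ((ConcreteCategory.isIso_iff_bijective (e₃.hom.app ⊤)).1 inferInstance).1 (h.trans (map_zero _).symm)
  obtain ⟨x, hx⟩ := AtlasCoh.hExact₂ (QCohLib.toAbF_shortExact hT) 0
    ((DegPullLib.e0 T.X₂).symm (e₂.inv.app ⊤ u)) (by
      refine (DegPullLib.e0 _).injective ((NefH1Lib.e0_map T.g _).trans ?_)
      rw [AddEquiv.apply_symm_apply, map_zero]
      exact h0)
  refine ⟨e₁.hom.app ⊤ (DegPullLib.e0 T.X₁ x), ?_⟩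
  show e₂.hom.app ⊤ (T.f.app ⊤ (e₁.inv.app ⊤ (e₁.hom.app ⊤ (DegPullLib.e0 T.X₁ x)))) = u
  rw [show e₁.inv.app ⊤ (e₁.hom.app ⊤ (DegPullLib.e0 T.X₁ x)) = DegPullLib.e0 T.X₁ x from
    congrArg (fun ψ : T.X₁ ⟶ T.X₁ => ψ.app ⊤ (DegPullLib.e0 T.X₁ x)) e₁.hom_inv_id]
  refine (congrArg (e₂.hom.app ⊤) (((NefH1Lib.e0_map T.f x).symm).trans
    ((congrArg (DegPullLib.e0 _) hx).trans (AddEquiv.apply_symm_apply _ _)))).trans ?_
  exact congrArg (fun ψ : P ⟶ P => ψ.app ⊤ u) e₂.inv_hom_id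

include h1U in
/-- Functions restrict surjectively to the divisor. -/
theorem appTop_surjective_of_h1 : Function.Surjective j.appTop.hom := by
  intro c
  have hk : j.ker.subschemeι.ker = j.ker := j.ker.ker_subschemeι
  let l := IsClosedImmersion.lift j.ker.subschemeι j hk.le
  haveI : IsIso l := IsClosedImmersion.isIso_lift j.ker.subschemeι j hk
  have hl : l ≫ j.ker.subschemeι = j := IsClosedImmersion.lift_fac _ _ _
  obtain ⟨c', hc'⟩ := ((ConcreteCategory.isIso_iff_bijective l.appTop).1 inferInstance).2 c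
  have hi : Subsingleton (Coh.HH U (ClSub.idealMod j.ker) 1) :=
    NefH1Lib.h1_iso (unitLeft _) (h1U 1)
  obtain ⟨z, hz⟩ := LichtLib.surjective_g (CurvLib.idealSeq_shortExact j.ker) hi
    ((DegPullLib.e0 (ClSub.quotMod j.ker)).symm c')
  refine ⟨DegPullLib.e0 (Coh.structureModule U) z, ?_⟩
  have h := (NefH1Lib.e0_map (ClSub.toSubscheme j.ker) z).symm.trans
    ((congrArg (DegPullLib.e0 _) hz).trans (AddEquiv.apply_symm_apply _ _))
  rw [← hl, Scheme.Hom.comp_appTop, CommRingCat.comp_apply, ← hc']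
  exact congrArg _ h

include hM h1U hggC hsep in
/-- The ideal is generated by its global sections. -/
theorem gg_ideal : Curv2.IsGloballyGenerated (ClSub.idealMod j.ker) := by
  let M := ClSub.idealMod j.ker
  have hN : PicF.IsInvertible (pb j M) := AmpleDevLib.isInvertible_pb j hM
  obtain ⟨-, φ, -, -, hsurj, -⟩ := exists_restrict_surjective j hM h1U 1
  refine MiscFlat6.isGloballyGenerated_of_genSections hM fun x => ?_
  by_cases hx : x ∈ Set.range j
  · obtain ⟨z, rfl⟩ := hx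
    obtain ⟨τ, hτ⟩ := Groth.Agent.S1611.exists_genAt_of_gg hN hggC z
    obtain ⟨u, hu⟩ := hsurj (((Scheme.Modules.pullback j).map (unitLeft M).inv).app ⊤ τ)
    refine ⟨(unitLeft M).hom.app ⊤ u, EvGGLib.mem_genSet_of_image j hM hN
      ((unitLeft M).inv ≫ φ ≫ (Coh.push j).map ((Scheme.Modules.pullback j).map (unitLeft M).hom)) _ z ?_⟩
    refine (congrArg (fun t => z ∈ genSet hN t) ?_).mpr hτ
    show ((Scheme.Modules.pullback j).map (unitLeft M).hom).app ⊤
      (φ.app ⊤ ((unitLeft M).inv.app ⊤ ((unitLeft M).hom.app ⊤ u))) = τ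
    rw [show (unitLeft M).inv.app ⊤ ((unitLeft M).hom.app ⊤ u) = u from
      congrArg (fun ψ : CohB1.tensorPow M 1 ⟶ CohB1.tensorPow M 1 => ψ.app ⊤ u) (unitLeft M).hom_inv_id, hu]
    exact congrArg (fun ψ : pb j M ⟶ pb j M => ψ.app ⊤ τ)
      (((Scheme.Modules.pullback j).mapIso (unitLeft M).symm).hom_inv_id)
  · obtain ⟨a, ha, hxa⟩ := hsep x hx
    obtain ⟨b, hb⟩ := exists_ideal_section j ha
    exact ⟨b, genAt_of_basicOpen j hM hx b hb hxa⟩

include q hfib hM h1U hggC hsep in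
/-- Sections of the powers of the ideal are the powers of the ideal of functions vanishing on the divisor. -/
theorem exists_pow_sections : ∀ n : ℕ,
    ∃ θ : CohB1.tensorPow (ClSub.idealMod j.ker) n ⟶ Coh.structureModule U, Mono θ ∧
      (∀ u, (show Γ(U, ⊤) from θ.app ⊤ u) ∈ RingHom.ker j.appTop.hom ^ n) ∧
      (∀ a ∈ RingHom.ker j.appTop.hom ^ n, ∃ u, (show Γ(U, ⊤) from θ.app ⊤ u) = a) ∧
      ∀ φf : CohB1.tensorMod (CohB1.tensorPow (ClSub.idealMod j.ker) n) (ClSub.idealMod j.ker) ⟶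
          CohB1.tensorPow (ClSub.idealMod j.ker) n, Mono φf →
        (∀ a b, φf.app ⊤ (shT a b) = (show Γ(U, ⊤) from (ClSub.idealModι j.ker).app ⊤ b) • a) →
        (∀ t, (show Γ(U, ⊤) from θ.app ⊤ (φf.app ⊤ t)) ∈ RingHom.ker j.appTop.hom ^ (n + 1)) ∧
        ∀ a ∈ RingHom.ker j.appTop.hom ^ (n + 1), ∃ t, (show Γ(U, ⊤) from θ.app ⊤ (φf.app ⊤ t)) = a := by
  haveI : IsLocallyNoetherian U := LocallyOfFiniteType.isLocallyNoetherian q
  haveI : CompactSpace U := QuasiCompact.compactSpace_of_compactSpace q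
  haveI : U.IsSeparated := ⟨by rw [← terminal.comp_from q]; infer_instance⟩
  let M := ClSub.idealMod j.ker
  let p := RingHom.ker j.appTop.hom
  have hgg := gg_ideal j hM h1U hggC hsep
  have hvan : ∀ N : U.Modules, Coh.IsQCoh N → Subsingleton (Coh.HH U N 2) := fun N hN =>
    haveI := hN
    FibVanLib.subsingleton_HH_affine q 1 hfib N 2 one_lt_two
  have hO : Subsingleton (Coh.HH U (Coh.structureModule U) 1) := h1U 0
  obtain ⟨m, w, hw⟩ := NefH1Lib.exists_span q (CurvLib.isCoh_of_isInvertible hM)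
  have hspan : ∀ σ : Γ(M, ⊤), ∃ c : Fin (m + 1) → Γ(U, ⊤), σ = ∑ l, c l • w l := fun σ =>
    (hw σ).elim fun c hc => ⟨_, hc⟩
  -- multiplication by the ideal
  have key : ∀ (n : ℕ) (θ : CohB1.tensorPow M n ⟶ Coh.structureModule U),
      (∀ u, (show Γ(U, ⊤) from θ.app ⊤ u) ∈ p ^ n) →
      (∀ a ∈ p ^ n, ∃ u, (show Γ(U, ⊤) from θ.app ⊤ u) = a) →
      ∀ φf : CohB1.tensorMod (CohB1.tensorPow M n) M ⟶ CohB1.tensorPow M n, Mono φf →
        (∀ a b, φf.app ⊤ (shT a b) = (show Γ(U, ⊤) from (ClSub.idealModι j.ker).app ⊤ b) • a) →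
        (∀ t, (show Γ(U, ⊤) from θ.app ⊤ (φf.app ⊤ t)) ∈ p ^ (n + 1)) ∧
        ∀ a ∈ p ^ (n + 1), ∃ t, (show Γ(U, ⊤) from θ.app ⊤ (φf.app ⊤ t)) = a := by
    intro n θ h1 h2 φf _ hφ
    let v : Γ(CohB1.tensorMod (CohB1.tensorPow M n) M, ⊤) →+ Γ(U, ⊤) := ((φf ≫ θ).app ⊤).hom
    have hv : ∀ a b, v (shT a b) =
        (show Γ(U, ⊤) from (ClSub.idealModι j.ker).app ⊤ b) * (show Γ(U, ⊤) from θ.app ⊤ a) := fun a b => by
      show θ.app ⊤ (φf.app ⊤ (shT a b)) = _
      rw [hφ]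
      exact QCohLib.app_smul θ ⊤ _ a
    refine ⟨fun t => ?_, fun a ha => ?_⟩
    · show v t ∈ p ^ (n + 1)
      obtain ⟨s, hs⟩ := NefH1Lib.mul_surjective hvan hO hM hgg w hspan n t
      rw [show t = ∑ l, (shT (s l) (w l) : Γ(CohB1.tensorMod (CohB1.tensorPow M n) M, ⊤)) from hs, map_sum]
      refine Ideal.sum_mem _ fun l _ => ?_
      rw [hv, pow_succ']
      exact Ideal.mul_mem_mul (idealSection_vanish j (w l)) (h1 _)
    · show ∃ t, v t = a
      rw [pow_succ] at ha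
      induction ha using Submodule.mul_induction_on' with
      | mem_mul_mem x hx y hy =>
        obtain ⟨u, hu⟩ := h2 x hx
        obtain ⟨b, hb⟩ := exists_ideal_section j (RingHom.mem_ker.1 hy)
        exact ⟨shT u b, by rw [hv, hu, hb, mul_comm]⟩
      | add x _ y _ hx hy =>
        obtain ⟨t, rfl⟩ := hx
        obtain ⟨t', rfl⟩ := hy
        exact ⟨t + t', map_add v t t'⟩
  intro n
  induction n with
  | zero =>
    have h1 : ∀ u : Γ(CohB1.tensorPow M 0, ⊤),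
        (show Γ(U, ⊤) from (𝟙 (Coh.structureModule U) : _ ⟶ _).app ⊤ u) ∈ p ^ 0 := fun u => by
      rw [pow_zero, Ideal.one_eq_top]; trivial
    have h2 : ∀ a ∈ p ^ 0, ∃ u : Γ(CohB1.tensorPow M 0, ⊤),
        (show Γ(U, ⊤) from (𝟙 (Coh.structureModule U) : _ ⟶ _).app ⊤ u) = a := fun a _ => ⟨a, rfl⟩
    exact ⟨𝟙 _, inferInstanceAs (Mono (𝟙 (Coh.structureModule U))), h1, h2, key 0 _ h1 h2⟩
  | succ n ih =>
    obtain ⟨θ, hθ, -, -, hstep⟩ := ih
    haveI := hθ
    obtain ⟨f, -, hf, hfm, -, -⟩ := exists_restrict_surjective j hM h1U n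
    haveI := hf
    obtain ⟨h1, h2⟩ := hstep f hf hfm
    let θ' : CohB1.tensorPow M (n + 1) ⟶ Coh.structureModule U := f ≫ θ
    exact ⟨θ', inferInstanceAs (Mono (f ≫ θ)), h1, h2, key (n + 1) θ' h1 h2⟩

include q hfib hM h1U hggC hsep in
/-- `p^n / p^(n+1)` is the space of sections of the `n`-th power of the conormal module. -/
theorem exists_graded_map (n : ℕ) :
    ∃ ψ : ↥(RingHom.ker j.appTop.hom ^ n) →+ Γ(pb j (CohB1.tensorPow (ClSub.idealMod j.ker) n), ⊤),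
      Function.Surjective ψ ∧ (∀ x, ψ x = 0 ↔ (x : Γ(U, ⊤)) ∈ RingHom.ker j.appTop.hom ^ (n + 1)) ∧
      ∀ (a : Γ(U, ⊤)) x, ψ (a • x) = j.appTop.hom a • ψ x := by
  obtain ⟨θ, hθ, hmem, hsurjθ, hstep⟩ := exists_pow_sections j q hfib hM h1U hggC hsep n
  haveI := hθ
  obtain ⟨f, φ, hf, hfm, hsurj, hker⟩ := exists_restrict_surjective j hM h1U n
  haveI := hf
  obtain ⟨hin, hout⟩ := hstep f hf hfm
  let p := RingHom.ker j.appTop.hom
  let v : Γ(CohB1.tensorPow (ClSub.idealMod j.ker) n, ⊤) →+ Γ(U, ⊤) := (θ.app ⊤).hom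
  have hvinj : Function.Injective v := QCohLib.app_injective_of_mono θ ⊤
  choose s hs using hsurjθ
  let ψ : ↥(p ^ n) →+ Γ(pb j (CohB1.tensorPow (ClSub.idealMod j.ker) n), ⊤) :=
    { toFun := fun x => φ.app ⊤ (s x.1 x.2)
      map_zero' := (congrArg (φ.app ⊤) (hvinj ((hs _ _).trans (map_zero v).symm))).trans (map_zero _)
      map_add' := fun x y => by
        rw [show s (x + y).1 (x + y).2 = s x.1 x.2 + s y.1 y.2 from
          hvinj (((hs _ _).trans (congrArg₂ (· + ·) (hs x.1 x.2).symm (hs y.1 y.2).symm)).trans (map_add v _ _).symm)]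
        exact map_add _ _ _ }
  refine ⟨ψ, fun τ => ?_, fun x => ⟨fun h => ?_, fun h => ?_⟩, fun a x => ?_⟩
  · obtain ⟨u, rfl⟩ := hsurj τ
    exact ⟨⟨v u, hmem u⟩, congrArg (φ.app ⊤) (hvinj (hs (v u) (hmem u)))⟩
  · obtain ⟨t, ht⟩ := hker _ h
    exact hs x.1 x.2 ▸ ht ▸ hin t
  · show φ.app ⊤ (s x.1 x.2) = 0
    obtain ⟨t, ht⟩ := hout _ h
    rw [← hvinj (ht.trans (hs x.1 x.2).symm)]
    -- the restriction kills multiples of the ideal
    have hz : ∀ t, φ.app ⊤ (f.app ⊤ t) = 0 := fun t => by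
      haveI : IsLocallyNoetherian U := LocallyOfFiniteType.isLocallyNoetherian q
      haveI : CompactSpace U := QuasiCompact.compactSpace_of_compactSpace q
      haveI : U.IsSeparated := ⟨by rw [← terminal.comp_from q]; infer_instance⟩
      obtain ⟨m, w, hw⟩ := NefH1Lib.exists_span q (CurvLib.isCoh_of_isInvertible hM)
      obtain ⟨u, hu⟩ := NefH1Lib.mul_surjective (fun N hN => haveI := hN
          FibVanLib.subsingleton_HH_affine q 1 hfib N 2 one_lt_two) (h1U 0) hM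
        (gg_ideal j hM h1U hggC hsep) w (fun σ => (hw σ).elim fun c hc => ⟨_, hc⟩) n t
      rw [show t = _ from hu, map_sum, map_sum]
      refine Finset.sum_eq_zero fun l _ => ?_
      rw [hfm]
      refine (QCohLib.app_smul φ ⊤ _ (u l)).trans ?_
      show j.appTop (show Γ(U, ⊤) from (ClSub.idealModι j.ker).app ⊤ (w l)) •
        (show Γ(pb j (CohB1.tensorPow (ClSub.idealMod j.ker) n), ⊤) from φ.app ⊤ (u l)) = 0
      rw [idealSection_vanish j (w l)]
      exact zero_smul Γ(C, ⊤) _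
    exact hz t
  · show φ.app ⊤ (s (a • x).1 (a • x).2) = _
    rw [show s (a • x).1 (a • x).2 = a • s x.1 x.2 from
      hvinj ((hs _ _).trans ((congrArg (a * ·) (hs x.1 x.2).symm).trans (QCohLib.app_smul θ ⊤ a _).symm))]
    exact QCohLib.app_smul φ ⊤ a (s x.1 x.2)

end RegConLib
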