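import Groth.Agent.RegConLib.Local
import Groth.Agent.RegConLib.ContractN
import Groth.Agent.RegConLib.ConfigNhd
import Groth.Agent.RegConLib.ConfigLen

/-!
# Artin's formula for the Hilbert–Samuel function at a contracted configuration
-/

set_option autoImplicit false
set_option linter.style.haveILetI false
set_option linter.unusedSectionVars false
set_option maxHeartbeats 1000000
set_option backward.isDefEq.respectTransparency false
set_option backward.isDefEq.respectTransparency.types false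
universe u

open CategoryTheory CategoryTheory.Limits AlgebraicGeometry TopologicalSpace Opposite IsLocalRing
open KFlatLib (pb)
open CubeConsLib (cl cl_eq_iff pull pull_cl pull_comp)
open VertChiLib (J len)

noncomputable section

namespace RegConLib

/-- The cotangent space in lengths. -/
theorem length_cotangent {R S : Type u} [CommRing R] [CommRing S] [IsLocalRing S] [IsNoetherianRing S] [Algebra R S] :
    Module.length R (S ⧸ maximalIdeal S ^ 2) =
      (Module.finrank (ResidueField S) (CotangentSpace S) : ℕ∞) * Module.length R (ResidueField S) +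
        Module.length R (ResidueField S) := by
  let f : CotangentSpace S →ₗ[R] S ⧸ maximalIdeal S ^ 2 :=
    (maximalIdeal S).cotangentToQuotientSquare.restrictScalars R
  let g : S ⧸ maximalIdeal S ^ 2 →ₗ[R] ResidueField S :=
    (Ideal.Quotient.factorₐ R (Ideal.pow_le_self two_ne_zero : maximalIdeal S ^ 2 ≤ maximalIdeal S)).toLinearMap
  have h := Module.length_eq_add_of_exact f g (maximalIdeal S).cotangentToQuotientSquare_injective
    (fun x => by
      obtain ⟨s, rfl⟩ := residue_surjective x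
      exact ⟨Ideal.Quotient.mk _ s, rfl⟩)
    (fun x => by
      obtain ⟨s, rfl⟩ := Ideal.Quotient.mk_surjective x
      refine ⟨fun h => ?_, ?_⟩
      · have hs : s ∈ maximalIdeal S := Ideal.Quotient.eq_zero_iff_mem.1 h
        exact ⟨(maximalIdeal S).toCotangent ⟨s, hs⟩, Ideal.toCotangent_to_quotient_square _ _⟩
      · rintro ⟨c, hc⟩
        obtain ⟨⟨t, ht⟩, rfl⟩ := (maximalIdeal S).toCotangent_surjective c
        rw [← hc]
        show g ((maximalIdeal S).cotangentToQuotientSquare _) = 0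
        rw [Ideal.toCotangent_to_quotient_square]
        exact Ideal.Quotient.eq_zero_iff_mem.2 ht)
  rw [h]
  congr 1
  haveI : IsScalarTower R (ResidueField S) (CotangentSpace S) := IsScalarTower.of_algebraMap_smul fun r x => by
    rw [IsScalarTower.algebraMap_apply R S (ResidueField S), algebraMap_smul, algebraMap_smul]
  let e := (Module.finBasis (ResidueField S) (CotangentSpace S)).equivFun.restrictScalars R
  rw [e.length_eq, Module.length_pi_of_fintype, Finset.sum_const, Finset.card_univ, Fintype.card_fin, nsmul_eq_mul]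

variable {R : Type u} [CommRing R] [IsDomain R] [IsDiscreteValuationRing R] {X : Over (Spec (CommRingCat.of R))}
  (hX : ArSurf.IsArithSurface R X) {r : ℕ} (Γ : Fin r → ArSurf.VertComp R X)
  (hΓ : Function.Injective fun i => Set.range ((Γ i).ι.base : (Γ i).curve.left → X.left))
  (L : Fin r → X.left.Modules) (hL : ∀ j, ClSub.IsInverseOf (L j) (ClSub.idealMod (Γ j).ι.ker))
  (hconn : _root_.IsConnected (⋃ i, Set.range ((Γ i).ι.base : (Γ i).curve.left → X.left)))
  (hneg : ∀ c : Fin r → ℤ, c ≠ 0 →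
    (Finset.univ : Finset (Fin r × Fin r)).sum (fun p => c p.1 * c p.2 * ArSurf.inter R X (L p.2) (Γ p.1)) < 0)
  (hb : ∀ a : Fin r → ℕ, a ≠ 0 →
    Subsingleton (Coh.HH (J Γ a).subscheme (Coh.structureModule (J Γ a).subscheme) 1) ∧
    ∀ N : ((J Γ a).subscheme).Modules, PicF.IsInvertible N →
      (∀ (i : Fin r) (g : (Γ i).curve.left ⟶ (J Γ a).subscheme), g ≫ (J Γ a).subschemeι = (Γ i).ι →
        ArSurf.curveDeg (ResidueField R) (Γ i).curve.left ((Scheme.Modules.pullback g).obj N) = 0) →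
      Nonempty (N ≅ Coh.structureModule (J Γ a).subscheme))

set_option maxHeartbeats 4000000 in
include hX hΓ hL hconn hneg hb in
/-- Artin's theorem at a contracted configuration. -/
theorem exists_hilbert (z : Fin r → ℕ) (hz1 : ∀ i, 1 ≤ z i)
    (hz : ∀ i, ∑ j, (z j : ℤ) * ArSurf.inter R X (L j) (Γ i) ≤ 0)
    (hmin : ∀ z' : Fin r → ℕ, (∀ i, 1 ≤ z' i) → (∀ i, ∑ j, (z' j : ℤ) * ArSurf.inter R X (L j) (Γ i) ≤ 0) →
      ∀ i, z i ≤ z' i)
    {Y : Over (Spec (CommRingCat.of R))} [IsLocallyNoetherian Y.left] [Y.left.IsSeparated]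
    (f : X ⟶ Y) [IsProper f.left] (hbij : ∀ W : Y.left.Opens, Function.Bijective (f.left.app W).hom)
    {y : Y.left} (hy : IsClosed ({y} : Set Y.left))
    (hsat : f.left.base ⁻¹' {y} = ⋃ i, Set.range (Γ i).ι.base)
    (O : Y.left.Opens) (hyO : y ∈ O) (hiso : ∀ V : Y.left.Opens, y ∉ V → V ≤ O → IsIso (f.left ∣_ V)) :
    letI : Algebra R (Y.left.presheaf.stalk y) := (Models.stalkHom R Y y).toAlgebra
    Module.length R (ResidueField (Y.left.presheaf.stalk y)) = (len R (ClSub.quotMod (J Γ z)) 0 : ℕ∞) ∧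
    ∀ n : ℕ, 1 ≤ n →
      Module.length R (Y.left.presheaf.stalk y ⧸ maximalIdeal (Y.left.presheaf.stalk y) ^ (n + 1)) =
        Module.length R (Y.left.presheaf.stalk y ⧸ maximalIdeal (Y.left.presheaf.stalk y) ^ n) +
          ((((n : ℤ) * -selfInt Γ L z).toNat + len R (ClSub.quotMod (J Γ z)) 0 : ℕ) : ℕ∞) := by
  classical
  haveI : IsProper X.hom := VertIntLib.isProper_of_isArithSurface hX
  have hX' := hX
  obtain ⟨hreg, hint, hdim, hflat, -⟩ := hX'
  haveI := hint
  haveI := hflat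
  haveI : IsLocallyNoetherian X.left := LocallyOfFiniteType.isLocallyNoetherian X.hom
  have hC : ∀ i, BlowUp.IsEffCartierIdeal (Γ i).ι.ker := fun i =>
    VertIntLib.isEffCartier_ker hreg (Γ i) (VertIntLib.isFibGen_of_dim hdim.le (Γ i))
  obtain ⟨x₁, hx₁⟩ := hconn.nonempty
  obtain ⟨i₁, hi₁⟩ := Set.mem_iUnion.1 hx₁
  haveI : Nonempty (Fin r) := ⟨i₁⟩
  have hz0 : z ≠ 0 := fun h => by have := hz1 i₁; rw [congrFun h i₁] at this; exact absurd this (by simp)
  have hfield := isField_fundamental hX Γ hΓ L hL hconn z hz1 hz hmin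
  let ι := (J Γ z).subschemeι
  have hιrange : Set.range ι = ⋃ i, Set.range (Γ i).ι.base := by
    refine Set.Subset.antisymm (fun x hx => ?_) (fun x hx => ?_)
    · obtain ⟨k, hk⟩ := ContractLib.mem_support_J Γ z ((J Γ z).range_subschemeι.le hx)
      exact Set.mem_iUnion.2 ⟨k, hk⟩
    · obtain ⟨k, hk⟩ := Set.mem_iUnion.1 hx
      exact (J Γ z).range_subschemeι.ge (Scheme.IdealSheafData.support_antitone
        (ContractLib.J_le Γ z k (hz1 k)) ((Γ k).ι.range_subset_ker_support hk))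
  have hsatι : f.left ⁻¹' {y} = Set.range ι := hsat.trans hιrange.symm
  obtain ⟨W, H, b, hW, hb1, hHi, hHA, hWiso⟩ := exists_nhd_config hX Γ hΓ L hL hneg hb
  -- an affine neighbourhood
  let V₁ : Y.left.Opens := ⟨(f.left '' (W : Set X.left)ᶜ)ᶜ, (f.left.isClosedMap _ W.2.isClosed_compl).isOpen_compl⟩
  have hyV₁ : y ∈ V₁ := by
    rintro ⟨x, hx, hxy⟩
    have : x ∈ f.left.base ⁻¹' {y} := hxy
    rw [hsat] at this
    obtain ⟨k, hk⟩ := Set.mem_iUnion.1 this
    exact hx (hW k hk)
  obtain ⟨V, hV, hyV, hVV₁⟩ := exists_isAffineOpen_mem_and_subset (show y ∈ V₁ ⊓ O from ⟨hyV₁, hyO⟩)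
  let U : X.left.Opens := f.left ⁻¹ᵁ V
  have hUW : U ≤ W := fun x hx => by
    by_contra hxW
    exact (hVV₁ hx).1 ⟨x, hxW, rfl⟩
  have hΓU : ∀ i, Set.range (Γ i).ι ⊆ (U : Set X.left) := fun i x hx => by
    have : x ∈ f.left.base ⁻¹' {y} := hsat ▸ Set.mem_iUnion.2 ⟨i, hx⟩
    show f.left x ∈ V
    rw [show f.left x = y from this]
    exact hyV
  haveI : IsNoetherianRing Γ(Y.left, V) := IsLocallyNoetherian.component_noetherian ⟨V, hV⟩
  let q : (U : Scheme.{u}) ⟶ Spec (CommRingCat.of Γ(Y.left, V)) := (f.left ∣_ V) ≫ hV.isoSpec.hom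
  haveI : IsProper (f.left ∣_ V) :=
    MorphismProperty.of_isPullback (P := @IsProper) (isPullback_morphismRestrict f.left V).flip inferInstance
  haveI : IsProper q := inferInstanceAs (IsProper (_ ≫ _))
  haveI : IsAffineHom U.ι := by
    haveI : IsAffine (V : Scheme.{u}) := hV
    haveI : IsAffineHom V.ι := by
      haveI : IsAffineHom (V.ι ≫ terminal.from Y.left) := inferInstance
      exact IsAffineHom.of_comp V.ι (terminal.from Y.left)
    exact MorphismProperty.of_isPullback (P := @IsAffineHom) (isPullback_morphismRestrict f.left V) inferInstance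
  obtain ⟨j, hj, hjι, ⟨ej⟩, h1U, hggC, hNC⟩ := config_vanish hX Γ hΓ L hL hneg hb hb1 hHi hHA hWiso U hUW hΓU q z hz0 hz
  haveI := hj
  have hKz : PicF.IsInvertible (ClSub.idealMod (J Γ z)) :=
    IntMultLib.isInvertible_idealMod _ (VertChiLib.isEffCartier_J hC z)
  have hM : PicF.IsInvertible (ClSub.idealMod j.ker) :=
    HilbPolyLib.isInvertible_of_iso ej (AmpleDevLib.isInvertible_pb _ hKz)
  obtain ⟨c₀⟩ : Nonempty (J Γ z).subscheme := by
    have : x₁ ∈ Set.range ι := hιrange.ge hx₁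
    exact ⟨this.choose⟩
  -- fibres
  have hfib : ∀ s, topologicalKrullDim ↥(q.fiber s) ≤ ((1 : ℕ) : WithBot ℕ∞) := fun s => by
    haveI : Nonempty (J Γ z).subscheme := ⟨c₀⟩
    let h : q.fiber s → X.left := fun w => U.ι (q.fiberι s w)
    have hh : Topology.IsEmbedding h := U.ι.isOpenEmbedding.isEmbedding.comp (q.fiberι s).isEmbedding
    have hmV : ∀ w, f.left (h w) ∈ V := fun w => (q.fiberι s w).2
    have hfh : ∀ w w', f.left (h w) = f.left (h w') := fun w w' => by
      have hm : ∀ w, hV.isoSpec.hom ((f.left ∣_ V) (q.fiberι s w)) = s := fun w => by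
        have : q.fiberι s w ∈ Set.range (q.fiberι s) := ⟨w, rfl⟩
        rw [Scheme.Hom.range_fiberι] at this
        exact this
      have he : ∀ w, f.left (U.ι (q.fiberι s w)) = V.ι ((f.left ∣_ V) (q.fiberι s w)) := fun w => by
        rw [← Scheme.Hom.comp_apply, ← Scheme.Hom.comp_apply (g := V.ι), morphismRestrict_ι]
      show f.left (U.ι _) = f.left (U.ι _)
      rw [he, he, hV.isoSpec.hom.isOpenEmbedding.injective ((hm w).trans (hm w').symm)]
    by_cases hc : ∀ w, h w ∈ Set.range ι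
    · choose l hl using hc
      have hi : Topology.IsInducing l := by
        refine ι.isClosedEmbedding.isInducing.of_comp_iff.1 ?_
        rw [show (⇑ι ∘ l) = h from funext hl]
        exact hh.isInducing
      exact hi.topologicalKrullDim_le.trans (dim_J_le z)
    · obtain ⟨w₀, hw₀⟩ := not_forall.1 hc
      haveI : Subsingleton (q.fiber s) := ⟨fun w w' => by
        have hne : ∀ w, f.left (h w) ≠ y := fun w hw => hw₀ (by
          have : h w₀ ∈ f.left ⁻¹' {y} := (hfh w₀ w).trans hw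
          rwa [hsatι] at this)
        let O' : Y.left.Opens := V ⊓ ⟨{y}ᶜ, hy.isOpen_compl⟩
        haveI := hiso O' (fun h => h.2 rfl) (fun x hx => (hVV₁ hx.1).2)
        obtain ⟨a, ha⟩ : h w ∈ Set.range (f.left ⁻¹ᵁ O').ι := by rw [Scheme.Opens.range_ι]; exact ⟨hmV w, hne w⟩
        obtain ⟨b, hb⟩ : h w' ∈ Set.range (f.left ⁻¹ᵁ O').ι := by rw [Scheme.Opens.range_ι]; exact ⟨hmV w', hne w'⟩
        have : (f.left ∣_ O') a = (f.left ∣_ O') b := by
          apply O'.ι.isOpenEmbedding.injective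
          rw [← Scheme.Hom.comp_apply, ← Scheme.Hom.comp_apply, morphismRestrict_ι, Scheme.Hom.comp_apply,
            Scheme.Hom.comp_apply, ha, hb, hfh w w']
        exact hh.injective (by rw [← ha, ← hb, (f.left ∣_ O').isOpenEmbedding.injective this])⟩
      have hi : Topology.IsInducing (fun _ : q.fiber s => c₀) := ⟨Subsingleton.elim _ _⟩
      exact hi.topologicalKrullDim_le.trans (dim_J_le z)
  -- functions
  have hπj := appTop_surjective_of_h1 j h1U
  let φ : Γ(Y.left, V) ≃+* Γ((U : Scheme.{u}), ⊤) :=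
    (RingEquiv.ofBijective _ (hbij V)).trans U.topIso.symm.commRingCatIsoToRingEquiv
  letI : Field Γ((J Γ z).subscheme, ⊤) := hfield.toField
  let π : Γ(Y.left, V) →+* Γ((J Γ z).subscheme, ⊤) := j.appTop.hom.comp φ.toRingHom
  have hπs : Function.Surjective π := hπj.comp φ.surjective
  letI : Algebra Γ(Y.left, V) (Y.left.presheaf.stalk y) := (Y.left.presheaf.germ V y hyV).hom.toAlgebra
  haveI hloc : IsLocalization.AtPrime (Y.left.presheaf.stalk y) (hV.primeIdealOf ⟨y, hyV⟩).asIdeal :=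
    hV.isLocalization_stalk ⟨y, hyV⟩
  have hbasic : ∀ a : Γ(Y.left, V), y ∈ Y.left.basicOpen a → π a ≠ 0 := fun a ha h0 => by
    have hyc : f.left (ι c₀) = y := by
      have h : ι c₀ ∈ f.left ⁻¹' {y} := by rw [hsatι]; exact ⟨c₀, rfl⟩
      exact h
    have hx : j c₀ ∈ (U : Scheme.{u}).basicOpen (φ a) := by
      show j c₀ ∈ (U : Scheme.{u}).basicOpen (U.topIso.inv (f.left.app V a))
      rw [mem_basicOpen_topIso_inv, ← Scheme.preimage_basicOpen,
        show U.ι (j c₀) = ι c₀ from congrArg (fun g : (J Γ z).subscheme ⟶ X.left => g c₀) hjι]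
      show f.left (ι c₀) ∈ Y.left.basicOpen a
      rwa [hyc]
    have h2 : c₀ ∈ (J Γ z).subscheme.basicOpen (j.appTop (φ a)) := by
      rw [← Scheme.preimage_basicOpen_top]
      exact hx
    rw [show j.appTop (φ a) = (0 : Γ((J Γ z).subscheme, ⊤)) from h0, Scheme.basicOpen_zero] at h2
    exact h2
  have hp : RingHom.ker π = (hV.primeIdealOf ⟨y, hyV⟩).asIdeal := by
    refine (RingHom.ker_isMaximal_of_surjective π hπs).eq_of_le (hV.primeIdealOf ⟨y, hyV⟩).2.ne_top fun a ha => ?_
    by_contra hn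
    refine hbasic a ?_ ha
    rw [Scheme.mem_basicOpen Y.left a y hyV]
    exact (IsLocalization.AtPrime.isUnit_to_map_iff (Y.left.presheaf.stalk y) (hV.primeIdealOf ⟨y, hyV⟩).asIdeal a).2 hn
  haveI : (RingHom.ker π).IsMaximal := RingHom.ker_isMaximal_of_surjective π hπs
  haveI : IsLocalization.AtPrime (Y.left.presheaf.stalk y) (RingHom.ker π) := by
    simp only [hp]
    exact hloc
  have hsep : ∀ x : (U : Scheme.{u}), x ∉ Set.range j →
      ∃ a : Γ((U : Scheme.{u}), ⊤), j.appTop a = 0 ∧ x ∈ (U : Scheme.{u}).basicOpen a := fun x hx => by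
    have hne : f.left x.1 ≠ y := fun h => by
      have h' : x.1 ∈ f.left ⁻¹' {y} := h
      rw [hsatι] at h'
      obtain ⟨c, hc⟩ := h'
      exact hx ⟨c, U.ι.isOpenEmbedding.injective
        ((congrArg (fun g : (J Γ z).subscheme ⟶ X.left => g c) hjι).trans hc)⟩
    obtain ⟨a, ha, hxa⟩ := hV.exists_basicOpen_le (V := ⟨{y}ᶜ, hy.isOpen_compl⟩) ⟨f.left x.1, hne⟩ x.2
    refine ⟨φ a, ?_, ?_⟩
    · show π a = 0
      by_contra h
      have h' : a ∉ (hV.primeIdealOf ⟨y, hyV⟩).asIdeal := hp ▸ h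
      have : y ∈ Y.left.basicOpen a := by
        rw [Scheme.mem_basicOpen Y.left a y hyV]
        exact (IsLocalization.AtPrime.isUnit_to_map_iff (Y.left.presheaf.stalk y) _ a).2 h'
      exact ha this rfl
    · show x ∈ (U : Scheme.{u}).basicOpen (U.topIso.inv (f.left.app V a))
      rw [mem_basicOpen_topIso_inv, ← Scheme.preimage_basicOpen]
      exact hxa
  -- scalars
  let ρA : R →+* Γ(Y.left, V) :=
    (Y.left.presheaf.map (homOfLE (le_top : V ≤ ⊤)).op).hom.comp (Coh.toGlobal Y.hom)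
  letI : Algebra R Γ(Y.left, V) := ρA.toAlgebra
  letI : Algebra R (Y.left.presheaf.stalk y) := (Models.stalkHom R Y y).toAlgebra
  haveI : IsScalarTower R Γ(Y.left, V) (Y.left.presheaf.stalk y) := IsScalarTower.of_algebraMap_eq fun t =>
    (TopCat.Presheaf.germ_res_apply Y.left.presheaf (homOfLE (le_top : V ≤ ⊤)) y hyV (Coh.toGlobal Y.hom t)).symm
  have hπρ : ∀ t, π (ρA t) = (show R →+* Γ((J Γ z).subscheme, ⊤) from Coh.toGlobal (ι ≫ X.hom)) t := fun t => by
    have h1 : f.left.app V (ρA t) = X.left.presheaf.map (homOfLE (le_top : U ≤ ⊤)).op (Coh.toGlobal X.hom t) := by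
      have e : (Coh.toGlobal X.hom t : Γ(X.left, ⊤)) = f.left.appTop (Coh.toGlobal Y.hom t) := by
        show _ = f.left.appTop (Y.hom.appTop _)
        rw [← CommRingCat.comp_apply, ← Scheme.Hom.comp_appTop, Over.w f]
        rfl
      rw [e]
      exact ConcreteCategory.congr_hom (f.left.naturality (homOfLE (le_top : V ≤ ⊤)).op) (Coh.toGlobal Y.hom t)
    show j.appTop (U.topIso.inv (f.left.app V (ρA t))) = ((J Γ z).subschemeι ≫ X.hom).appTop _
    rw [h1, ← hjι, Category.assoc, Scheme.Hom.comp_appTop, Scheme.Hom.comp_appTop, CommRingCat.comp_apply,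
      CommRingCat.comp_apply]
    refine congrArg j.appTop ?_
    rw [Scheme.Opens.ι_appTop, Scheme.Opens.topIso_inv, ← CommRingCat.comp_apply, ← Functor.map_comp]
    rfl
  have hkmap : (RingHom.ker π).map φ.toRingHom = RingHom.ker j.appTop.hom := by
    show ((RingHom.ker j.appTop.hom).comap φ.toRingHom).map φ.toRingHom = _
    exact Ideal.map_comap_of_surjective _ φ.surjective _
  have hmem : ∀ (n : ℕ) (a : Γ(Y.left, V)),
      φ a ∈ RingHom.ker j.appTop.hom ^ n ↔ a ∈ RingHom.ker π ^ n := fun n a => by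
    rw [← hkmap, ← Ideal.map_pow]
    refine ⟨fun h => ?_, fun h => Ideal.mem_map_of_mem _ h⟩
    obtain ⟨c, hc, hca⟩ := (Ideal.mem_map_iff_of_surjective φ.toRingHom φ.surjective).1 h
    rwa [← φ.injective hca]
  have hquot : ∀ n : ℕ, Module.length R (Y.left.presheaf.stalk y ⧸ maximalIdeal (Y.left.presheaf.stalk y) ^ n) =
      Module.length R (Γ(Y.left, V) ⧸ RingHom.ker π ^ n) := fun n =>
    (((IsLocalization.AtPrime.equivQuotMaximalIdealPow (RingHom.ker π) (Y.left.presheaf.stalk y) n).restrictScalars R).toLinearEquiv.length_eq).symm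
  -- the residue field
  have hres : Module.length R (ResidueField (Y.left.presheaf.stalk y)) = (len R (ClSub.quotMod (J Γ z)) 0 : ℕ∞) := by
    have h1 := hquot 1
    rw [pow_one, pow_one] at h1
    refine h1.trans ?_
    rw [← (χ_eq_len0 hX Γ (fun a ha => (hb a ha).1) z hz0).2.2]
    haveI : Coh.IsQCoh (Coh.structureModule (J Γ z).subscheme) := QCohLib.isQCoh_unit
    refine Eq.trans ?_ (length_push_eq_secLen ι (Coh.structureModule (J Γ z).subscheme)).symm
    letI := Module.compHom Γ(Coh.structureModule (J Γ z).subscheme, ⊤)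
      (show R →+* Γ((J Γ z).subscheme, ⊤) from Coh.toGlobal (ι ≫ X.hom))
    let g : Γ(Y.left, V) →ₗ[R] Γ(Coh.structureModule (J Γ z).subscheme, ⊤) :=
      { toFun := fun a => π a
        map_add' := fun a a' => map_add π a a'
        map_smul' := fun t a => by
          show π (ρA t * a) = (show R →+* Γ((J Γ z).subscheme, ⊤) from Coh.toGlobal (ι ≫ X.hom)) t * π a
          rw [map_mul, hπρ] }
    exact ((Submodule.quotEquivOfEq ((RingHom.ker π).restrictScalars R) (LinearMap.ker g)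
      (Submodule.ext fun a => Iff.rfl)).trans (g.quotKerEquivOfSurjective hπs)).length_eq
  refine ⟨hres, fun n hn => ?_⟩
  -- the graded piece
  obtain ⟨ψ, hψ, hψ0, hψs⟩ := exists_graded_map j q hfib hM h1U hggC hsep n
  let N := pb j (CohB1.tensorPow (ClSub.idealMod j.ker) n)
  obtain ⟨eN⟩ : Nonempty (N ≅ pb ι (ClSub.idealMod (J Γ fun i => n * z i))) := cl_eq_iff.1 (by
    have h : (J Γ fun i => n * z i) = J Γ z ^ n := by
      simp only [J, ← Finset.prod_pow, ← pow_mul, mul_comm n]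
    rw [h, ← pull_cl, ← pull_cl, VertIntLib.cl_tensorPow,
      show cl (ClSub.idealMod (J Γ z ^ n)) = cl (ClSub.idealMod (J Γ z)) ^ n from
        VertIntLib.idc_pow (VertChiLib.isEffCartier_J hC z) n, map_pow, map_pow, ← cl_eq_iff.2 ⟨ej⟩, ← pull_cl,
      pull_comp, hjι])
  have hlen : secLen (ι ≫ X.hom) N =
      ((((n : ℤ) * -selfInt Γ L z).toNat + len R (ClSub.quotMod (J Γ z)) 0 : ℕ) : ℕ∞) := by
    rw [secLen_congr _ eN]
    refine secLen_conormal_pow hX Γ hΓ L hL (fun a ha => (hb a ha).1) z hz0 n hn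
      (SerreVanLib.subsingleton_HH_of_iso eN.symm 1 (hNC n)) ?_
    rw [selfInt_eq]
    exact Finset.sum_nonpos fun i _ => mul_nonpos_of_nonneg_of_nonpos (Nat.cast_nonneg _) (hz i)
  rw [hquot (n + 1), hquot n, ← hlen]
  letI := Module.compHom Γ(N, ⊤) (show R →+* Γ((J Γ z).subscheme, ⊤) from Coh.toGlobal (ι ≫ X.hom))
  let ψ' : ↥(RingHom.ker π ^ n) →ₗ[R] Γ(N, ⊤) :=
    { toFun := fun a => ψ ⟨φ a.1, (hmem n a.1).2 a.2⟩
      map_add' := fun a a' => by
        rw [← map_add ψ]
        exact congrArg ψ (Subtype.ext (map_add φ a.1 a'.1))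
      map_smul' := fun t a => by
        show ψ _ = (show R →+* Γ((J Γ z).subscheme, ⊤) from Coh.toGlobal (ι ≫ X.hom)) t • ψ _
        rw [← hπρ]
        refine (congrArg ψ ?_).trans (hψs (φ (ρA t)) ⟨φ a.1, (hmem n a.1).2 a.2⟩)
        exact Subtype.ext (map_mul φ (ρA t) a.1) }
  have hψ' : Function.Surjective ψ' := fun τ => by
    obtain ⟨u, hu⟩ := hψ τ
    obtain ⟨a, ha⟩ := φ.surjective u.1
    exact ⟨⟨a, (hmem n a).1 (ha ▸ u.2)⟩, (congrArg ψ (Subtype.ext ha)).trans hu⟩
  let L₁ : ↥(RingHom.ker π ^ n) →ₗ[R] Γ(Y.left, V) ⧸ RingHom.ker π ^ (n + 1) :=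
    (Ideal.Quotient.mkₐ R (RingHom.ker π ^ (n + 1))).toLinearMap.comp
      ((RingHom.ker π ^ n).subtype.restrictScalars R)
  have hk : LinearMap.ker L₁ = LinearMap.ker ψ' := by
    ext a
    rw [LinearMap.mem_ker, LinearMap.mem_ker]
    exact Ideal.Quotient.eq_zero_iff_mem.trans ((hmem (n + 1) a.1).symm.trans (hψ0 ⟨φ a.1, (hmem n a.1).2 a.2⟩).symm)
  let g : (Γ(Y.left, V) ⧸ RingHom.ker π ^ (n + 1)) →ₗ[R] Γ(Y.left, V) ⧸ RingHom.ker π ^ n :=
    (Ideal.Quotient.factorₐ R (Ideal.pow_le_pow_right (Nat.le_succ n))).toLinearMap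
  rw [Module.length_eq_add_of_exact (LinearMap.range L₁).subtype g (Submodule.injective_subtype _)
    (fun x => by
      obtain ⟨a, rfl⟩ := Ideal.Quotient.mk_surjective x
      exact ⟨Ideal.Quotient.mk _ a, rfl⟩)
    (fun x => by
      obtain ⟨a, rfl⟩ := Ideal.Quotient.mk_surjective x
      refine ⟨fun h => ?_, ?_⟩
      · have ha : a ∈ RingHom.ker π ^ n := Ideal.Quotient.eq_zero_iff_mem.1 h
        exact ⟨⟨Ideal.Quotient.mk _ a, ⟨a, ha⟩, rfl⟩, rfl⟩
      · rintro ⟨⟨_, ⟨a', ha'⟩, rfl⟩, h⟩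
        rw [← h]
        exact Ideal.Quotient.eq_zero_iff_mem.2 ha'), add_comm]
  congr 1
  exact (L₁.quotKerEquivRange.symm.trans ((Submodule.quotEquivOfEq _ _ hk).trans
    (ψ'.quotKerEquivOfSurjective hψ'))).length_eq

end RegConLib
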