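import Groth.Agent.RegConLib.Vanish
import Groth.Agent.VertChiLib.Exc
import Groth.Agent.NefH1Lib.Relative
import Groth.Agent.ContractLib.Artin
import Groth.Agent.JacAlbLib.ThetaCurve

/-!
# Nef bundles on divisors supported in a configuration without `H¹(O)`
-/

set_option autoImplicit false
set_option linter.style.haveILetI false
set_option linter.unusedSectionVars false
set_option maxHeartbeats 1000000
set_option backward.isDefEq.respectTransparency false
set_option backward.isDefEq.respectTransparency.types false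
universe u

open CategoryTheory CategoryTheory.Limits AlgebraicGeometry TopologicalSpace IsLocalRing
open KFlatLib (pb)
open VertChiLib (J)

noncomputable section

namespace RegConLib

variable {R : Type u} [CommRing R] [IsDomain R] [IsDiscreteValuationRing R] {X : Over (Spec (CommRingCat.of R))}
  [IsProper X.hom] {r : ℕ} {Γ : Fin r → ArSurf.VertComp R X}

/-- An integral curve in a union of vertical curves is one of them. -/
theorem exists_iso_comp (a : Fin r → ℕ) {D : Scheme.{u}} [IsIntegral D] (g : D ⟶ (J Γ a).subscheme)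
    [IsClosedImmersion g] (hD : topologicalKrullDim D = 1) :
    ∃ (i : Fin r) (e : D ≅ (Γ i).curve.left), e.hom ≫ (Γ i).ι = g ≫ (J Γ a).subschemeι := by
  let h := g ≫ (J Γ a).subschemeι
  have hmem : ∀ z, ∃ j, h z ∈ Set.range ((Γ j).ι.base : (Γ j).curve.left → X.left) := fun z =>
    ContractLib.mem_support_J Γ a ((J Γ a).range_subschemeι ▸ Set.mem_range_self (g z))
  obtain ⟨i, hi⟩ := hmem (genericPoint D)
  have hrange : Set.range h ⊆ ((Γ i).ι.ker.support : Set X.left) := by
    rintro _ ⟨z, rfl⟩
    refine (Γ i).ι.range_subset_ker_support ?_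
    exact (((genericPoint_spec D).specializes (Set.mem_univ z)).map h.continuous).mem_closed
      (Γ i).ι.isClosedEmbedding.isClosed_range hi
  let l := IsClosedImmersion.lift (Γ i).ι h (JacAlbLib.le_ker_of_range_subset h _ hrange)
  have hl : l ≫ (Γ i).ι = h := IsClosedImmersion.lift_fac _ _ _
  haveI : IsClosedImmersion (l ≫ (Γ i).ι) := by rw [hl]; infer_instance
  haveI : IsClosedImmersion l := IsClosedImmersion.of_comp l (Γ i).ι
  have hsurj : Set.range l = Set.univ := by
    by_contra hne
    have h1 := CurvLib.topologicalKrullDim_le_zero_of_lt (Γ i).dim_eq l.isClosedEmbedding.isClosed_range hne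
    have h2 := IsHomeomorph.topologicalKrullDim_eq _ l.isClosedEmbedding.isEmbedding.toHomeomorph.isHomeomorph
    rw [hD] at h2
    rw [← h2] at h1
    exact absurd h1 (by simp)
  haveI : Surjective l := ⟨fun x => hsurj.ge (Set.mem_univ x)⟩
  haveI : IsIso l := isIso_of_isClosedImmersion_of_surjective l
  exact ⟨i, asIso l, hl⟩

/-- A nef invertible module on a divisor without `H¹(O)` is generated and has no `H¹`. -/
theorem gg_and_h1_divisor (a : Fin r → ℕ)
    (hO : Subsingleton (Coh.HH (J Γ a).subscheme (Coh.structureModule (J Γ a).subscheme) 1))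
    {N : (J Γ a).subscheme.Modules} (hN : PicF.IsInvertible N)
    (hdeg : ∀ (i : Fin r) (g : (Γ i).curve.left ⟶ (J Γ a).subscheme), g ≫ (J Γ a).subschemeι = (Γ i).ι →
      0 ≤ Curv2.deg (ResidueField R) (Γ i).curve.left (pb g N) 1) :
    Curv2.IsGloballyGenerated N ∧ Subsingleton (Coh.HH (J Γ a).subscheme N 1) := by
  letI : (J Γ a).subscheme.Over (Spec (CommRingCat.of R)) := ⟨(J Γ a).subschemeι ≫ X.hom⟩
  haveI : IsProper ((J Γ a).subscheme ↘ Spec (CommRingCat.of R)) :=
    inferInstanceAs (IsProper ((J Γ a).subschemeι ≫ X.hom))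
  refine NefH1Lib.gg_and_h1_rel (A := R) hO (fun y => ?_) hN fun m hm I t hI hI1 ht => ?_
  · exact (Scheme.Hom.fiberι _ y).isEmbedding.isInducing.topologicalKrullDim_le.trans (dim_J_le a)
  · obtain rfl := IsLocalRing.eq_maximalIdeal hm
    haveI := hI
    obtain ⟨i, e, he⟩ := exists_iso_comp (Γ := Γ) a I.subschemeι hI1
    letI : I.subscheme.Over (Spec (CommRingCat.of (ResidueField R))) := ⟨t⟩
    haveI : IsClosedImmersion (Spec.map (CommRingCat.ofHom (residue R))) :=
      IsClosedImmersion.spec_of_surjective _ residue_surjective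
    have hek : e.hom ≫ ((Γ i).curve.left ↘ Spec (CommRingCat.of (ResidueField R))) =
        I.subscheme ↘ Spec (CommRingCat.of (ResidueField R)) := by
      refine (cancel_mono (Spec.map (CommRingCat.ofHom (residue R)))).1 ?_
      show (e.hom ≫ (Γ i).curve.hom) ≫ _ = t ≫ _
      refine Eq.trans ?_ ht.symm
      show _ = I.subschemeι ≫ (J Γ a).subschemeι ≫ X.hom
      rw [Category.assoc, ← Category.assoc I.subschemeι, ← he, Category.assoc]
      exact congrArg (e.hom ≫ ·) (Γ i).w.symm
    haveI := VertIntLib.isProper_curve (Γ i)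
    haveI : IsProper (I.subscheme ↘ Spec (CommRingCat.of (ResidueField R))) := by
      rw [← hek]; infer_instance
    have hg : (e.inv ≫ I.subschemeι) ≫ (J Γ a).subschemeι = (Γ i).ι := by
      rw [Category.assoc, ← he, e.inv_hom_id_assoc]
    have h0 := hdeg i (e.inv ≫ I.subschemeι) hg
    let N' := pb (e.inv ≫ I.subschemeι) N
    haveI : Coh.IsQCoh N' := (CurvLib.isCoh_of_isInvertible (AmpleDevLib.isInvertible_pb _ hN)).1
    obtain ⟨k1, k2⟩ := VertChiLib.euler_iso (F := ResidueField R) e hek N'
    refine le_of_le_of_eq h0 ?_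
    let E : pb e.hom N' ≅ pb I.subschemeι N :=
      (Scheme.Modules.pullbackComp e.hom (e.inv ≫ I.subschemeι)).app N ≪≫
        (Scheme.Modules.pullbackCongr (e.hom_inv_id_assoc I.subschemeι)).app N
    have h3 := CurvLib.euler_congr (k := ResidueField R) E
    show Curv2.euler _ _ N' - (1 : ℤ) * Curv2.euler _ _ _ = Curv2.euler (ResidueField R) I.subscheme (pb I.subschemeι N) - (1 : ℤ) * Curv2.euler (ResidueField R) I.subscheme (Coh.structureModule I.subscheme)
    rw [← h3, k1, k2]

end RegConLib
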