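import Mathlib

/-!
# Cotangent space of a localization at a maximal ideal
-/

set_option autoImplicit false
universe u

open IsLocalRing

namespace RegConLib

variable {A : Type u} [CommRing A] (p : Ideal A) [p.IsMaximal]
  (S : Type u) [CommRing S] [Algebra A S] [IsLocalization.AtPrime S p] [IsLocalRing S]

/-- An element of `p` becomes a cotangent vector of the localization. -/
noncomputable def locCot : p →+ CotangentSpace S :=
  (maximalIdeal S).toCotangent.toAddMonoidHom.comp
    { toFun := fun x => ⟨algebraMap A S x, (IsLocalization.AtPrime.to_map_mem_maximal_iff S p (x : A)).2 x.2⟩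
      map_zero' := Subtype.ext (map_zero (algebraMap A S))
      map_add' := fun x y => Subtype.ext (map_add (algebraMap A S) (x : A) y) }

theorem exists_inv_mod {s : A} (hs : s ∉ p) : ∃ t : A, 1 - s * t ∈ p := by
  obtain ⟨y, i, hi, h⟩ := ‹p.IsMaximal›.exists_inv hs
  exact ⟨y, by
    have : 1 - s * y = i := by rw [← h]; ring
    rwa [this]⟩

theorem locCot_surjective : Function.Surjective (locCot p S) := by
  intro z
  obtain ⟨⟨w, hw⟩, rfl⟩ := (maximalIdeal S).toCotangent_surjective z
  obtain ⟨⟨a, s⟩, rfl⟩ := IsLocalization.mk'_surjective p.primeCompl w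
  have ha : a ∈ p := (IsLocalization.AtPrime.mk'_mem_maximal_iff S p a s).1 hw
  obtain ⟨t, ht⟩ := exists_inv_mod p (s := (s : A)) s.2
  refine ⟨⟨a * t, p.mul_mem_right t ha⟩, (Ideal.toCotangent_eq _).2 ?_⟩
  have h : algebraMap A S (a * t) - IsLocalization.mk' S a s =
      IsLocalization.mk' S a s * -algebraMap A S (1 - (s : A) * t) := by
    have hk : IsLocalization.mk' S a s * algebraMap A S s = algebraMap A S a := IsLocalization.mk'_spec S a s
    simp only [map_mul, map_sub, map_one]
    linear_combination (-algebraMap A S t) * hk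
  show algebraMap A S (a * t) - IsLocalization.mk' S a s ∈ maximalIdeal S ^ 2
  rw [h, pow_two]
  exact Ideal.mul_mem_mul hw
    (neg_mem ((IsLocalization.AtPrime.to_map_mem_maximal_iff S p _).2 ht))

theorem locCot_eq_zero (x : p) : locCot p S x = 0 ↔ (x : A) ∈ p ^ 2 := by
  refine ((maximalIdeal S).toCotangent_eq_zero _).trans ⟨fun h => ?_, fun h => ?_⟩
  · change algebraMap A S x ∈ maximalIdeal S ^ 2 at h
    rw [← IsLocalization.AtPrime.map_eq_maximalIdeal p S, ← Ideal.map_pow,
      IsLocalization.algebraMap_mem_map_algebraMap_iff p.primeCompl] at h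
    obtain ⟨s, hs, hsx⟩ := h
    obtain ⟨t, ht⟩ := exists_inv_mod p (s := s) hs
    have e : (x : A) = (x : A) * (1 - s * t) + t * (s * x) := by ring
    rw [e, pow_two]
    exact add_mem (Ideal.mul_mem_mul x.2 ht) (Ideal.mul_mem_left _ t (pow_two p ▸ hsx))
  · show algebraMap A S x ∈ maximalIdeal S ^ 2
    rw [← IsLocalization.AtPrime.map_eq_maximalIdeal p S, ← Ideal.map_pow]
    exact Ideal.mem_map_of_mem _ h

variable {B : Type u} [Field B] {N : Type u} [AddCommGroup N] [Module B N]

/-- The cotangent space of the localization at `p` is `p/p²`. -/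
theorem finrank_cotangentSpace_of_localization (π : A →+* B) (hπ : Function.Surjective π)
    (hker : RingHom.ker π = p) (ψ : p →+ N) (hψ : Function.Surjective ψ)
    (hψ0 : ∀ x, ψ x = 0 ↔ (x : A) ∈ p ^ 2) (hsmul : ∀ (a : A) (x : p), ψ (a • x) = π a • ψ x) :
    Module.finrank (ResidueField S) (CotangentSpace S) = Module.finrank B N := by
  let r : A →+* ResidueField S := (residue S).comp (algebraMap A S)
  have hr : Function.Surjective r := fun z => by
    obtain ⟨w, rfl⟩ := residue_surjective z
    obtain ⟨⟨a, s⟩, rfl⟩ := IsLocalization.mk'_surjective p.primeCompl w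
    obtain ⟨t, ht⟩ := exists_inv_mod p (s := (s : A)) s.2
    refine ⟨a * t, sub_eq_zero.1 ?_⟩
    show residue S (algebraMap A S (a * t)) - residue S (IsLocalization.mk' S a s) = 0
    rw [← map_sub, residue_eq_zero_iff]
    have h : algebraMap A S (a * t) - IsLocalization.mk' S a s =
        IsLocalization.mk' S a s * -algebraMap A S (1 - (s : A) * t) := by
      have hk : IsLocalization.mk' S a s * algebraMap A S s = algebraMap A S a := IsLocalization.mk'_spec S a s
      simp only [map_mul, map_sub, map_one]
      linear_combination (-algebraMap A S t) * hk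
    rw [h]
    exact Ideal.mul_mem_left _ _ (neg_mem ((IsLocalization.AtPrime.to_map_mem_maximal_iff S p _).2 ht))
  have hrk : RingHom.ker r = p := by
    ext a
    rw [RingHom.mem_ker]
    show residue S (algebraMap A S a) = 0 ↔ _
    rw [residue_eq_zero_iff]
    exact IsLocalization.AtPrime.to_map_mem_maximal_iff S p a
  -- the comparison of fields
  let ι : ResidueField S →+* B := r.liftOfSurjective hr ⟨π, by rw [hrk, hker]⟩
  have hι : ∀ a, ι (r a) = π a := fun a => RingHom.liftOfRightInverse_comp_apply _ _ _ _ a
  have hιb : Function.Bijective ι := ⟨ι.injective, fun b => by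
    obtain ⟨a, rfl⟩ := hπ b
    exact ⟨r a, hι a⟩⟩
  -- the comparison of the spaces
  have hk : ∀ x y : p, locCot p S x = locCot p S y ↔ ψ x = ψ y := fun x y => by
    rw [← sub_eq_zero, ← map_sub, locCot_eq_zero, ← hψ0, map_sub, sub_eq_zero]
  let j₀ : CotangentSpace S → N := fun z => ψ (locCot_surjective p S z).choose
  have hj : ∀ x, j₀ (locCot p S x) = ψ x := fun x =>
    (hk _ _).1 (locCot_surjective p S (locCot p S x)).choose_spec
  let j' : CotangentSpace S →+ N :=
    { toFun := j₀
      map_zero' := by
        show j₀ 0 = 0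
        rw [← map_zero (locCot p S), hj, map_zero]
      map_add' := fun z z' => by
        obtain ⟨x, rfl⟩ := locCot_surjective p S z
        obtain ⟨x', rfl⟩ := locCot_surjective p S z'
        show j₀ _ = j₀ _ + j₀ _
        rw [← map_add, hj, hj, hj, map_add] }
  let j : CotangentSpace S ≃+ N := AddEquiv.ofBijective j'
    ⟨fun z z' h => by
      obtain ⟨x, rfl⟩ := locCot_surjective p S z
      obtain ⟨x', rfl⟩ := locCot_surjective p S z'
      change j₀ _ = j₀ _ at h
      rw [hj, hj] at h
      exact (hk x x').2 h, fun n => by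
      obtain ⟨x, rfl⟩ := hψ n
      exact ⟨locCot p S x, hj x⟩⟩
  have h := rank_eq_of_equiv_equiv ι j hιb fun c z => by
    obtain ⟨a, rfl⟩ := hr c
    obtain ⟨x, rfl⟩ := locCot_surjective p S z
    show j₀ (r a • locCot p S x) = ι (r a) • j₀ (locCot p S x)
    have e : r a • locCot p S x = locCot p S (a • x) := by
      show residue S (algebraMap A S a) • (maximalIdeal S).toCotangent _ = (maximalIdeal S).toCotangent _
      rw [show residue S (algebraMap A S a) = algebraMap S (ResidueField S) (algebraMap A S a) from rfl,
        algebraMap_smul, ← map_smul]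
      refine congrArg _ (Subtype.ext ?_)
      show algebraMap A S a * algebraMap A S x = algebraMap A S (a * x)
      rw [map_mul]
    rw [e, hj, hj, hι, hsmul]
  exact congrArg Cardinal.toNat h

end RegConLib
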