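import Groth.Agent.RegConLib.LocCot
import Groth.Agent.RegConLib.Contract
import Groth.Agent.RegConLib.Nhd
import Groth.Agent.BlanchardLib.Birat

/-!
# Contraction of an exceptional curve: the contracted point
-/

set_option autoImplicit false
set_option linter.style.haveILetI false
set_option linter.unusedSectionVars false
set_option maxHeartbeats 1000000
set_option backward.isDefEq.respectTransparency false
set_option backward.isDefEq.respectTransparency.types false
universe u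

open CategoryTheory CategoryTheory.Limits AlgebraicGeometry TopologicalSpace Opposite IsLocalRing
open KFlatLib (pb)
open HilbPolyLib (unitLeft)

noncomputable section

namespace RegConLib

/-- Subsets of a fibre of the restriction of `f` are points or lie in the exceptional set. -/
theorem fibre_dim_le {X Y S : Scheme.{u}} (f : X ⟶ Y) (V : Y.Opens) (y : Y) (hy : IsClosed ({y} : Set Y))
    [IsIso (f ∣_ (⟨{y}ᶜ, hy.isOpen_compl⟩ : Y.Opens))] {E : Scheme.{u}} (ι : E ⟶ X) [IsClosedImmersion ι]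
    (hsat : f ⁻¹' {y} = Set.range ι) {n : ℕ} (hE : topologicalKrullDim E ≤ (n : WithBot ℕ∞)) [Nonempty E]
    (g : (V : Scheme.{u}) ⟶ S) [IsOpenImmersion g] (s : S) :
    topologicalKrullDim ↥(((f ∣_ V) ≫ g).fiber s) ≤ (n : WithBot ℕ∞) := by
  let q := (f ∣_ V) ≫ g
  let h : q.fiber s → X := fun z => (f ⁻¹ᵁ V).ι (q.fiberι s z)
  have hh : Topology.IsEmbedding h :=
    (f ⁻¹ᵁ V).ι.isOpenEmbedding.isEmbedding.comp (q.fiberι s).isEmbedding
  have hfh : ∀ z z', f (h z) = f (h z') := fun z z' => by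
    have hm : ∀ w, g ((f ∣_ V) (q.fiberι s w)) = s := fun w => by
      have : q.fiberι s w ∈ Set.range (q.fiberι s) := ⟨w, rfl⟩
      rw [Scheme.Hom.range_fiberι] at this
      exact this
    have he : ∀ w, f ((f ⁻¹ᵁ V).ι (q.fiberι s w)) = V.ι ((f ∣_ V) (q.fiberι s w)) := fun w => by
      rw [← Scheme.Hom.comp_apply, ← Scheme.Hom.comp_apply (g := V.ι), morphismRestrict_ι]
    show f ((f ⁻¹ᵁ V).ι _) = f ((f ⁻¹ᵁ V).ι _)
    rw [he, he, g.isOpenEmbedding.injective ((hm z).trans (hm z').symm)]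
  by_cases hc : ∀ z, h z ∈ Set.range ι
  · choose r hr using hc
    have hi : Topology.IsInducing r := by
      refine ι.isClosedEmbedding.isInducing.of_comp_iff.1 ?_
      rw [show (⇑ι ∘ r) = h from funext hr]
      exact hh.isInducing
    exact hi.topologicalKrullDim_le.trans hE
  · obtain ⟨z₀, hz₀⟩ := not_forall.1 hc
    haveI : Subsingleton (q.fiber s) := ⟨fun z z' => by
      have hne : ∀ w, f (h w) ≠ y := fun w hw => hz₀ (by
        have : h z₀ ∈ f ⁻¹' {y} := (hfh z₀ w).trans hw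
        rwa [hsat] at this)
      let O : Y.Opens := ⟨{y}ᶜ, hy.isOpen_compl⟩
      obtain ⟨a, ha⟩ : h z ∈ Set.range (f ⁻¹ᵁ O).ι := by rw [Scheme.Opens.range_ι]; exact hne z
      obtain ⟨b, hb⟩ : h z' ∈ Set.range (f ⁻¹ᵁ O).ι := by rw [Scheme.Opens.range_ι]; exact hne z'
      have : (f ∣_ O) a = (f ∣_ O) b := by
        apply O.ι.isOpenEmbedding.injective
        rw [← Scheme.Hom.comp_apply, ← Scheme.Hom.comp_apply, morphismRestrict_ι, Scheme.Hom.comp_apply,
          Scheme.Hom.comp_apply, ha, hb, hfh z z']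
      exact hh.injective (by rw [← ha, ← hb, (f ∣_ O).isOpenEmbedding.injective this])⟩
    have hi : Topology.IsInducing (fun _ : q.fiber s => (Classical.arbitrary E)) := ⟨Subsingleton.elim _ _⟩
    exact hi.topologicalKrullDim_le.trans hE

theorem mem_basicOpen_topIso_inv {X : Scheme.{u}} (U : X.Opens) (r : Γ(X, U)) (x : (U : Scheme.{u})) :
    x ∈ (U : Scheme.{u}).basicOpen (U.topIso.inv r) ↔ U.ι x ∈ X.basicOpen r := by
  rw [← Scheme.Opens.ι_image_basicOpen_topIso_inv U r]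
  refine ⟨fun h => ⟨x, h, rfl⟩, fun h => ?_⟩
  obtain ⟨z, hz, he⟩ := h
  rwa [U.ι.isOpenEmbedding.injective he] at hz

set_option maxHeartbeats 2000000 in
/-- The cotangent space at the image of a contracted curve whose conormal sheaf is ample. -/
theorem finrank_cotangent {X Y C : Scheme.{u}} [IsLocallyNoetherian Y] [Y.IsSeparated] (f : X ⟶ Y) [IsProper f]
    (hbij : ∀ W : Y.Opens, Function.Bijective (f.app W).hom)
    {y : Y} (hy : IsClosed ({y} : Set Y)) [IsIso (f ∣_ (⟨{y}ᶜ, hy.isOpen_compl⟩ : Y.Opens))]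
    (ι : C ⟶ X) [IsClosedImmersion ι] (hsat : f ⁻¹' {y} = Set.range ι)
    (F : Type u) [Field F] [C.Over (Spec (CommRingCat.of F))] [IsProper (C ↘ Spec (CommRingCat.of F))] [IsIntegral C]
    (hd : topologicalKrullDim C = 1) (h1 : Subsingleton (Coh.HH C (Coh.structureModule C) 1))
    (hK : PicF.IsInvertible (ClSub.idealMod ι.ker)) {d : ℕ}
    (hd1 : 1 ≤ d) (hdeg : Curv2.deg F C (pb ι (ClSub.idealMod ι.ker)) 1 = (d : ℤ) * (VertChiLib.w F C : ℤ))
    (W : X.Opens) (hW : Set.range ι ⊆ (W : Set X)) {H : X.Modules} (hH : PicF.IsInvertible H)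
    (hHA : CohB1.IsAmple H) {b : ℕ} (hb : 1 ≤ b)
    (hWiso : Nonempty (pb W.ι (CohB1.tensorPow (ClSub.idealMod ι.ker) b) ≅ pb W.ι H)) :
    Module.finrank (ResidueField (Y.presheaf.stalk y)) (CotangentSpace (Y.presheaf.stalk y)) = d + 1 := by
  -- an affine neighbourhood whose preimage lies in `W`
  let V₁ : Y.Opens := ⟨(f '' (W : Set X)ᶜ)ᶜ, (f.isClosedMap _ W.2.isClosed_compl).isOpen_compl⟩
  have hyV₁ : y ∈ V₁ := by
    rintro ⟨x, hx, hxy⟩
    exact hx (hW (hsat ▸ (hxy : x ∈ f ⁻¹' {y})))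
  obtain ⟨V, hV, hyV, hVV₁⟩ := exists_isAffineOpen_mem_and_subset hyV₁
  let U : X.Opens := f ⁻¹ᵁ V
  have hUW : U ≤ W := fun x hx => by
    by_contra hxW
    exact hVV₁ hx ⟨x, hxW, rfl⟩
  have hιU : Set.range ι ⊆ (U : Set X) := fun x hx => by
    rw [← hsat] at hx
    show f x ∈ V
    rw [show f x = y from hx]
    exact hyV
  haveI : IsNoetherianRing Γ(Y, V) := IsLocallyNoetherian.component_noetherian ⟨V, hV⟩
  let q : (U : Scheme.{u}) ⟶ Spec (CommRingCat.of Γ(Y, V)) := (f ∣_ V) ≫ hV.isoSpec.hom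
  haveI : IsProper (f ∣_ V) := MorphismProperty.of_isPullback (P := @IsProper) (isPullback_morphismRestrict f V).flip inferInstance
  haveI : IsProper q := inferInstanceAs (IsProper (_ ≫ _))
  obtain ⟨c₀⟩ : Nonempty C := inferInstance
  have hfib : ∀ s, topologicalKrullDim ↥(q.fiber s) ≤ ((1 : ℕ) : WithBot ℕ∞) := fun s =>
    haveI : Nonempty C := ⟨c₀⟩
    fibre_dim_le f V y hy ι hsat hd.le hV.isoSpec.hom s
  -- the curve in the neighbourhood
  let j : C ⟶ U := IsOpenImmersion.lift U.ι ι (by rw [Scheme.Opens.range_ι]; exact hιU)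
  have hj : j ≫ U.ι = ι := IsOpenImmersion.lift_fac _ _ _
  haveI : IsClosedImmersion (j ≫ U.ι) := by rw [hj]; infer_instance
  haveI : IsClosedImmersion j := IsClosedImmersion.of_comp j U.ι
  have hker : ι.ker.comap U.ι = j.ker := by
    have sq : IsPullback j (𝟙 C) U.ι ι := IsPullback.of_vert_isIso_mono ⟨by rw [hj, Category.id_comp]⟩
    rw [← Scheme.IdealSheafData.ker_fst_of_isClosedImmersion ι U.ι, ← sq.isoPullback_hom_fst]
    exact (Scheme.Hom.ker_comp_of_isIso _ _).symm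
  let K := ClSub.idealMod ι.ker
  haveI : Mono (PicH1Lib.toComap U.ι ι.ker) := mono_of_mono_fac (PicH1Lib.toComap_ι U.ι ι.ker)
  haveI := SymSqLib.epi_toComap U.ι ι.ker
  haveI : IsIso (PicH1Lib.toComap U.ι ι.ker) := isIso_of_mono_of_epi _
  let eM : pb U.ι K ≅ ClSub.idealMod j.ker :=
    asIso (PicH1Lib.toComap U.ι ι.ker) ≪≫ eqToIso (congrArg ClSub.idealMod hker)
  have hM : PicF.IsInvertible (ClSub.idealMod j.ker) :=
    HilbPolyLib.isInvertible_of_iso eM (AmpleDevLib.isInvertible_pb _ hK)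
  haveI : IsAffineHom U.ι := by
    haveI : IsAffine (V : Scheme.{u}) := hV
    haveI : IsAffineHom V.ι := by
      haveI : IsAffineHom (V.ι ≫ terminal.from Y) := inferInstance
      exact IsAffineHom.of_comp V.ι (terminal.from Y)
    exact MorphismProperty.of_isPullback (P := @IsAffineHom) (isPullback_morphismRestrict f V) inferInstance
  have hA : CohB1.IsAmple (ClSub.idealMod j.ker) := by
    obtain ⟨e⟩ := hWiso
    obtain ⟨φ, -⟩ := AmpleDevLib.exists_pullPowIso U.ι hK b
    let α : pb U.ι (CohB1.tensorPow K b) ≅ pb U.ι H :=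
      ((Scheme.Modules.pullbackCongr (X.homOfLE_ι hUW)).app _).symm ≪≫
        ((Scheme.Modules.pullbackComp (X.homOfLE hUW) W.ι).app _).symm ≪≫
        (Scheme.Modules.pullback (X.homOfLE hUW)).mapIso e ≪≫
        (Scheme.Modules.pullbackComp (X.homOfLE hUW) W.ι).app _ ≪≫
        (Scheme.Modules.pullbackCongr (X.homOfLE_ι hUW)).app _
    have h0 := AmpleDevLib.isAmple_of_iso (AmpleDevLib.isInvertible_pb _ hH)
      (AmpleThLib.tensorPow_isInvertible (AmpleDevLib.isInvertible_pb _ hK) b) (α.symm ≪≫ φ)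
      (AmpleDevLib.isAmple_pb (f := U.ι) hH hHA)
    exact AmpleDevLib.isAmple_of_iso (AmpleDevLib.isInvertible_pb _ hK) hM eM
      ((AmpleThLib.isAmple_tensorPow_iff (AmpleDevLib.isInvertible_pb _ hK) (by omega)).2 h0)
  let N := pb j (ClSub.idealMod j.ker)
  have hdegN : Curv2.deg F C N 1 = (d : ℤ) * (VertChiLib.w F C : ℤ) := by
    rw [← hdeg]
    exact CurvLib.deg_congr ((Scheme.Modules.pullback j).mapIso eM.symm ≪≫
      (Scheme.Modules.pullbackComp j U.ι).app _ ≪≫ (Scheme.Modules.pullbackCongr hj).app _) 1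
  have hpos : 0 < Curv2.deg F C N 1 := by
    rw [hdegN]
    exact mul_pos (by exact_mod_cast hd1) (by exact_mod_cast (VertChiLib.w_pos_and_dvd (k := F) (Y := C)).1)
  have hπ := appTop_surjective j q F hd h1 hM hA hpos
  -- functions on the neighbourhood
  let φ : Γ(Y, V) ≃+* Γ((U : Scheme.{u}), ⊤) :=
    (RingEquiv.ofBijective _ (hbij V)).trans U.topIso.symm.commRingCatIsoToRingEquiv
  letI : Field Γ(C, ⊤) := (isField_constants F (C := C)).toField
  let π : Γ(Y, V) →+* Γ(C, ⊤) := j.appTop.hom.comp φ.toRingHom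
  have hπs : Function.Surjective π := hπ.comp φ.surjective
  letI : Algebra Γ(Y, V) (Y.presheaf.stalk y) := (Y.presheaf.germ V y hyV).hom.toAlgebra
  haveI hloc : IsLocalization.AtPrime (Y.presheaf.stalk y) (hV.primeIdealOf ⟨y, hyV⟩).asIdeal :=
    hV.isLocalization_stalk ⟨y, hyV⟩
  have hbasic : ∀ a : Γ(Y, V), y ∈ Y.basicOpen a → π a ≠ 0 := fun a ha h0 => by
    have hyc : f (ι c₀) = y := by
      have h : ι c₀ ∈ f ⁻¹' {y} := by rw [hsat]; exact ⟨c₀, rfl⟩
      exact h
    have hx : j c₀ ∈ (U : Scheme.{u}).basicOpen (φ a) := by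
      show j c₀ ∈ (U : Scheme.{u}).basicOpen (U.topIso.inv (f.app V a))
      rw [mem_basicOpen_topIso_inv, ← Scheme.preimage_basicOpen, show U.ι (j c₀) = ι c₀ from congrArg (fun g : C ⟶ X => g c₀) hj]
      show f (ι c₀) ∈ Y.basicOpen a
      rwa [hyc]
    have h2 : c₀ ∈ C.basicOpen (j.appTop (φ a)) := by
      rw [← Scheme.preimage_basicOpen_top]
      exact hx
    rw [show j.appTop (φ a) = (0 : Γ(C, ⊤)) from h0, Scheme.basicOpen_zero] at h2
    exact h2
  have hp : RingHom.ker π = (hV.primeIdealOf ⟨y, hyV⟩).asIdeal := by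
    refine (RingHom.ker_isMaximal_of_surjective π hπs).eq_of_le (hV.primeIdealOf ⟨y, hyV⟩).2.ne_top fun a ha => ?_
    by_contra hn
    refine hbasic a ?_ ha
    rw [Scheme.mem_basicOpen Y a y hyV]
    exact (IsLocalization.AtPrime.isUnit_to_map_iff (Y.presheaf.stalk y) (hV.primeIdealOf ⟨y, hyV⟩).asIdeal a).2 hn
  haveI : (RingHom.ker π).IsMaximal := RingHom.ker_isMaximal_of_surjective π hπs
  haveI : IsLocalization.AtPrime (Y.presheaf.stalk y) (RingHom.ker π) := by
    simp only [hp]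
    exact hloc
  -- functions separating the curve
  have hsep : ∀ x : (U : Scheme.{u}), x ∉ Set.range j →
      ∃ a : Γ((U : Scheme.{u}), ⊤), j.appTop a = 0 ∧ x ∈ (U : Scheme.{u}).basicOpen a := fun x hx => by
    have hne : f x.1 ≠ y := fun h => by
      have h' : x.1 ∈ f ⁻¹' {y} := h
      rw [hsat] at h'
      obtain ⟨c, hc⟩ := h'
      exact hx ⟨c, U.ι.isOpenEmbedding.injective ((congrArg (fun g : C ⟶ X => g c) hj).trans hc)⟩
    let O : Y.Opens := ⟨{y}ᶜ, hy.isOpen_compl⟩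
    obtain ⟨a, ha, hxa⟩ := hV.exists_basicOpen_le (V := O) ⟨f x.1, hne⟩ x.2
    refine ⟨φ a, ?_, ?_⟩
    · show π a = 0
      by_contra h
      have h' : a ∉ (hV.primeIdealOf ⟨y, hyV⟩).asIdeal := hp ▸ h
      have : y ∈ Y.basicOpen a := by
        rw [Scheme.mem_basicOpen Y a y hyV]
        exact (IsLocalization.AtPrime.isUnit_to_map_iff (Y.presheaf.stalk y) _ a).2 h'
      exact ha this rfl
    · show x ∈ (U : Scheme.{u}).basicOpen (U.topIso.inv (f.app V a))
      rw [mem_basicOpen_topIso_inv, ← Scheme.preimage_basicOpen]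
      exact hxa
  obtain ⟨ψ, hψ, hψ0, hψs⟩ := exists_cotangent_map j q hfib F hd h1 hM hA hpos hsep
  let ψ' : RingHom.ker π →+ Γ(pb j (CohB1.tensorPow (ClSub.idealMod j.ker) 1), ⊤) :=
    ψ.comp { toFun := fun a => ⟨φ a.1, RingHom.mem_ker.2 (show π a.1 = 0 from RingHom.mem_ker.1 a.2)⟩
             map_zero' := Subtype.ext (map_zero φ)
             map_add' := fun a a' => Subtype.ext (map_add φ a.1 a'.1) }
  have hkmap : (RingHom.ker π).map φ.toRingHom = RingHom.ker j.appTop.hom := by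
    show ((RingHom.ker j.appTop.hom).comap φ.toRingHom).map φ.toRingHom = _
    exact Ideal.map_comap_of_surjective _ φ.surjective _
  have key := finrank_cotangentSpace_of_localization (RingHom.ker π) (Y.presheaf.stalk y) π hπs rfl ψ'
    (fun n => by
      obtain ⟨u, hu⟩ := hψ n
      obtain ⟨a, ha⟩ := φ.surjective u.1
      exact ⟨⟨a, RingHom.mem_ker.2 ((congrArg j.appTop.hom ha).trans (RingHom.mem_ker.1 u.2))⟩,
        (congrArg ψ (Subtype.ext ha)).trans hu⟩)
    (fun a => by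
      refine (hψ0 _).trans ?_
      show φ a.1 ∈ RingHom.ker j.appTop.hom ^ 2 ↔ _
      rw [← hkmap, ← Ideal.map_pow]
      refine ⟨fun h => ?_, fun h => Ideal.mem_map_of_mem _ h⟩
      obtain ⟨c, hc, hca⟩ := (Ideal.mem_map_iff_of_surjective φ.toRingHom φ.surjective).1 h
      rwa [← φ.injective hca])
    (fun r a => by
      show ψ _ = π r • ψ _
      refine (congrArg ψ ?_).trans (hψs (φ r) ⟨φ a.1, RingHom.mem_ker.2 (show π a.1 = 0 from RingHom.mem_ker.1 a.2)⟩)
      exact Subtype.ext (map_mul φ r a.1))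
  rw [key]
  obtain ⟨φN, -⟩ := AmpleDevLib.exists_pullPowIso j hM 1
  let eN := φN ≪≫ unitLeft N
  let eL : Γ(pb j (CohB1.tensorPow (ClSub.idealMod j.ker) 1), ⊤) ≃ₗ[Γ(C, ⊤)] Γ(N, ⊤) :=
    { AddEquiv.ofBijective (eN.hom.app ⊤).hom
        ((ConcreteCategory.isIso_iff_bijective (eN.hom.app ⊤)).1 inferInstance) with
      map_smul' := fun r x => QCohLib.app_smul eN.hom ⊤ r x }
  exact eL.finrank_eq.trans (finrank_sections F hd h1 (AmpleDevLib.isInvertible_pb j hM) hdegN hpos)

end RegConLib
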