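import Groth.Agent.RegConLib.ConfigLocal
import Groth.Agent.DimIneqLib.Dim
import Groth.Agent.S2431
import Groth.Agent.ChowLib.Embed

/-!
# Contraction of configurations of (-2)-curves
-/

set_option autoImplicit false
set_option linter.style.haveILetI false
set_option linter.unusedSectionVars false
set_option maxHeartbeats 1000000
set_option backward.isDefEq.respectTransparency false
set_option backward.isDefEq.respectTransparency.types false
universe u

open CategoryTheory CategoryTheory.Limits AlgebraicGeometry TopologicalSpace IsLocalRing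
open VertChiLib (J len)

noncomputable section

namespace RegConLib

/-- The quadratic form of a subfamily. -/
theorem form_embed {r m : ℕ} (e : Fin m ↪ Fin r) (A : Fin r → Fin r → ℤ) (c : Fin m → ℤ) :
    ∃ c' : Fin r → ℤ, (c ≠ 0 → c' ≠ 0) ∧
      (Finset.univ : Finset (Fin r × Fin r)).sum (fun p => c' p.1 * c' p.2 * A p.1 p.2) =
        (Finset.univ : Finset (Fin m × Fin m)).sum (fun p => c p.1 * c p.2 * A (e p.1) (e p.2)) := by
  classical
  refine ⟨fun i => ∑ k, if e k = i then c k else 0, fun hc h => hc (funext fun k => ?_), ?_⟩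
  · have h' := congrFun h (e k)
    simpa [e.injective.eq_iff] using h'
  rw [← Finset.univ_product_univ, Finset.sum_product, ← Finset.univ_product_univ, Finset.sum_product]
  simp only [Finset.sum_mul, Finset.mul_sum, ite_mul, mul_ite, zero_mul, mul_zero]
  rw [Finset.sum_comm]
  conv_lhs => enter [2, i]; rw [Finset.sum_comm]
  simp [Finset.sum_comm (γ := Fin r)]
  rw [Finset.sum_comm]

variable {R : Type u} [CommRing R] [IsDomain R] [IsDiscreteValuationRing R] {X : Over (Spec (CommRingCat.of R))}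
  (hX : ArSurf.IsArithSurface R X) {r : ℕ} (Γ : Fin r → ArSurf.VertComp R X)
  (hΓ : Function.Injective fun i => Set.range ((Γ i).ι.base : (Γ i).curve.left → X.left))
  (L : Fin r → X.left.Modules) (hL : ∀ j, ClSub.IsInverseOf (L j) (ClSub.idealMod (Γ j).ι.ker))
  (hneg : ∀ c : Fin r → ℤ, c ≠ 0 →
    (Finset.univ : Finset (Fin r × Fin r)).sum (fun p => c p.1 * c p.2 * ArSurf.inter R X (L p.2) (Γ p.1)) < 0)

include hX hΓ hL hneg in
/-- The fundamental cycle exists. -/
theorem exists_fundamental : ∃ z : Fin r → ℕ, (∀ i, 1 ≤ z i) ∧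
    (∀ i, ∑ j, (z j : ℤ) * ArSurf.inter R X (L j) (Γ i) ≤ 0) ∧
    ∀ z' : Fin r → ℕ, (∀ i, 1 ≤ z' i) → (∀ i, ∑ j, (z' j : ℤ) * ArSurf.inter R X (L j) (Γ i) ≤ 0) →
      ∀ i, z i ≤ z' i := by
  classical
  let P : (Fin r → ℕ) → Prop := fun z => (∀ i, 1 ≤ z i) ∧ ∀ i, ∑ j, (z j : ℤ) * ArSurf.inter R X (L j) (Γ i) ≤ 0
  obtain ⟨a, K, hK, ha1, haK⟩ := exists_negative_vector hX Γ hΓ L hL hneg (fun _ => 1) (fun _ => one_pos)
  have hex : ∃ m, ∃ z, P z ∧ ∑ i, z i = m := ⟨_, a, ⟨ha1, fun i => by rw [haK i]; simp⟩, rfl⟩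
  obtain ⟨z, hz, hzm⟩ := Nat.find_spec hex
  refine ⟨z, hz.1, hz.2, fun z' h1 h2 i => ?_⟩
  let w : Fin r → ℕ := fun j => min (z j) (z' j)
  have hw : P w := ⟨fun j => le_min (hz.1 j) (h1 j), fun i => by
    have key : ∀ u : Fin r → ℕ, (∀ j, w j ≤ u j) → w i = u i → ∑ j, (u j : ℤ) * ArSurf.inter R X (L j) (Γ i) ≤ 0 →
        ∑ j, (w j : ℤ) * ArSurf.inter R X (L j) (Γ i) ≤ 0 := fun u hu hi hu0 =>
      le_trans (Finset.sum_le_sum fun j _ => by
        rcases eq_or_ne i j with rfl | hij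
        · rw [hi]
        · exact mul_le_mul_of_nonneg_right (by exact_mod_cast hu j) (offdiag hX Γ hΓ L hL hij).1) hu0
    rcases le_total (z i) (z' i) with h | h
    · exact key z (fun j => min_le_left _ _) (min_eq_left h) (hz.2 i)
    · exact key z' (fun j => min_le_right _ _) (min_eq_right h) (h2 i)⟩
  have hle : Nat.find hex ≤ ∑ j, w j := Nat.find_min' hex ⟨w, hw, rfl⟩
  by_contra hlt
  have : ∑ j, w j < ∑ j, z j :=
    Finset.sum_lt_sum (fun j _ => min_le_left _ _) ⟨i, Finset.mem_univ i, lt_of_le_of_lt (min_le_right _ _) (not_le.1 hlt)⟩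
  omega

variable (htwo : ∀ i, Models.h1 R X (Γ i) = 0 ∧ ArSurf.inter R X (L i) (Γ i) = -2 * (Models.wdeg R X (Γ i) : ℤ))

include hX hL htwo in
theorem inter_canonical_zero (ω : X.left.Modules) (hω : Canon.IsCanonical X.hom ω) (i : Fin r) :
    ArSurf.inter R X ω (Γ i) = 0 := by
  have h := inter_add_inter_cst hX (Γ i) (L i) (hL i) ω hω
  rw [VertChiLib.cst, (htwo i).1, (htwo i).2, Nat.cast_zero, sub_zero] at h
  linarith

include hX hΓ hL hneg htwo in
/-- `H¹(O) = 0` and `Pic⁰ = 0` for divisors supported in (-2)-configurations. -/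
theorem minusTwo_vanish (a : Fin r → ℕ) :
    Subsingleton (Coh.HH (J Γ a).subscheme (Coh.structureModule (J Γ a).subscheme) 1) ∧
      ∀ N : ((J Γ a).subscheme).Modules, PicF.IsInvertible N →
        (∀ (i : Fin r) (g : (Γ i).curve.left ⟶ (J Γ a).subscheme), g ≫ (J Γ a).subschemeι = (Γ i).ι →
          ArSurf.curveDeg (ResidueField R) (Γ i).curve.left ((Scheme.Modules.pullback g).obj N) = 0) →
        Nonempty (N ≅ Coh.structureModule (J Γ a).subscheme) := by
  obtain ⟨ω, hω⟩ := exists_isCanonical hX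
  refine vanish_and_trivial (Γ := Γ) hX L hL ω hω _ a rfl fun a' _ ha' => ?_
  have h := hneg (fun i => (a' i : ℤ)) (fun h => ha' (funext fun i => by simpa using congrFun h i))
  have e := selfInt_eq Γ L a'
  rw [selfInt] at e
  rw [Finset.sum_congr rfl fun i _ => show (a' i : ℤ) *
      (∑ j, (a' j : ℤ) * ArSurf.inter R X (L j) (Γ i) + ArSurf.inter R X ω (Γ i)) =
      (a' i : ℤ) * ∑ j, (a' j : ℤ) * ArSurf.inter R X (L j) (Γ i) by
    rw [inter_canonical_zero hX Γ L hL htwo ω hω i, add_zero], ← e]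
  exact h

include hX hΓ hL hneg htwo in
/-- The cotangent space at the image of a connected configuration has dimension three. -/
theorem finrank_cotangent_minusTwo
    (hconn : _root_.IsConnected (⋃ i, Set.range ((Γ i).ι.base : (Γ i).curve.left → X.left)))
    {Y : Over (Spec (CommRingCat.of R))} [IsLocallyNoetherian Y.left] [Y.left.IsSeparated]
    (f : X ⟶ Y) [IsProper f.left] (hbij : ∀ W : Y.left.Opens, Function.Bijective (f.left.app W).hom)
    {y : Y.left} (hy : IsClosed ({y} : Set Y.left))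
    (hsat : f.left.base ⁻¹' {y} = ⋃ i, Set.range (Γ i).ι.base)
    (O : Y.left.Opens) (hyO : y ∈ O) (hiso : ∀ V : Y.left.Opens, y ∉ V → V ≤ O → IsIso (f.left ∣_ V)) :
    Module.finrank (ResidueField (Y.left.presheaf.stalk y)) (CotangentSpace (Y.left.presheaf.stalk y)) = 3 := by
  obtain ⟨ω, hω⟩ := exists_isCanonical hX
  haveI : IsProper X.hom := VertIntLib.isProper_of_isArithSurface hX
  obtain ⟨z, hz1, hz, hmin⟩ := exists_fundamental hX Γ hΓ L hL hneg
  obtain ⟨h1, h2⟩ := exists_hilbert hX Γ hΓ L hL hconn hneg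
    (fun a _ => minusTwo_vanish hX Γ hΓ L hL hneg htwo a) z hz1 hz hmin f hbij hy hsat O hyO hiso
  letI : Algebra R (Y.left.presheaf.stalk y) := (Models.stalkHom R Y y).toAlgebra
  have h3 := h2 1 le_rfl
  rw [length_cotangent (R := R) (S := Y.left.presheaf.stalk y), h1, pow_one,
    show Module.length R (Y.left.presheaf.stalk y ⧸ maximalIdeal (Y.left.presheaf.stalk y)) =
      (len R (ClSub.quotMod (J Γ z)) 0 : ℕ∞) from h1] at h3
  obtain ⟨x, hx⟩ := hconn.nonempty
  obtain ⟨i₀, -⟩ := Set.mem_iUnion.1 hx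
  have hz0 : z ≠ 0 := fun h => by have := hz1 i₀; rw [congrFun h i₀] at this; exact absurd this (by simp)
  obtain ⟨-, hχ, -⟩ := χ_eq_len0 hX Γ (fun a _ => (minusTwo_vanish hX Γ hΓ L hL hneg htwo a).1) z hz0
  have hg := two_χ_vert hX hΓ L hL ω hω z
  rw [Finset.sum_congr rfl fun i _ => show (z i : ℤ) *
      (∑ j, (z j : ℤ) * ArSurf.inter R X (L j) (Γ i) + ArSurf.inter R X ω (Γ i)) =
      (z i : ℤ) * ∑ j, (z j : ℤ) * ArSurf.inter R X (L j) (Γ i) by
    rw [inter_canonical_zero hX Γ L hL htwo ω hω i, add_zero], ← selfInt_eq, hχ] at hg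
  have hpos : len R (ClSub.quotMod (J Γ z)) 0 ≠ 0 := fun h0 => by
    rw [h0, Nat.cast_zero] at h1
    exact not_subsingleton _ (Module.length_eq_zero_iff.1 h1)
  have ht : ((((1 : ℕ) : ℤ) * -selfInt Γ L z).toNat : ℤ) = -selfInt Γ L z := by
    rw [Nat.cast_one, one_mul]
    exact Int.toNat_of_nonneg (by linarith [Int.natCast_nonneg (len R (ClSub.quotMod (J Γ z)) 0)])
  rw [← Nat.cast_mul, ← Nat.cast_add, ← Nat.cast_add, Nat.cast_inj] at h3
  have h4 : ((Module.finrank (ResidueField (Y.left.presheaf.stalk y)) (CotangentSpace (Y.left.presheaf.stalk y)) : ℤ) - 3) *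
      (len R (ClSub.quotMod (J Γ z)) 0 : ℤ) = 0 := by
    have h5 := congrArg (fun n : ℕ => (n : ℤ)) h3
    push_cast at h5 ht
    linear_combination h5 + ht - hg
  rcases mul_eq_zero.1 h4 with h | h
  · omega
  · exact absurd (by exact_mod_cast h) hpos

omit hΓ hneg htwo in
include hX in
theorem finrank_cotangent_le_two {Y : Scheme.{u}} (f : X.left ⟶ Y) (V : Y.Opens) [IsIso (f ∣_ V)] {q : Y} (hq : q ∈ V) :
    Module.finrank (ResidueField (Y.presheaf.stalk q)) (CotangentSpace (Y.presheaf.stalk q)) ≤ 2 := by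
  obtain ⟨x, hx⟩ := (f ∣_ V).homeomorph.surjective ⟨q, hq⟩
  have hxq : f x.1 = q := (morphismRestrict_base_coe f V x).symm.trans (congrArg Subtype.val hx)
  haveI : IsIso (f.stalkMap x.1) :=
    (MorphismProperty.arrow_mk_iso_iff (MorphismProperty.isomorphisms _) (morphismRestrictStalkMap f V x)).1
      (inferInstanceAs (IsIso ((f ∣_ V).stalkMap x)))
  haveI := hX.1 x.1
  subst hxq
  let e := (asIso (f.stalkMap x.1)).commRingCatIsoToRingEquiv
  haveI : IsRegularLocalRing (Y.presheaf.stalk (f x.1)) := IsRegularLocalRing.of_ringEquiv e.symm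
  have h1 := (IsRegularLocalRing.iff_finrank_cotangentSpace (Y.presheaf.stalk (f x.1))).1 inferInstance
  have h2 : ringKrullDim (Y.presheaf.stalk (f x.1)) ≤ 2 := by
    rw [ringKrullDim_eq_of_ringEquiv e]
    exact (DimIneqLib.stalk_dim_le_dim x.1).trans hX.2.2.1.le
  rw [← h1] at h2
  exact_mod_cast h2

include hX hΓ hL hneg htwo in
/-- (-2)-configurations contract to points of tangent dimension at most three. -/
theorem exists_minusTwo_contraction :
    ∃ (Y : Over (Spec (CommRingCat.of R))) (f : X ⟶ Y),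
      IsIntegral Y.left ∧ (∀ q : Y.left, IsIntegrallyClosed (Y.left.presheaf.stalk q)) ∧
      topologicalKrullDim Y.left = 2 ∧ Flat Y.hom ∧ Neron.IsProjectiveOver R Y ∧
      (∀ i, ∃ y : Y.left, Set.range (((Γ i).ι ≫ f.left).base : (Γ i).curve.left → Y.left) = {y}) ∧
      f.left.base ⁻¹' (f.left.base '' ⋃ i, Set.range (Γ i).ι.base) = ⋃ i, Set.range (Γ i).ι.base ∧
      (∀ V : Y.left.Opens, (V : Set Y.left) ∩ f.left.base '' (⋃ i, Set.range (Γ i).ι.base) = ∅ →
        IsIso (f.left ∣_ V)) ∧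
      ∀ y : Y.left, Module.finrank (ResidueField (Y.left.presheaf.stalk y))
        (CotangentSpace (Y.left.presheaf.stalk y)) ≤ 3 := by
  classical
  haveI : IsProper X.hom := VertIntLib.isProper_of_isArithSurface hX
  have hX' := hX
  obtain ⟨hreg, hint, hdim, hflat, -⟩ := hX'
  haveI := hint
  obtain ⟨Y, f, hYi, hYn, hYd, hYf, hYp, hpt, hsat, hiso⟩ := ContractLib.exists_contraction hX Γ hΓ L hL hneg
    (fun a _ => (minusTwo_vanish hX Γ hΓ L hL hneg htwo a).2)
  refine ⟨Y, f, hYi, hYn, hYd, hYf, hYp, hpt, hsat, hiso, fun y => ?_⟩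
  haveI := hYi
  haveI : IsProper Y.hom := by
    obtain ⟨n, i, hi, w⟩ := hYp
    haveI := hi
    haveI := ChowLib.isProper_toBase n (Spec (CommRingCat.of R))
    rw [← w]; infer_instance
  haveI : IsLocallyNoetherian Y.left := LocallyOfFiniteType.isLocallyNoetherian Y.hom
  haveI : Y.left.IsSeparated := Scheme.IsSeparated.mk (by
    rw [terminal.hom_ext (terminal.from Y.left) (Y.hom ≫ terminal.from _)]
    infer_instance)
  haveI : IsProper f.left := by
    haveI : IsProper (f.left ≫ Y.hom) := by rw [Over.w f]; infer_instance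
    exact IsProper.of_comp f.left Y.hom
  choose c hc using hpt
  have hclc : ∀ i, IsClosed ({c i} : Set Y.left) := fun i => by
    rw [← hc i]; exact ((Γ i).ι ≫ f.left).isClosedMap.isClosed_range
  have hfc : ∀ i w, f.left ((Γ i).ι w) = c i := fun i w => by
    have : f.left ((Γ i).ι w) ∈ Set.range (((Γ i).ι ≫ f.left).base : (Γ i).curve.left → Y.left) := ⟨w, rfl⟩
    rw [hc i] at this
    exact this
  have him : f.left.base '' (⋃ i, Set.range (Γ i).ι.base) = Set.range c := by
    ext p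
    constructor
    · rintro ⟨x, hx, rfl⟩
      obtain ⟨i, w, rfl⟩ := Set.mem_iUnion.1 hx
      exact ⟨i, (hfc i w).symm⟩
    · rintro ⟨i, rfl⟩
      obtain ⟨w⟩ : Nonempty (Γ i).curve.left := inferInstance
      exact ⟨(Γ i).ι w, Set.mem_iUnion.2 ⟨i, w, rfl⟩, hfc i w⟩
  have hI : IsClosed (Set.range c) := by
    rw [← Set.iUnion_singleton_eq_range]
    exact isClosed_iUnion_of_finite hclc
  let V₀ : Y.left.Opens := ⟨(Set.range c)ᶜ, hI.isOpen_compl⟩
  haveI : IsIso (f.left ∣_ V₀) := hiso V₀ (by rw [him]; exact Set.compl_inter_self _)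
  by_cases hyI : y ∈ Set.range c
  swap
  · exact (finrank_cotangent_le_two hX f.left V₀ (show y ∈ V₀ from hyI)).trans (by norm_num)
  obtain ⟨i₀, rfl⟩ := hyI
  have hV₀ : Nonempty V₀ := by
    by_contra hne
    have hall : ∀ p : Y.left, p ∈ Set.range c := fun p => by_contra fun hp => hne ⟨⟨p, hp⟩⟩
    obtain ⟨i, hi⟩ := hall (genericPoint Y.left)
    haveI : Subsingleton Y.left := ⟨fun a b => by
      have key : ∀ p : Y.left, p = c i := fun p => by
        have h := ((genericPoint_spec Y.left).specializes (Set.mem_univ p)).mem_closed (hclc i)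
          (show genericPoint Y.left ∈ ({c i} : Set Y.left) from hi.symm)
        exact h
      rw [key a, key b]⟩
    have h0 := topologicalKrullDim_zero_of_discreteTopology Y.left
    rw [hYd] at h0
    norm_num at h0
  have hbij := BlanchardLib.bijective_app_of_birational (fun p => ⟨inferInstance, hYn p⟩) f.left V₀ hV₀ inferInstance
  -- the curves over the point
  let s : Finset (Fin r) := Finset.univ.filter fun i => c i = c i₀
  let e : Fin s.card ↪ Fin r := (s.orderEmbOfFin rfl).toEmbedding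
  let Γ' : Fin s.card → ArSurf.VertComp R X := fun k => Γ (e k)
  have hce : ∀ k, c (e k) = c i₀ := fun k => (Finset.mem_filter.1 (s.orderEmbOfFin_mem rfl k)).2
  have hex : ∀ i, c i = c i₀ → ∃ k, e k = i := fun i hi => by
    have : i ∈ Set.range (s.orderEmbOfFin rfl) := by
      rw [Finset.range_orderEmbOfFin]
      exact Finset.mem_filter.2 ⟨Finset.mem_univ i, hi⟩
    exact this
  have hpre : f.left.base ⁻¹' {c i₀} = ⋃ k, Set.range (Γ' k).ι.base := by
    ext x
    constructor
    · intro hx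
      have hx' : x ∈ f.left.base ⁻¹' (f.left.base '' ⋃ i, Set.range (Γ i).ι.base) := by
        show f.left x ∈ f.left.base '' _
        rw [him]
        exact ⟨i₀, (hx : f.left x = c i₀).symm⟩
      rw [hsat] at hx'
      obtain ⟨i, w, rfl⟩ := Set.mem_iUnion.1 hx'
      obtain ⟨k, rfl⟩ := hex i ((hfc i w).symm.trans hx)
      exact Set.mem_iUnion.2 ⟨k, w, rfl⟩
    · intro hx
      obtain ⟨k, w, rfl⟩ := Set.mem_iUnion.1 hx
      exact (hfc (e k) w).trans (hce k)
  have hconn : _root_.IsConnected (⋃ k, Set.range ((Γ' k).ι.base : (Γ' k).curve.left → X.left)) := by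
    rw [← hpre]
    haveI := (Groth.Agent.S2431.result f.left fun W => (ConcreteCategory.isIso_iff_bijective _).2 (hbij W)).1 (c i₀)
    have h := isConnected_range (f.left.fiberι (c i₀)).continuous
    rwa [Scheme.Hom.range_fiberι] at h
  have hneg' : ∀ a : Fin s.card → ℤ, a ≠ 0 → (Finset.univ : Finset (Fin s.card × Fin s.card)).sum
      (fun p => a p.1 * a p.2 * ArSurf.inter R X (L (e p.2)) (Γ' p.1)) < 0 := fun a ha => by
    obtain ⟨a', ha', hsum⟩ := form_embed e (fun i k => ArSurf.inter R X (L k) (Γ i)) a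
    exact lt_of_eq_of_lt hsum.symm (hneg a' (ha' ha))
  have hrest : IsClosed (c '' {i | c i ≠ c i₀}) := by
    rw [← Set.biUnion_of_singleton (c '' _)]
    refine ((Set.toFinite _).image c).isClosed_biUnion ?_
    rintro _ ⟨i, -, rfl⟩
    exact hclc i
  let O : Y.left.Opens := ⟨(c '' {i | c i ≠ c i₀})ᶜ, hrest.isOpen_compl⟩
  refine le_of_eq (finrank_cotangent_minusTwo hX Γ' (fun a b h => e.injective (hΓ h)) (fun k => L (e k))
    (fun k => hL (e k)) hneg' (fun k => htwo (e k)) hconn f hbij (hclc i₀) hpre O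
    (by rintro ⟨i, hi, h⟩; exact hi h) fun V hy hVO => hiso V ?_)
  rw [him, Set.eq_empty_iff_forall_notMem]
  rintro p ⟨hpV, i, rfl⟩
  by_cases hi : c i = c i₀
  · exact hy (hi ▸ hpV)
  · exact hVO hpV ⟨i, hi, rfl⟩

end RegConLib
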