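import Groth.Agent.ContractLib.DivSec
import Groth.Agent.CycKSuppLib.Killed
import Groth.Agent.CohCmpLib.HC
import Groth.Agent.CohCmpLib.RankOne
import Groth.Agent.NumTrivLib.Transfer
import Groth.Agent.CurvLib.SupportVanish
import Groth.Agent.KFlatLib.StalkPull
import Groth.Agent.KFlatLib.Stalk

/-!
# Peeling off a component of a one-dimensional scheme
-/

set_option autoImplicit false
set_option linter.style.haveILetI false
set_option linter.unusedSectionVars false
set_option maxHeartbeats 1000000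
set_option backward.isDefEq.respectTransparency false
set_option backward.isDefEq.respectTransparency.types false
universe u

open CategoryTheory CategoryTheory.Limits AlgebraicGeometry TopologicalSpace Opposite
open AmpleLib (GenAt GenOn)
open TwistLib (genSet)
open KFlatLib (pb puSec)
open CohCmpLib (HC hm hd h0E)

noncomputable section

namespace RegConLib

section Top

variable {W : Scheme.{u}} [NoetherianSpace W] (hd1 : topologicalKrullDim W ≤ ((1 : ℕ) : WithBot ℕ∞))

include hd1 in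
theorem subsingleton_H1_of_epi {G F : W.Modules} (p : G ⟶ F) [Epi p] (h : Subsingleton (Coh.HH W G 1)) :
    Subsingleton (Coh.HH W F 1) := by
  let S := ShortComplex.mk (kernel.ι p) p (kernel.condition p)
  have hS : S.ShortExact := { exact := ShortComplex.exact_of_f_is_kernel _ (kernelIsKernel p) }
  haveI h2 : Subsingleton (Coh.HH W (kernel p) 2) :=
    CurvLib.subsingleton_HH_of_dim_le (kernel p) hd1 2 (by omega)
  refine ⟨fun x y => ?_⟩
  obtain ⟨a, ha⟩ := CohCmpLib.hd_exact₃ hS 1 x (@Subsingleton.elim _ h2 _ _)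
  obtain ⟨b, hb⟩ := CohCmpLib.hd_exact₃ hS 1 y (@Subsingleton.elim _ h2 _ _)
  rw [← ha, ← hb, @Subsingleton.elim _ h a b]

variable {S : ShortComplex W.Modules} (hex : S.Exact) [Epi S.g] (h1 : Subsingleton (Coh.HH W S.X₁ 1))

include hd1 hex h1 in
theorem subsingleton_H1_kernel : Subsingleton (Coh.HH W (kernel S.g) 1) := by
  haveI := hex.epi_kernelLift
  exact subsingleton_H1_of_epi hd1 (kernel.lift S.g S.f S.zero) h1

include hd1 hex h1 in
theorem exists_lift (t : Γ(S.X₃, ⊤)) : ∃ s : Γ(S.X₂, ⊤), S.g.app ⊤ s = t := by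
  let T := ShortComplex.mk (kernel.ι S.g) S.g (kernel.condition S.g)
  have hT : T.ShortExact := { exact := ShortComplex.exact_of_f_is_kernel _ (kernelIsKernel S.g) }
  haveI := subsingleton_H1_kernel hd1 hex h1
  obtain ⟨a, ha⟩ := CohCmpLib.hd_exact₃ hT 0 ((h0E S.X₃).symm t)
    (@Subsingleton.elim _ (subsingleton_H1_kernel hd1 hex h1) _ _)
  refine ⟨h0E S.X₂ a, ?_⟩
  rw [← CohCmpLib.h0E_hm]
  exact (congrArg (h0E S.X₃) ha).trans ((h0E S.X₃).apply_symm_apply t)

include hd1 hex h1 in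
theorem subsingleton_H1_mid (h3 : Subsingleton (Coh.HH W S.X₃ 1)) : Subsingleton (Coh.HH W S.X₂ 1) := by
  let T := ShortComplex.mk (kernel.ι S.g) S.g (kernel.condition S.g)
  have hT : T.ShortExact := { exact := ShortComplex.exact_of_f_is_kernel _ (kernelIsKernel S.g) }
  have hk := subsingleton_H1_kernel hd1 hex h1
  refine ⟨fun x y => ?_⟩
  obtain ⟨a, ha⟩ := CohCmpLib.hd_exact₂ hT 1 x (@Subsingleton.elim _ h3 _ _)
  obtain ⟨b, hb⟩ := CohCmpLib.hd_exact₂ hT 1 y (@Subsingleton.elim _ h3 _ _)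
  rw [← ha, ← hb, @Subsingleton.elim _ hk a b]

end Top

/-- A section with generating image generates. -/
theorem genOn_of_app {X : Scheme.{u}} {M M' : X.Modules} (hM : PicF.IsInvertible M) (hM' : PicF.IsInvertible M')
    (φ : M ⟶ M') (s : Γ(M, ⊤)) (h : GenOn M' (φ.app ⊤ s)) : GenOn M s := by
  haveI : IsIso (QCohLib.unitHom M' (φ.app ⊤ s)) := AmpleLib.isIso_unitHom _ h
  have hfac : QCohLib.unitHom M s ≫ φ = QCohLib.unitHom M' (φ.app ⊤ s) := QCohLib.app_unitHom_app _ _
  haveI : Epi (QCohLib.unitHom M s ≫ φ) := by rw [hfac]; infer_instance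
  haveI : Epi φ := epi_of_epi (QCohLib.unitHom M s) φ
  haveI : IsIso φ := CohCmpLib.isIso_of_epi_rank_one (CurvLib.locFree_of_isInvertible hM)
    (CurvLib.locFree_of_isInvertible hM') φ
  refine TwistLib.genOn_of_genAt fun x hx => ?_
  have e : (inv φ).app ⊤ (φ.app ⊤ s) = s := by
    show (φ ≫ inv φ).app ⊤ s = s
    rw [IsIso.hom_inv_id]
    rfl
  rw [← e]
  exact EvGGLib.genAt_app (inv φ) ((ConcreteCategory.isIso_iff_bijective _).1 inferInstance) (h.genAt hx)

/-- A trivial module has a generating section. -/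
theorem exists_genOn_of_iso {X : Scheme.{u}} {M : X.Modules} (e : M ≅ Coh.structureModule X) :
    ∃ t : Γ(M, ⊤), GenOn M t :=
  ⟨e.inv.app ⊤ (1 : Γ(X, ⊤)), TwistLib.genOn_of_genAt fun _ hx =>
    EvGGLib.genAt_app e.inv ((ConcreteCategory.isIso_iff_bijective _).1 inferInstance)
      ((AmpleLib.one_genOn (⊤ : X.Opens)).genAt hx)⟩

section Peel

variable {W Z C : Scheme.{u}} [NoetherianSpace W] (hd1 : topologicalKrullDim W ≤ ((1 : ℕ) : WithBot ℕ∞))
  (j : Z ⟶ W) [IsClosedImmersion j] (g : C ⟶ W) [IsClosedImmersion g] {G : C.Modules}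
  {S : ShortComplex W.Modules} (hex : S.Exact) [Epi S.g] (e₁ : S.X₁ ≅ (Coh.push g).obj G)
  (e₂ : S.X₂ ≅ Coh.structureModule W) (e₃ : S.X₃ ≅ (Coh.push j).obj (Coh.structureModule Z))

include hd1 hex e₂ in
theorem subsingleton_H1_structure (h1 : Subsingleton (Coh.HH W S.X₁ 1))
    (h3 : Subsingleton (Coh.HH W S.X₃ 1)) : Subsingleton (Coh.HH W (Coh.structureModule W) 1) := by
  haveI : Epi e₂.hom := inferInstance
  exact subsingleton_H1_of_epi hd1 e₂.hom (subsingleton_H1_mid hd1 hex h1 h3)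

/-- A pulled back module vanishes off the support. -/
theorem isZero_pullback_push (M : Z.Modules) (hdis : ∀ c : C, g c ∉ Set.range j.base) :
    IsZero ((Scheme.Modules.pullback g).obj ((Coh.push j).obj M)) := by
  refine KFlatLib.isZero_of_stalks fun c => ?_
  have h0 : Subsingleton (((Coh.push j).obj M).presheaf.stalk (g c)) := by
    by_contra h
    exact hdis c (DevissLib.support_push_subset j M (show g c ∈ CohB1.support ((Coh.push j).obj M) from h))
  have hz : IsZero ((DerSch.stalkFunctor W (g c)).obj ((Coh.push j).obj M)) :=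
    @ModuleCat.isZero_of_subsingleton _ _ _ h0
  exact ModuleCat.subsingleton_of_isZero
    ((Functor.map_isZero (ModuleCat.extendScalars.{u, u, u} (g.stalkMap c).hom) hz).of_iso
      ((KFlatLib.stalkPullIso g c).app ((Coh.push j).obj M)))

variable {k : Type u} [Field k] [C.Over (Spec (CommRingCat.of k))] [IsProper (C ↘ Spec (CommRingCat.of k))]
  [IsIntegral C]

include hd1 hex e₁ e₂ e₃ in
/-- Triviality of a line bundle by lifting a generator. -/
theorem nonempty_trivial_of_peel (hC : topologicalKrullDim C = 1) (hcover : ∀ w : W, w ∈ Set.range j.base ∨ w ∈ Set.range g.base)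
    (hG : PicF.IsInvertible G) {N : W.Modules} (hN : PicF.IsInvertible N)
    (hdeg : Curv2.deg k C (pb g N) 1 = 0)
    (hH : Subsingleton (Coh.HH W ((Coh.push g).obj (CohB1.tensorMod (pb g N) G)) 1))
    (hgl : Nonempty (pb g N ≅ Coh.structureModule C)) (hZ : Nonempty (pb j N ≅ Coh.structureModule Z)) : Nonempty (N ≅ Coh.structureModule W) := by
  have hNf : FlatMod.IsFinLocFree N := CurveVBLib.isFinLocFree_of_rank (CurvLib.locFree_of_isInvertible hN)
  let T := S.map (ProjFormLib.tF N)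
  haveI : PreservesColimit (parallelPair S.f 0) (ProjFormLib.tF N) := inferInstance
  have hT : T.Exact := hex.map_of_epi_of_preservesCokernel (ProjFormLib.tF N) inferInstance inferInstance
  haveI : Epi T.g := inferInstanceAs (Epi ((ProjFormLib.tF N).map S.g))
  obtain ⟨p₁⟩ := NumTrivLib.nonempty_proj g G hN
  let G' := CohB1.tensorMod (pb g N) G
  let a₁ : T.X₁ ≅ (Coh.push g).obj G' := (ProjFormLib.tF N).mapIso e₁ ≪≫ p₁
  obtain ⟨p₃⟩ := NumTrivLib.nonempty_proj j (Coh.structureModule Z) hN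
  let a₂ : T.X₂ ≅ N := (ProjFormLib.tF N).mapIso e₂ ≪≫ HilbPolyLib.swapIso _ _ ≪≫ HilbPolyLib.unitLeft N
  let a₃ : T.X₃ ≅ (Coh.push j).obj (pb j N) := (ProjFormLib.tF N).mapIso e₃ ≪≫ p₃ ≪≫
    (Coh.push j).mapIso (HilbPolyLib.swapIso _ _ ≪≫ HilbPolyLib.unitLeft _)
  have h1 : Subsingleton (Coh.HH W T.X₁ 1) := by
    haveI : Epi a₁.inv := inferInstance
    exact subsingleton_H1_of_epi hd1 a₁.inv hH
  -- the lifted section
  obtain ⟨t, ht⟩ := exists_genOn_of_iso hZ.some
  obtain ⟨s₀, hs₀⟩ := exists_lift hd1 hT h1 (a₃.inv.app ⊤ t)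
  let s : Γ(N, ⊤) := a₂.hom.app ⊤ s₀
  let q : N ⟶ (Coh.push j).obj (pb j N) := a₂.inv ≫ T.g ≫ a₃.hom
  let adj := Scheme.Modules.pullbackPushforwardAdjunction j
  let φ : pb j N ⟶ pb j N := (adj.homEquiv N (pb j N)).symm q
  have hq : q.app ⊤ s = t := by
    show a₃.hom.app ⊤ (T.g.app ⊤ ((a₂.hom ≫ a₂.inv).app ⊤ s₀)) = t
    rw [Iso.hom_inv_id]
    show a₃.hom.app ⊤ (T.g.app ⊤ s₀) = t
    rw [hs₀]
    show (a₃.inv ≫ a₃.hom).app ⊤ t = t
    rw [Iso.inv_hom_id]
    rfl
  have hφ : φ.app ⊤ (puSec j s : Γ(pb j N, ⊤)) = t := by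
    have h := (adj.homEquiv N (pb j N)).apply_symm_apply q
    rw [Adjunction.homEquiv_unit] at h
    exact (congrArg (fun r : N ⟶ (Coh.push j).obj (pb j N) => r.app ⊤ s) h).trans hq
  have hjgen : GenOn (pb j N) (puSec j s : Γ(pb j N, ⊤)) :=
    genOn_of_app (AmpleDevLib.isInvertible_pb j hN) (AmpleDevLib.isInvertible_pb j hN) φ _ (by rw [hφ]; exact ht)
  have hj : ∀ (σ : Γ(N, ⊤)), GenOn (pb j N) (puSec j σ : Γ(pb j N, ⊤)) → ∀ z : Z, j z ∈ genSet hN σ := fun σ hσ z =>
    (AmpleDevLib.genSet_puSec j hN σ).le (show z ∈ genSet (AmpleDevLib.isInvertible_pb j hN) (puSec j σ : Γ(pb j N, ⊤)) from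
      hσ.genAt (show z ∈ (⊤ : Z.Opens) from trivial))
  have hfin : ∀ σ : Γ(N, ⊤), (∀ w, w ∈ genSet hN σ) → Nonempty (N ≅ Coh.structureModule W) := fun σ hσ => by
    have hg : GenOn N σ := TwistLib.genOn_of_genAt fun w _ => hσ w
    haveI := AmpleLib.isIso_unitHom _ hg
    exact ⟨(asIso (QCohLib.unitHom N σ)).symm⟩
  by_cases hmeet : ∃ c : C, g c ∈ Set.range j.base
  · obtain ⟨a, z, hz⟩ := hmeet
    refine hfin s fun w => ?_
    rcases hcover w with ⟨z', rfl⟩ | ⟨b, rfl⟩
    · exact hj s hjgen z'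
    · by_contra hb
      exact (ContractLib.deg_pos_of_mem k hC g hN s (hz ▸ hj s hjgen z) hb).ne' hdeg
  push_neg at hmeet
  -- the disjoint case: correct the section on the component
  let f : T.X₁ ⟶ N := T.f ≫ a₂.hom
  haveI hef : Epi ((Scheme.Modules.pullback g).map f) := by
    haveI : PreservesColimit (parallelPair T.f 0) (Scheme.Modules.pullback g) := inferInstance
    have hTg : (T.map (Scheme.Modules.pullback g)).Exact :=
      hT.map_of_epi_of_preservesCokernel _ inferInstance inferInstance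
    have hzero : IsZero ((Scheme.Modules.pullback g).obj T.X₃) :=
      (isZero_pullback_push j g _ hmeet).of_iso ((Scheme.Modules.pullback g).mapIso a₃)
    haveI : Epi (T.map (Scheme.Modules.pullback g)).f :=
      ((T.map (Scheme.Modules.pullback g)).exact_iff_epi (hzero.eq_of_tgt _ _)).1 hTg
    rw [Functor.map_comp]
    haveI : Epi ((Scheme.Modules.pullback g).map T.f) := inferInstanceAs (Epi (T.map (Scheme.Modules.pullback g)).f)
    infer_instance
  let adg := Scheme.Modules.pullbackPushforwardAdjunction g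
  haveI : IsIso (adg.unit.app ((Coh.push g).obj G')) := DevissLib.isIso_unit_of_killed g (CycKSuppLib.killed_push g G')
  haveI : IsIso (adg.unit.app T.X₁) := by
    have h := adg.unit.naturality a₁.inv
    haveI : IsIso (a₁.inv ≫ adg.unit.app T.X₁) := by
      rw [show a₁.inv ≫ adg.unit.app T.X₁ = _ from h]
      infer_instance
    exact IsIso.of_isIso_comp_left a₁.inv _
  haveI := CycKSuppLib.isIso_counit g G'
  let u : pb g T.X₁ ≅ G' := (Scheme.Modules.pullback g).mapIso a₁ ≪≫ CycKSuppLib.pullPushIso g G'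
  have hXi : PicF.IsInvertible (pb g T.X₁) :=
    HilbPolyLib.isInvertible_of_iso u.symm (HilbPolyLib.isInvertible_tensor (AmpleDevLib.isInvertible_pb g hN) hG)
  haveI : IsIso ((Scheme.Modules.pullback g).map f) :=
    CohCmpLib.isIso_of_epi_rank_one (CurvLib.locFree_of_isInvertible hXi)
      (CurvLib.locFree_of_isInvertible (AmpleDevLib.isInvertible_pb g hN)) _
  obtain ⟨v, hv⟩ := exists_genOn_of_iso hgl.some
  let ps : Γ(pb g N, ⊤) := puSec g s
  let y : Γ(pb g T.X₁, ⊤) := (inv ((Scheme.Modules.pullback g).map f)).app ⊤ (v - ps)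
  let x : Γ(T.X₁, ⊤) := (inv (adg.unit.app T.X₁)).app ⊤ y
  have hx : puSec g x = y := by
    show (inv (adg.unit.app T.X₁) ≫ adg.unit.app T.X₁).app ⊤ y = y
    rw [IsIso.inv_hom_id]
    rfl
  have hv' : puSec g (s + f.app ⊤ x) = v := by
    have h1 : puSec g (f.app ⊤ x) = v - ps := by
      rw [← KFlatLib.puSec_natural, hx]
      show (inv ((Scheme.Modules.pullback g).map f) ≫ (Scheme.Modules.pullback g).map f).app ⊤ (v - ps) = _
      rw [IsIso.inv_hom_id]
      rfl
    refine (map_add ((adg.unit.app N).app ⊤).hom s (f.app ⊤ x)).trans ?_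
    exact (congrArg (ps + ·) h1).trans (add_sub_cancel ps v)
  have hqf : q.app ⊤ (f.app ⊤ x) = 0 := by
    show (f ≫ q).app ⊤ x = 0
    have : f ≫ q = 0 := by
      simp only [f, q, Category.assoc, Iso.hom_inv_id_assoc]
      rw [reassoc_of% T.zero, zero_comp]
    rw [this]
    rfl
  have hφ' : φ.app ⊤ (puSec j (s + f.app ⊤ x) : Γ(pb j N, ⊤)) = t := by
    have h := (adj.homEquiv N (pb j N)).apply_symm_apply q
    rw [Adjunction.homEquiv_unit] at h
    refine (congrArg (fun r : N ⟶ (Coh.push j).obj (pb j N) => r.app ⊤ (s + f.app ⊤ x)) h).trans ?_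
    rw [map_add, hq, hqf, add_zero]
  refine hfin (s + f.app ⊤ x) fun w => ?_
  rcases hcover w with ⟨z', rfl⟩ | ⟨b, rfl⟩
  · exact hj _ (genOn_of_app (AmpleDevLib.isInvertible_pb j hN) (AmpleDevLib.isInvertible_pb j hN) φ _
      (by rw [hφ']; exact ht)) z'
  · refine (AmpleDevLib.genSet_puSec g hN _).le (show GenAt (pb g N) _ _ from ?_)
    rw [hv']
    exact hv.genAt (show b ∈ (⊤ : C.Opens) from trivial)

end Peel

end RegConLib
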